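import Cfsg.Prelude.Def_Blocks
import Mathlib.LinearAlgebra.Eigenspace.Semisimple
import Mathlib.LinearAlgebra.Semisimple
import Mathlib.Analysis.Complex.Polynomial.Basic
import Mathlib.LinearAlgebra.FiniteDimensional.Lemmas

/-!
# Basic character theory for `Cfsg.IsCharacter` / `Cfsg.IsIrrCharacter` (helper80)

Bridging lemmas between Mathlib representations and the vocabulary of `Def_Characters`.
-/

set_option autoImplicit false

namespace Cfsg.Agent.Lib.Helper80

open Cfsg Module Polynomial Representation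
open scoped ComplexConjugate

universe u v w

section transport

variable {G : Type u} [Group G] {V : Type v} [AddCommGroup V] [Module ℂ V]
  {W : Type w} [AddCommGroup W] [Module ℂ W]

/-- Transport a representation along a linear equivalence. -/
noncomputable def repConj (e : V ≃ₗ[ℂ] W)
    (ρ : Representation ℂ G V) : Representation ℂ G W :=
  (e.conjAlgEquiv ℂ : Module.End ℂ V ≃ₐ[ℂ] Module.End ℂ W).toAlgHom.toRingHom.toMonoidHom.comp ρ

theorem repConj_apply (e : V ≃ₗ[ℂ] W) (ρ : Representation ℂ G V) (g : G) :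
    repConj e ρ g = e.conj (ρ g) := rfl

/-- The transported representation is equivalent to the original one. -/
noncomputable def repConjEquiv (e : V ≃ₗ[ℂ] W) (ρ : Representation ℂ G V) :
    Representation.Equiv ρ (repConj e ρ) :=
  Representation.Equiv.mk e (fun g => by
    ext v
    simp [repConj_apply, LinearEquiv.conj_apply])

/-- Image of a subrepresentation under an equivalence. -/
def subrepMap {ρ : Representation ℂ G V} {σ : Representation ℂ G W} (φ : Representation.Equiv ρ σ)
    (S : Subrepresentation ρ) : Subrepresentation σ where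
  toSubmodule := S.toSubmodule.map φ.toLinearEquiv.toLinearMap
  apply_mem_toSubmodule g w hw := by
    obtain ⟨v, hv, rfl⟩ := hw
    exact ⟨ρ g v, S.apply_mem_toSubmodule g hv, (IntertwiningMap.isIntertwining _ _ φ.toIntertwiningMap g v)⟩

theorem mem_subrepMap {ρ : Representation ℂ G V} {σ : Representation ℂ G W}
    (φ : Representation.Equiv ρ σ) (S : Subrepresentation ρ) (w : W) :
    w ∈ subrepMap φ S ↔ ∃ v ∈ S, φ v = w := Iff.rfl

/-- Equivalent representations have isomorphic lattices of subrepresentations. -/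
def subrepOrderIso {ρ : Representation ℂ G V} {σ : Representation ℂ G W}
    (φ : Representation.Equiv ρ σ) : Subrepresentation ρ ≃o Subrepresentation σ where
  toFun := subrepMap φ
  invFun := subrepMap φ.symm
  left_inv S := by
    ext v
    constructor
    · rintro ⟨w, ⟨v', hv', rfl⟩, rfl⟩
      simpa using hv'
    · intro hv
      exact ⟨φ v, ⟨v, hv, rfl⟩, by simp⟩
  right_inv S := by
    ext v
    constructor
    · rintro ⟨w, ⟨v', hv', rfl⟩, rfl⟩
      simpa using hv'
    · intro hv
      exact ⟨φ.symm v, ⟨v, hv, rfl⟩, by simp⟩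
  map_rel_iff' := by
    intro S T
    constructor
    · intro h v hv
      obtain ⟨v', hv', h'⟩ := h (⟨v, hv, rfl⟩ : φ v ∈ subrepMap φ S)
      have : v' = v := φ.toLinearEquiv.injective h'
      exact this ▸ hv'
    · rintro h w ⟨v, hv, rfl⟩
      exact ⟨v, h hv, rfl⟩

theorem isIrreducible_of_equiv {ρ : Representation ℂ G V} {σ : Representation ℂ G W}
    (φ : Representation.Equiv ρ σ) (h : ρ.IsIrreducible) : σ.IsIrreducible :=
  (OrderIso.isSimpleOrder_iff (subrepOrderIso φ)).mp h

variable [FiniteDimensional ℂ V]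

/-- The character of any finite-dimensional complex representation is a character in the
sense of `Cfsg.IsCharacter`. -/
theorem isCharacter_of_rep (ρ : Representation ℂ G V) : IsCharacter G ρ.character := by
  let e : V ≃ₗ[ℂ] (Fin (Module.finrank ℂ V) → ℂ) := (Module.finBasis ℂ V).equivFun
  exact ⟨Module.finrank ℂ V, repConj e ρ, (char_iso (repConjEquiv e ρ)).symm⟩

/-- The character of any finite-dimensional irreducible complex representation is an irreducible
character in the sense of `Cfsg.IsIrrCharacter`. -/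
theorem isIrrCharacter_of_rep (ρ : Representation ℂ G V) (h : ρ.IsIrreducible) :
    IsIrrCharacter G ρ.character := by
  let e : V ≃ₗ[ℂ] (Fin (Module.finrank ℂ V) → ℂ) := (Module.finBasis ℂ V).equivFun
  exact ⟨Module.finrank ℂ V, repConj e ρ, isIrreducible_of_equiv (repConjEquiv e ρ) h,
    (char_iso (repConjEquiv e ρ)).symm⟩

end transport

section basic

variable {G : Type u} [Group G]

theorem isCharacter_of_isIrr {χ : G → ℂ} (h : IsIrrCharacter G χ) : IsCharacter G χ := by
  obtain ⟨n, ρ, -, rfl⟩ := h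
  exact ⟨n, ρ, rfl⟩

theorem isClassFunction_of_isCharacter {χ : G → ℂ} (h : IsCharacter G χ) :
    IsClassFunction G χ := by
  obtain ⟨n, ρ, rfl⟩ := h
  intro g x
  exact char_conj ρ g x

theorem char_conj_eq {χ : G → ℂ} (h : IsCharacter G χ) (g x : G) :
    χ (x * g * x⁻¹) = χ g := isClassFunction_of_isCharacter h g x

theorem char_conj_eq' {χ : G → ℂ} (h : IsCharacter G χ) (g x : G) :
    χ (x⁻¹ * g * x) = χ g := by
  simpa using isClassFunction_of_isCharacter h g x⁻¹

theorem char_mul_comm' {χ : G → ℂ} (h : IsCharacter G χ) (g x : G) :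
    χ (g * x) = χ (x * g) := by
  obtain ⟨n, ρ, rfl⟩ := h
  exact char_mul_comm ρ x g

theorem char_eq_of_isConj {χ : G → ℂ} (h : IsCharacter G χ) {g x : G} (hc : IsConj g x) :
    χ g = χ x := by
  obtain ⟨c, hc⟩ := isConj_iff.mp hc
  rw [← hc, char_conj_eq h]

/-- The value of a character at `1` is a natural number. -/
theorem char_one_eq_natCast {χ : G → ℂ} (h : IsCharacter G χ) : ∃ n : ℕ, χ 1 = n := by
  obtain ⟨n, ρ, rfl⟩ := h
  exact ⟨_, char_one ρ⟩

theorem charDegree_natCast {χ : G → ℂ} {n : ℕ} (h : χ 1 = n) : charDegree χ = n := by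
  simp [charDegree, h]

theorem char_one_eq_charDegree {χ : G → ℂ} (h : IsCharacter G χ) :
    χ 1 = (charDegree χ : ℂ) := by
  obtain ⟨n, hn⟩ := char_one_eq_natCast h
  rw [charDegree_natCast hn, hn]

/-- An irreducible character has positive degree. -/
theorem charDegree_pos_of_isIrr {χ : G → ℂ} (h : IsIrrCharacter G χ) : 0 < charDegree χ := by
  obtain ⟨n, ρ, hirr, rfl⟩ := h
  have h1 : ρ.character 1 = (Module.finrank ℂ (Fin n → ℂ) : ℂ) := char_one ρ
  rw [charDegree_natCast h1]
  have : Nontrivial (Subrepresentation ρ) := hirr.toNontrivial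
  by_contra h0
  have h0 : Module.finrank ℂ (Fin n → ℂ) = 0 := by omega
  have hsub : Subsingleton (Fin n → ℂ) := by
    have : n = 0 := by simpa using h0
    subst this
    infer_instance
  obtain ⟨S, T, hST⟩ := this
  apply hST
  ext v
  rw [Subsingleton.elim v 0]
  exact ⟨fun _ => T.toSubmodule.zero_mem, fun _ => S.toSubmodule.zero_mem⟩

theorem char_one_ne_zero_of_isIrr {χ : G → ℂ} (h : IsIrrCharacter G χ) : χ 1 ≠ 0 := by
  rw [char_one_eq_charDegree (isCharacter_of_isIrr h)]
  exact_mod_cast (charDegree_pos_of_isIrr h).ne'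

end basic


section linalg

/-- An endomorphism of finite order of a finite-dimensional complex vector space has a basis of
eigenvectors whose eigenvalues are roots of unity. -/
theorem exists_eigenbasis_of_pow_eq_one {V : Type v} [AddCommGroup V] [Module ℂ V]
    [FiniteDimensional ℂ V] (f : Module.End ℂ V) {m : ℕ} (hm : 0 < m) (hf : f ^ m = 1) :
    ∃ (b : Basis (Fin (finrank ℂ V)) ℂ V) (μ : Fin (finrank ℂ V) → ℂ),
      (∀ i, f (b i) = μ i • b i) ∧ ∀ i, μ i ^ m = 1 := by
  classical
  have hsq : Squarefree (X ^ m - 1 : ℂ[X]) := by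
    have : (X ^ m - C (1 : ℂ) : ℂ[X]).Separable :=
      separable_X_pow_sub_C (1 : ℂ) (by exact_mod_cast hm.ne') one_ne_zero
    rw [map_one] at this
    exact this.squarefree
  have hss : f.IsSemisimple := by
    apply Module.End.isSemisimple_of_squarefree_aeval_eq_zero hsq
    simp [hf]
  have eigenDecomp := DirectSum.isInternal_submodule_of_iSupIndep_of_iSup_eq_top
    f.eigenspaces_iSupIndep hss.iSup_eigenspace_eq_top
  let I := (ν : ℂ) × Fin (finrank ℂ (f.eigenspace ν))
  let v : Basis I ℂ V := eigenDecomp.collectedBasis fun μ ↦ finBasis ℂ (f.eigenspace μ)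
  have : Fintype I := FiniteDimensional.fintypeBasisIndex v
  let μ : I → ℂ := Sigma.fst
  have hsv (i : I) : f (v i) = μ i • v i :=
    Module.End.mem_eigenspace_iff.mp (eigenDecomp.collectedBasis_mem _ i)
  have hcard : Fintype.card I = finrank ℂ V := (finrank_eq_card_basis v).symm
  let e : I ≃ Fin (finrank ℂ V) := Fintype.equivFinOfCardEq hcard
  refine ⟨v.reindex e, fun i => μ (e.symm i), fun i => ?_, fun i => ?_⟩
  · simp [hsv]
  · have h1 : (f ^ m) (v (e.symm i)) = (μ (e.symm i)) ^ m • v (e.symm i) := by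
      have : ∀ k : ℕ, (f ^ k) (v (e.symm i)) = (μ (e.symm i)) ^ k • v (e.symm i) := by
        intro k
        induction k with
        | zero => simp
        | succ k ih =>
          rw [pow_succ, Module.End.mul_apply, hsv, map_smul, ih, smul_smul, pow_succ]
          ring_nf
      exact this m
    rw [hf, Module.End.one_apply] at h1
    have hne : v (e.symm i) ≠ 0 := v.ne_zero _
    have : ((μ (e.symm i)) ^ m - 1) • v (e.symm i) = 0 := by
      rw [sub_smul, ← h1, one_smul, sub_self]
    rcases smul_eq_zero.mp this with h | h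
    · exact sub_eq_zero.mp h
    · exact absurd h hne

theorem trace_eq_sum_of_eigenbasis {V : Type v} [AddCommGroup V] [Module ℂ V]
    {ι : Type*} [Fintype ι] [DecidableEq ι] (b : Basis ι ℂ V) (f : Module.End ℂ V) (μ : ι → ℂ)
    (h : ∀ i, f (b i) = μ i • b i) : LinearMap.trace ℂ V f = ∑ i, μ i := by
  rw [LinearMap.trace_eq_matrix_trace ℂ b f, Matrix.trace]
  refine Finset.sum_congr rfl fun i _ => ?_
  simp [LinearMap.toMatrix_apply, h]

theorem eq_of_eigenbasis {V : Type v} [AddCommGroup V] [Module ℂ V]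
    {ι : Type*} (b : Basis ι ℂ V) (f f' : Module.End ℂ V) (μ : ι → ℂ)
    (h : ∀ i, f (b i) = μ i • b i) (h' : ∀ i, f' (b i) = μ i • b i) : f = f' :=
  b.ext fun i => by rw [h, h']

/-- A complex number of norm one with real part one is one. -/
theorem eq_one_of_norm_eq_one_of_re_eq_one {z : ℂ} (h1 : ‖z‖ = 1) (h2 : z.re = 1) : z = 1 := by
  have h3 : z.re ^ 2 + z.im ^ 2 = 1 := by
    have := Complex.sq_norm z
    rw [h1, Complex.normSq_apply] at this
    nlinarith [this]
  have h4 : z.im = 0 := by
    rw [h2] at h3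
    nlinarith [h3]
  exact Complex.ext (by simp [h2]) (by simp [h4])

theorem norm_eq_one_of_pow_eq_one {z : ℂ} {m : ℕ} (hm : 0 < m) (h : z ^ m = 1) : ‖z‖ = 1 :=
  Complex.norm_eq_one_of_pow_eq_one h hm.ne'

theorem inv_eq_conj_of_pow_eq_one {z : ℂ} {m : ℕ} (hm : 0 < m) (h : z ^ m = 1) :
    z⁻¹ = conj z :=
  Complex.inv_eq_conj (norm_eq_one_of_pow_eq_one hm h)

/-- If a sum of `n` complex numbers of norm one equals `n`, all of them equal one. -/
theorem eq_one_of_sum_eq_card {ι : Type*} [Fintype ι] (μ : ι → ℂ) (h1 : ∀ i, ‖μ i‖ = 1)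
    (hs : ∑ i, μ i = (Fintype.card ι : ℂ)) (i : ι) : μ i = 1 := by
  have hre : ∑ i, (μ i).re = (Fintype.card ι : ℝ) := by
    have := congrArg Complex.re hs
    simpa using this
  have hle : ∀ i, (μ i).re ≤ 1 := fun i => by
    have := Complex.re_le_norm (μ i)
    rw [h1 i] at this
    exact this
  have heq : ∀ i ∈ Finset.univ, (μ i).re = 1 := by
    have hsum : ∑ i : ι, (μ i).re = ∑ _i : ι, (1 : ℝ) := by
      rw [hre]; simp
    exact (Finset.sum_eq_sum_iff_of_le (fun i _ => hle i)).mp hsum
  exact eq_one_of_norm_eq_one_of_re_eq_one (h1 i) (heq i (Finset.mem_univ i))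

/-- If a sum of `n` complex numbers of norm one has norm `n`, all of them are equal. -/
theorem eq_of_norm_sum_eq_card {ι : Type*} [Fintype ι] (μ : ι → ℂ) (h1 : ∀ i, ‖μ i‖ = 1)
    (hs : ‖∑ i, μ i‖ = (Fintype.card ι : ℝ)) (i j : ι) : μ i = μ j := by
  have hpos : 0 < (Fintype.card ι : ℝ) := by
    have : 0 < Fintype.card ι := Fintype.card_pos_iff.mpr ⟨i⟩
    exact_mod_cast this
  set s := ∑ i, μ i with hsdef
  have hs0 : s ≠ 0 := by
    intro h0
    rw [h0, norm_zero] at hs
    linarith
  set u : ℂ := s / (‖s‖ : ℂ) with hu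
  have hnorm_ne : (‖s‖ : ℂ) ≠ 0 := by
    exact_mod_cast (norm_ne_zero_iff.mpr hs0)
  have hu1 : ‖u‖ = 1 := by
    rw [hu, norm_div, Complex.norm_real, norm_norm, div_self (norm_ne_zero_iff.mpr hs0)]
  have hu0 : u ≠ 0 := by
    intro h; rw [h, norm_zero] at hu1; exact zero_ne_one hu1
  have key : ∑ i, μ i * u⁻¹ = (Fintype.card ι : ℂ) := by
    rw [← Finset.sum_mul, ← hsdef, hu]
    rw [inv_div, mul_div_assoc', mul_comm, mul_div_assoc, div_self hs0, mul_one, hs]
    simp
  have h1' : ∀ i, ‖μ i * u⁻¹‖ = 1 := fun i => by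
    rw [norm_mul, norm_inv, h1, hu1]; simp
  have hi := eq_one_of_sum_eq_card (fun i => μ i * u⁻¹) h1' key i
  have hj := eq_one_of_sum_eq_card (fun i => μ i * u⁻¹) h1' key j
  have : μ i * u⁻¹ = μ j * u⁻¹ := by rw [hi, hj]
  exact mul_right_cancel₀ (inv_ne_zero hu0) this

end linalg

section rep

variable {G : Type u} [Group G] [Finite G] {V : Type v} [AddCommGroup V] [Module ℂ V]
  [FiniteDimensional ℂ V] (ρ : Representation ℂ G V)

omit [Finite G] [FiniteDimensional ℂ V] in
theorem rep_pow_orderOf (g : G) : (ρ g) ^ orderOf g = 1 := by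
  rw [← map_pow, pow_orderOf_eq_one, map_one]

/-- Simultaneous eigen-decomposition data for `ρ g`: a basis of eigenvectors, with eigenvalues
that are `orderOf g`-th roots of unity; the character values on all powers of `g` are the power
sums of the eigenvalues. -/
theorem exists_eigenbasis_rep (g : G) :
    ∃ (b : Basis (Fin (finrank ℂ V)) ℂ V) (μ : Fin (finrank ℂ V) → ℂ),
      (∀ i, ρ g (b i) = μ i • b i) ∧ (∀ i, μ i ^ orderOf g = 1) ∧
      (∀ k : ℕ, ρ.character (g ^ k) = ∑ i, μ i ^ k) ∧
      (∀ k : ℕ, ∀ i, ρ (g ^ k) (b i) = μ i ^ k • b i) := by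
  obtain ⟨b, μ, h1, h2⟩ := exists_eigenbasis_of_pow_eq_one (ρ g) (orderOf_pos g)
    (rep_pow_orderOf ρ g)
  have h4 : ∀ k : ℕ, ∀ i, ρ (g ^ k) (b i) = μ i ^ k • b i := by
    intro k i
    induction k with
    | zero => simp
    | succ k ih =>
      rw [pow_succ, map_mul, Module.End.mul_apply, h1, map_smul, ih, smul_smul, pow_succ]
      ring_nf
  refine ⟨b, μ, h1, h2, fun k => ?_, h4⟩
  exact trace_eq_sum_of_eigenbasis b (ρ (g ^ k)) (fun i => μ i ^ k) (h4 k)

theorem rep_char_inv (g : G) : ρ.character g⁻¹ = conj (ρ.character g) := by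
  obtain ⟨b, μ, h1, h2, h3, h4⟩ := exists_eigenbasis_rep ρ g
  have hg : g⁻¹ = g ^ (orderOf g - 1) := by
    rw [eq_comm, ← mul_eq_one_iff_eq_inv, ← pow_succ, Nat.sub_add_cancel (orderOf_pos g),
      pow_orderOf_eq_one]
  have hg1 : ρ.character g = ∑ i, μ i := by simpa using h3 1
  rw [hg, h3, hg1, map_sum]
  refine Finset.sum_congr rfl fun i _ => ?_
  rw [← inv_eq_conj_of_pow_eq_one (orderOf_pos g) (h2 i)]
  have hne : μ i ≠ 0 := by
    intro h0
    have := h2 i
    rw [h0, zero_pow (orderOf_pos g).ne'] at this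
    exact zero_ne_one this
  apply eq_inv_of_mul_eq_one_left
  rw [← pow_succ, Nat.sub_add_cancel (orderOf_pos g), h2]

theorem rep_norm_char_le (g : G) : ‖ρ.character g‖ ≤ finrank ℂ V := by
  obtain ⟨b, μ, h1, h2, h3, h4⟩ := exists_eigenbasis_rep ρ g
  have hg1 : ρ.character g = ∑ i, μ i := by simpa using h3 1
  rw [hg1]
  calc ‖∑ i, μ i‖ ≤ ∑ i, ‖μ i‖ := norm_sum_le _ _
    _ = ∑ _i : Fin (finrank ℂ V), (1 : ℝ) := by
      refine Finset.sum_congr rfl fun i _ => norm_eq_one_of_pow_eq_one (orderOf_pos g) (h2 i)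
    _ = finrank ℂ V := by simp

theorem rep_char_eq_finrank_iff (g : G) : ρ.character g = finrank ℂ V ↔ ρ g = 1 := by
  constructor
  · intro h
    obtain ⟨b, μ, h1, h2, h3, h4⟩ := exists_eigenbasis_rep ρ g
    have hg1 : ρ.character g = ∑ i, μ i := by simpa using h3 1
    rw [hg1] at h
    have hμ : ∀ i, μ i = 1 := eq_one_of_sum_eq_card μ
      (fun i => norm_eq_one_of_pow_eq_one (orderOf_pos g) (h2 i)) (by simpa using h)
    refine b.ext fun i => ?_
    rw [h1, hμ, one_smul, Module.End.one_apply]
  · intro h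
    rw [character, h]
    simp

/-- If `‖χ(g)‖ = χ(1)` then `ρ g` is a scalar. -/
theorem rep_norm_char_eq_finrank_iff (g : G) :
    ‖ρ.character g‖ = finrank ℂ V ↔ ∃ c : ℂ, ρ g = c • (1 : Module.End ℂ V) := by
  constructor
  · intro h
    obtain ⟨b, μ, h1, h2, h3, h4⟩ := exists_eigenbasis_rep ρ g
    have hg1 : ρ.character g = ∑ i, μ i := by simpa using h3 1
    rw [hg1] at h
    have hμ : ∀ i j, μ i = μ j := eq_of_norm_sum_eq_card μ
      (fun i => norm_eq_one_of_pow_eq_one (orderOf_pos g) (h2 i)) (by simpa using h)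
    rcases Nat.eq_zero_or_pos (finrank ℂ V) with h0 | hpos
    · refine ⟨1, ?_⟩
      have : Subsingleton V := Module.finrank_zero_iff.mp h0
      exact LinearMap.ext fun v => Subsingleton.elim _ _
    · refine ⟨μ ⟨0, hpos⟩, b.ext fun i => ?_⟩
      rw [h1, hμ i ⟨0, hpos⟩]
      simp
  · rintro ⟨c, hc⟩
    have hcm : (c ^ orderOf g) • (1 : Module.End ℂ V) = 1 := by
      have := rep_pow_orderOf ρ g
      rw [hc, smul_pow, one_pow] at this
      exact this
    rw [character, hc, map_smul, LinearMap.trace_one, norm_smul]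
    rcases Nat.eq_zero_or_pos (finrank ℂ V) with h0 | hpos
    · simp [h0]
    · have : Nontrivial V := Module.finrank_pos_iff.mp hpos
      have hc1 : c ^ orderOf g = 1 := by
        obtain ⟨v, hv⟩ := exists_ne (0 : V)
        have := LinearMap.congr_fun hcm v
        simp only [LinearMap.smul_apply, Module.End.one_apply] at this
        have h' : (c ^ orderOf g - 1) • v = 0 := by rw [sub_smul, this, one_smul, sub_self]
        rcases smul_eq_zero.mp h' with h | h
        · exact sub_eq_zero.mp h
        · exact absurd h hv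
      rw [norm_eq_one_of_pow_eq_one (orderOf_pos g) hc1]
      simp

end rep


section charlevel

variable {G : Type u} [Group G] [Finite G]

/-- For a character of a finite group, `χ g⁻¹` is the complex conjugate of `χ g`. -/
theorem char_inv_eq_conj {χ : G → ℂ} (h : IsCharacter G χ) (g : G) : χ g⁻¹ = conj (χ g) := by
  obtain ⟨n, ρ, rfl⟩ := h
  exact rep_char_inv ρ g

theorem char_conj_eq_inv {χ : G → ℂ} (h : IsCharacter G χ) (g : G) : conj (χ g) = χ g⁻¹ :=
  (char_inv_eq_conj h g).symm

/-- `‖χ g‖ ≤ χ 1` for a character of a finite group. -/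
theorem norm_char_le {χ : G → ℂ} (h : IsCharacter G χ) (g : G) : ‖χ g‖ ≤ (charDegree χ : ℝ) := by
  obtain ⟨n, ρ, rfl⟩ := h
  have h1 : ρ.character 1 = (Module.finrank ℂ (Fin n → ℂ) : ℂ) := char_one ρ
  rw [charDegree_natCast h1]
  exact rep_norm_char_le ρ g

/-- For a character afforded by `ρ`, `χ g = χ 1` iff `ρ g = 1`. -/
theorem rep_char_eq_char_one_iff {V : Type v} [AddCommGroup V] [Module ℂ V]
    [FiniteDimensional ℂ V] (ρ : Representation ℂ G V) (g : G) :
    ρ.character g = ρ.character 1 ↔ ρ g = 1 := by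
  rw [char_one]
  exact rep_char_eq_finrank_iff ρ g

/-- The kernel of a character `χ`, `{g | χ g = χ 1}`, as a subgroup. -/
def charKer (χ : G → ℂ) (h : IsCharacter G χ) : Subgroup G where
  carrier := {g | χ g = χ 1}
  one_mem' := rfl
  mul_mem' := by
    obtain ⟨n, ρ, rfl⟩ := h
    intro a b ha hb
    change ρ.character a = ρ.character 1 at ha
    change ρ.character b = ρ.character 1 at hb
    change ρ.character (a * b) = ρ.character 1
    rw [rep_char_eq_char_one_iff] at ha hb ⊢
    rw [map_mul, ha, hb, one_mul]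
  inv_mem' := by
    obtain ⟨n, ρ, rfl⟩ := h
    intro a ha
    change ρ.character a = ρ.character 1 at ha
    change ρ.character a⁻¹ = ρ.character 1
    rw [rep_char_eq_char_one_iff] at ha ⊢
    have := ρ.map_mul a⁻¹ a
    rw [inv_mul_cancel, map_one, ha, mul_one] at this
    exact this.symm

theorem mem_charKer {χ : G → ℂ} (h : IsCharacter G χ) (g : G) :
    g ∈ charKer χ h ↔ χ g = χ 1 := Iff.rfl

theorem coe_charKer {χ : G → ℂ} (h : IsCharacter G χ) :
    (charKer χ h : Set G) = {g | χ g = χ 1} := rfl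

instance charKer_normal {χ : G → ℂ} (h : IsCharacter G χ) : (charKer χ h).Normal := by
  constructor
  intro a ha x
  rw [mem_charKer] at ha ⊢
  rw [char_conj_eq h, ha]

/-- Elements of the kernel of `χ` can be cancelled inside `χ`. -/
theorem char_mul_of_mem_charKer {χ : G → ℂ} (h : IsCharacter G χ) {a : G}
    (ha : a ∈ charKer χ h) (x : G) : χ (a * x) = χ x := by
  rw [mem_charKer] at ha
  obtain ⟨n, ρ, rfl⟩ := h
  rw [rep_char_eq_char_one_iff] at ha
  simp only [character, map_mul, ha, one_mul]

theorem char_mul_of_mem_charKer' {χ : G → ℂ} (h : IsCharacter G χ) {a : G}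
    (ha : a ∈ charKer χ h) (x : G) : χ (x * a) = χ x := by
  rw [char_mul_comm' h, char_mul_of_mem_charKer h ha]

/-- The centre `Z(χ) = {g | ‖χ g‖ = χ 1}` of a character, as a subgroup. -/
def charCenter (χ : G → ℂ) (h : IsCharacter G χ) : Subgroup G where
  carrier := {g | ‖χ g‖ = ‖χ 1‖}
  one_mem' := rfl
  mul_mem' := by
    obtain ⟨n, ρ, rfl⟩ := h
    intro a b ha hb
    change ‖ρ.character a‖ = ‖ρ.character 1‖ at ha
    change ‖ρ.character b‖ = ‖ρ.character 1‖ at hb
    change ‖ρ.character (a * b)‖ = ‖ρ.character 1‖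
    simp only [char_one, Complex.norm_natCast] at ha hb ⊢
    rw [rep_norm_char_eq_finrank_iff] at ha hb ⊢
    obtain ⟨c, hc⟩ := ha
    obtain ⟨d, hd⟩ := hb
    exact ⟨c * d, by rw [map_mul, hc, hd, smul_mul_smul_comm, mul_one]⟩
  inv_mem' := by
    obtain ⟨n, ρ, rfl⟩ := h
    intro a ha
    change ‖ρ.character a‖ = ‖ρ.character 1‖ at ha
    change ‖ρ.character a⁻¹‖ = ‖ρ.character 1‖
    rw [rep_char_inv, Complex.norm_conj]
    exact ha

theorem mem_charCenter {χ : G → ℂ} (h : IsCharacter G χ) (g : G) :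
    g ∈ charCenter χ h ↔ ‖χ g‖ = ‖χ 1‖ := Iff.rfl

instance charCenter_normal {χ : G → ℂ} (h : IsCharacter G χ) : (charCenter χ h).Normal := by
  constructor
  intro a ha x
  rw [mem_charCenter] at ha ⊢
  rw [char_conj_eq h, ha]

theorem charKer_le_charCenter {χ : G → ℂ} (h : IsCharacter G χ) :
    charKer χ h ≤ charCenter χ h := by
  intro g hg
  rw [mem_charKer] at hg
  rw [mem_charCenter, hg]

end charlevel

section ops

variable {G : Type u} [Group G]

theorem isCharacter_zero : IsCharacter G (0 : G → ℂ) := by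
  refine ⟨0, 1, ?_⟩
  ext g
  simp [character]

theorem rep_char_prod {V : Type v} [AddCommGroup V] [Module ℂ V] [FiniteDimensional ℂ V]
    {W : Type w} [AddCommGroup W] [Module ℂ W] [FiniteDimensional ℂ W]
    (ρ : Representation ℂ G V) (σ : Representation ℂ G W) :
    (ρ.prod σ).character = ρ.character + σ.character := by
  ext g
  have : (ρ.prod σ) g = (ρ g).prodMap (σ g) := rfl
  simp only [character, this, LinearMap.trace_prodMap', Pi.add_apply]

theorem isCharacter_add {χ ψ : G → ℂ} (hχ : IsCharacter G χ) (hψ : IsCharacter G ψ) :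
    IsCharacter G (χ + ψ) := by
  obtain ⟨n, ρ, rfl⟩ := hχ
  obtain ⟨m, σ, rfl⟩ := hψ
  rw [← rep_char_prod]
  exact isCharacter_of_rep _

theorem isCharacter_mul {χ ψ : G → ℂ} (hχ : IsCharacter G χ) (hψ : IsCharacter G ψ) :
    IsCharacter G (χ * ψ) := by
  obtain ⟨n, ρ, rfl⟩ := hχ
  obtain ⟨m, σ, rfl⟩ := hψ
  rw [← char_tensor]
  exact isCharacter_of_rep _

theorem isCharacter_sum {ι : Type*} (s : Finset ι) (f : ι → G → ℂ)
    (h : ∀ i ∈ s, IsCharacter G (f i)) : IsCharacter G (∑ i ∈ s, f i) := by
  classical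
  induction s using Finset.induction with
  | empty => simpa using isCharacter_zero
  | insert i s hi ih =>
    rw [Finset.sum_insert hi]
    exact isCharacter_add (h i (Finset.mem_insert_self i s))
      (ih fun j hj => h j (Finset.mem_insert_of_mem hj))

theorem isCharacter_nsmul (n : ℕ) {χ : G → ℂ} (hχ : IsCharacter G χ) :
    IsCharacter G (n • χ) := by
  induction n with
  | zero => simpa using isCharacter_zero
  | succ n ih => rw [succ_nsmul]; exact isCharacter_add ih hχ

/-- Pulling back a character along a group homomorphism (restriction, inflation) gives a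
character. -/
theorem isCharacter_comp {H : Type v} [Group H] (f : H →* G) {χ : G → ℂ} (hχ : IsCharacter G χ) :
    IsCharacter H (fun h => χ (f h)) := by
  obtain ⟨n, ρ, rfl⟩ := hχ
  exact ⟨n, ρ.comp f, rfl⟩

theorem isCharacter_restrict (H : Subgroup G) {χ : G → ℂ} (hχ : IsCharacter G χ) :
    IsCharacter H (fun h : H => χ h) :=
  isCharacter_comp H.subtype hχ

/-- The (pointwise) complex conjugate of a character of a finite group is a character
(it is afforded by the dual representation). -/
theorem isCharacter_conj [Finite G] {χ : G → ℂ} (hχ : IsCharacter G χ) :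
    IsCharacter G (fun g => conj (χ g)) := by
  have h : (fun g => conj (χ g)) = fun g => χ g⁻¹ := by
    ext g; exact char_conj_eq_inv hχ g
  rw [h]
  obtain ⟨n, ρ, rfl⟩ := hχ
  have : (fun g => ρ.character g⁻¹) = ρ.dual.character := by
    ext g; exact (char_dual ρ g).symm
  rw [this]
  exact isCharacter_of_rep _

/-- A representation on a one-dimensional space is irreducible. -/
theorem isIrreducible_of_finrank_eq_one {V : Type v} [AddCommGroup V] [Module ℂ V]
    (ρ : Representation ℂ G V) (h : finrank ℂ V = 1) : ρ.IsIrreducible := by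
  have hso : IsSimpleOrder (Submodule ℂ V) := is_simple_module_of_finrank_eq_one h
  have hnt : Nontrivial V := Module.nontrivial_of_finrank_eq_succ h
  refine { exists_pair_ne := ⟨⊥, ⊤, ?_⟩, eq_bot_or_eq_top := fun S => ?_ }
  · intro hbt
    have := congrArg Subrepresentation.toSubmodule hbt
    exact bot_ne_top this
  · rcases hso.eq_bot_or_eq_top S.toSubmodule with h | h
    · left; exact Subrepresentation.toSubmodule_injective h
    · right; exact Subrepresentation.toSubmodule_injective h

/-- The one-dimensional representation attached to a homomorphism `G →* ℂˣ`. -/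
noncomputable def linearRep (f : G →* ℂˣ) : Representation ℂ G ℂ where
  toFun g := (f g : ℂ) • LinearMap.id
  map_one' := by simp; rfl
  map_mul' a b := by
    ext
    simp [mul_comm]

theorem linearRep_character (f : G →* ℂˣ) : (linearRep f).character = fun g => (f g : ℂ) := by
  ext g
  simp [character, linearRep]

/-- A homomorphism `G →* ℂˣ` is an irreducible character (of degree one). -/
theorem isIrrCharacter_of_hom (f : G →* ℂˣ) : IsIrrCharacter G (fun g => (f g : ℂ)) := by
  rw [← linearRep_character]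
  exact isIrrCharacter_of_rep _ (isIrreducible_of_finrank_eq_one _ (by simp))

/-- The principal character is irreducible. -/
theorem isIrrCharacter_one : IsIrrCharacter G (fun _ => (1 : ℂ)) := by
  simpa using isIrrCharacter_of_hom (1 : G →* ℂˣ)

theorem isCharacter_one : IsCharacter G (fun _ => (1 : ℂ)) :=
  isCharacter_of_isIrr isIrrCharacter_one

end ops

end Cfsg.Agent.Lib.Helper80
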