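import Cfsg.Agent.Lib.Helper80.CharBasic

/-!
# Orthogonality of irreducible characters in the `classInner` form (helper80)
-/

set_option autoImplicit false

namespace Cfsg.Agent.Lib.Helper80

open Cfsg Module Polynomial Representation
open scoped ComplexConjugate

universe u v w

section inner

variable {G : Type u} [Group G] [Fintype G]

theorem classInner_def (φ ψ : G → ℂ) :
    classInner φ ψ = (Nat.card G : ℂ)⁻¹ * ∑ g : G, φ g * conj (ψ g) := rfl

theorem card_ne_zero_complex : (Nat.card G : ℂ) ≠ 0 := by
  exact_mod_cast Nat.card_pos.ne'

theorem classInner_add_left (φ₁ φ₂ ψ : G → ℂ) :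
    classInner (φ₁ + φ₂) ψ = classInner φ₁ ψ + classInner φ₂ ψ := by
  simp only [classInner_def, Pi.add_apply, add_mul, Finset.sum_add_distrib, mul_add]

theorem classInner_add_right (φ ψ₁ ψ₂ : G → ℂ) :
    classInner φ (ψ₁ + ψ₂) = classInner φ ψ₁ + classInner φ ψ₂ := by
  simp only [classInner_def, Pi.add_apply, map_add, mul_add, Finset.sum_add_distrib]

theorem classInner_smul_left (c : ℂ) (φ ψ : G → ℂ) :
    classInner (c • φ) ψ = c * classInner φ ψ := by
  simp only [classInner_def, Pi.smul_apply, smul_eq_mul, mul_assoc, ← Finset.mul_sum]
  ring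

theorem classInner_smul_right (c : ℂ) (φ ψ : G → ℂ) :
    classInner φ (c • ψ) = conj c * classInner φ ψ := by
  simp only [classInner_def, Pi.smul_apply, smul_eq_mul, map_mul]
  rw [Finset.mul_sum, Finset.mul_sum, Finset.mul_sum]
  refine Finset.sum_congr rfl fun g _ => ?_
  ring

theorem classInner_zero_left (ψ : G → ℂ) : classInner (0 : G → ℂ) ψ = 0 := by
  simp [classInner_def]

theorem classInner_zero_right (φ : G → ℂ) : classInner φ (0 : G → ℂ) = 0 := by
  simp [classInner_def]

theorem classInner_sum_left {ι : Type*} (s : Finset ι) (f : ι → G → ℂ) (ψ : G → ℂ) :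
    classInner (∑ i ∈ s, f i) ψ = ∑ i ∈ s, classInner (f i) ψ := by
  classical
  induction s using Finset.induction with
  | empty => simp [classInner_zero_left]
  | insert i s hi ih => rw [Finset.sum_insert hi, Finset.sum_insert hi, classInner_add_left, ih]

theorem classInner_sum_right {ι : Type*} (s : Finset ι) (φ : G → ℂ) (f : ι → G → ℂ) :
    classInner φ (∑ i ∈ s, f i) = ∑ i ∈ s, classInner φ (f i) := by
  classical
  induction s using Finset.induction with
  | empty => simp [classInner_zero_right]
  | insert i s hi ih => rw [Finset.sum_insert hi, Finset.sum_insert hi, classInner_add_right, ih]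

theorem classInner_conj_symm (φ ψ : G → ℂ) : conj (classInner φ ψ) = classInner ψ φ := by
  simp only [classInner_def, map_mul, map_inv₀, map_sum, Complex.conj_conj, map_natCast]
  congr 1
  refine Finset.sum_congr rfl fun g _ => ?_
  ring

/-- First orthogonality relation, in terms of irreducible representations. -/
theorem classInner_rep_char {V : Type v} [AddCommGroup V] [Module ℂ V] [FiniteDimensional ℂ V]
    {W : Type w} [AddCommGroup W] [Module ℂ W] [FiniteDimensional ℂ W]
    (ρ : Representation ℂ G V) (σ : Representation ℂ G W) [IsIrreducible ρ] [IsIrreducible σ] :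
    classInner ρ.character σ.character =
      (open scoped Classical in if Nonempty (Representation.Equiv σ ρ) then 1 else 0) := by
  classical
  have : Invertible (Nat.card G : ℂ) := invertibleOfNonzero card_ne_zero_complex
  have h := char_orthonormal ρ σ
  rw [classInner_def]
  rw [← h]
  congr 1
  refine Finset.sum_congr rfl fun g _ => ?_
  rw [rep_char_inv]

theorem classInner_irr_self {χ : G → ℂ} (h : IsIrrCharacter G χ) : classInner χ χ = 1 := by
  obtain ⟨n, ρ, hirr, rfl⟩ := h
  have := hirr
  rw [classInner_rep_char, if_pos ⟨Representation.Equiv.refl ρ⟩]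

theorem classInner_irr_ne {χ ψ : G → ℂ} (hχ : IsIrrCharacter G χ) (hψ : IsIrrCharacter G ψ)
    (hne : χ ≠ ψ) : classInner χ ψ = 0 := by
  obtain ⟨n, ρ, hirr, rfl⟩ := hχ
  obtain ⟨m, σ, hirr', rfl⟩ := hψ
  have := hirr
  have := hirr'
  rw [classInner_rep_char, if_neg]
  rintro ⟨e⟩
  exact hne (char_iso e).symm

/-- First orthogonality relation for irreducible characters. -/
theorem classInner_irr (χ ψ : IrrCharacter G) :
    classInner (χ : G → ℂ) (ψ : G → ℂ) = (open scoped Classical in if χ = ψ then 1 else 0) := by
  classical
  by_cases h : χ = ψ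
  · subst h
    rw [if_pos rfl, classInner_irr_self χ.2]
  · rw [if_neg h]
    exact classInner_irr_ne χ.2 ψ.2 (fun h' => h (Subtype.ext h'))

/-- Two irreducible representations with the same character are equivalent. -/
theorem nonempty_equiv_of_char_eq {V : Type v} [AddCommGroup V] [Module ℂ V]
    [FiniteDimensional ℂ V] {W : Type w} [AddCommGroup W] [Module ℂ W] [FiniteDimensional ℂ W]
    (ρ : Representation ℂ G V) (σ : Representation ℂ G W) [IsIrreducible ρ] [IsIrreducible σ]
    (h : ρ.character = σ.character) : Nonempty (Representation.Equiv σ ρ) := by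
  classical
  by_contra hne
  have h1 := classInner_rep_char ρ σ
  rw [if_neg hne, ← h] at h1
  have h2 := classInner_rep_char ρ ρ
  rw [if_pos ⟨Representation.Equiv.refl ρ⟩] at h2
  rw [h1] at h2
  exact zero_ne_one h2

/-- The irreducible characters of a finite group are linearly independent. -/
theorem linearIndependent_irr :
    LinearIndependent ℂ (fun χ : IrrCharacter G => (χ : G → ℂ)) := by
  classical
  rw [linearIndependent_iff']
  intro s c hc χ hχ
  have h := congrArg (fun f => classInner f (χ : G → ℂ)) hc
  simp only [classInner_sum_left, classInner_smul_left, classInner_zero_left, classInner_irr] at h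
  rw [Finset.sum_eq_single χ] at h
  · simpa using h
  · intro ψ _ hne
    rw [if_neg hne, mul_zero]
  · intro hn
    exact absurd hχ hn

theorem card_irr_le_card : Nat.card (IrrCharacter G) ≤ Nat.card G := by
  have hfin : Finite (IrrCharacter G) := linearIndependent_irr.finite
  letI : Fintype (IrrCharacter G) := Fintype.ofFinite _
  have := linearIndependent_irr (G := G).fintype_card_le_finrank
  rw [Nat.card_eq_fintype_card, Nat.card_eq_fintype_card]
  simpa using this

end inner

/-- A finite group has finitely many irreducible characters. -/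
instance finite_irrCharacter {G : Type u} [Group G] [Finite G] : Finite (IrrCharacter G) := by
  letI : Fintype G := Fintype.ofFinite G
  exact linearIndependent_irr.finite

end Cfsg.Agent.Lib.Helper80
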