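import Cfsg.Agent.Lib.Helper80.CharBasic
import Cfsg.Agent.Lib.Helper80.CharOrth
import Cfsg.Agent.Lib.Helper77.Deflation
import Cfsg.Agent.Lib.Helper78.CharMore
import Cfsg.Agent.Lib.Helper79.Integrality

/-!
# Averaging over a normal subgroup and Gallagher's theorem (helper80)

* `navg N Φ g = |N|⁻¹ ∑ n ∈ N, Φ (n g)`.
* `navg_eq_sum`: for a class function `Φ`, `navg N Φ = ∑ β ∈ Irr(G/N), ⟨Φ, β̃⟩ β̃` (`β̃` the inflation).
* `navg_mul_conj_self`: if `χ ∈ Irr(G)` restricts irreducibly to `N` then
  `|N|⁻¹ ∑ n, |χ (n g)|² = 1` for all `g` (Isaacs 8.14).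
* `gallagher_inner`: `⟨β̃ χ, β̃' χ⟩ = δ` (Gallagher, Isaacs 6.17).
-/

set_option autoImplicit false
set_option linter.unusedSectionVars false

namespace Cfsg.Agent.Lib.Helper80

open Cfsg
open Cfsg.Agent.Lib
open scoped ComplexConjugate

universe u

section navg

variable {G : Type u} [Group G] [Fintype G] (N : Subgroup G) [hN : N.Normal] [Fintype N]

/-- The average of `Φ` over the coset `N g`. -/
noncomputable def navg (Φ : G → ℂ) : G → ℂ :=
  fun g => (Nat.card N : ℂ)⁻¹ * ∑ n : N, Φ ((n : G) * g)

omit [Fintype G] hN in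
theorem navg_apply (Φ : G → ℂ) (g : G) :
    navg N Φ g = (Nat.card N : ℂ)⁻¹ * ∑ n : N, Φ ((n : G) * g) := rfl

omit [Fintype G] hN in
/-- `navg` is invariant under left multiplication by elements of `N`. -/
theorem navg_mul_left (Φ : G → ℂ) (m : N) (g : G) : navg N Φ ((m : G) * g) = navg N Φ g := by
  unfold navg
  congr 1
  apply Fintype.sum_equiv (Equiv.mulRight m)
  intro n
  simp [mul_assoc]

omit [Fintype G] in
/-- `navg` is invariant under right multiplication by elements of `N`. -/
theorem navg_mul_right (Φ : G → ℂ) (g : G) (m : N) : navg N Φ (g * (m : G)) = navg N Φ g := by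
  have h : g * (m : G) = ((⟨g * m * g⁻¹, hN.conj_mem m m.2 g⟩ : N) : G) * g := by
    simp
  rw [h, navg_mul_left]

omit [Fintype G] in
theorem isClassFunction_navg {Φ : G → ℂ} (hΦ : IsClassFunction G Φ) :
    IsClassFunction G (navg N Φ) := by
  intro g h
  unfold navg
  congr 1
  apply Fintype.sum_equiv (MulAut.conjNormal h⁻¹ : N ≃* N).toEquiv
  intro n
  rw [← hΦ ((n : G) * (h * g * h⁻¹)) h⁻¹]
  congr 1
  simp only [MulEquiv.toEquiv_eq_coe, MulEquiv.coe_toEquiv, MulAut.conjNormal_apply, inv_inv]
  group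

omit hN in
/-- Averaging does not change the inner product with a left-`N`-invariant function. -/
theorem classInner_navg_left (Φ Ψ : G → ℂ) (hΨ : ∀ (n : N) (g : G), Ψ ((n : G) * g) = Ψ g) :
    classInner (navg N Φ) Ψ = classInner Φ Ψ := by
  unfold classInner navg
  congr 1
  have hNpos : (Nat.card N : ℂ) ≠ 0 := by
    have : 0 < Nat.card N := Nat.card_pos
    exact_mod_cast this.ne'
  have h1 : ∑ g : G, (Nat.card N : ℂ)⁻¹ * (∑ n : N, Φ ((n : G) * g)) * conj (Ψ g) =
      (Nat.card N : ℂ)⁻¹ * ∑ n : N, ∑ g : G, Φ ((n : G) * g) * conj (Ψ g) := by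
    rw [Finset.sum_comm, Finset.mul_sum]
    apply Finset.sum_congr rfl
    intro g _
    rw [mul_assoc, Finset.sum_mul]
  rw [h1]
  have h2 : ∀ n : N, ∑ g : G, Φ ((n : G) * g) * conj (Ψ g) = ∑ g : G, Φ g * conj (Ψ g) := by
    intro n
    apply Fintype.sum_equiv (Equiv.mulLeft (n : G))
    intro g
    simp only [Equiv.coe_mulLeft]
    rw [hΨ n g]
  simp only [h2, Finset.sum_const, Finset.card_univ, nsmul_eq_mul]
  rw [← Nat.card_eq_fintype_card, ← mul_assoc, inv_mul_cancel₀ hNpos, one_mul]

/-- Summation over `G` of a function pulled back from `G ⧸ N`. -/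
theorem sum_comp_mk (f : G ⧸ N → ℂ) [Fintype (G ⧸ N)] :
    ∑ g : G, f (g : G ⧸ N) = (Nat.card N : ℂ) * ∑ q : G ⧸ N, f q := by
  classical
  rw [← Finset.sum_fiberwise (s := Finset.univ) (g := fun g : G => (g : G ⧸ N))
    (f := fun g => f (g : G ⧸ N)), Finset.mul_sum]
  apply Finset.sum_congr rfl
  intro q _
  have h1 : ∀ g ∈ Finset.univ.filter (fun g : G => (g : G ⧸ N) = q), f (g : G ⧸ N) = f q := by
    intro g hg
    rw [(Finset.mem_filter.1 hg).2]
  rw [Finset.sum_congr rfl h1, Finset.sum_const, nsmul_eq_mul]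
  congr 1
  have h2 := QuotientGroup.card_preimage_mk N ({q} : Set (G ⧸ N))
  rw [Nat.card_eq_fintype_card (α := ({q} : Set (G ⧸ N))), Fintype.card_unique, mul_one] at h2
  rw [← h2, Nat.card_eq_fintype_card, Fintype.card_subtype]
  congr 2
  apply Finset.filter_congr
  intro g _
  simp

/-- Inner products of pulled back functions. -/
theorem classInner_comp_mk [Fintype (G ⧸ N)] (F β : G ⧸ N → ℂ) :
    classInner (fun g : G => F (g : G ⧸ N)) (fun g : G => β (g : G ⧸ N)) = classInner F β := by
  unfold classInner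
  rw [sum_comp_mk N (fun q => F q * conj (β q))]
  have hNpos : (Nat.card N : ℂ) ≠ 0 := by
    have : 0 < Nat.card N := Nat.card_pos
    exact_mod_cast this.ne'
  have hQpos : (Nat.card (G ⧸ N) : ℂ) ≠ 0 := by
    have : 0 < Nat.card (G ⧸ N) := Nat.card_pos
    exact_mod_cast this.ne'
  have hcard : (Nat.card G : ℂ) = (Nat.card N : ℂ) * (Nat.card (G ⧸ N) : ℂ) := by
    rw [← Subgroup.index_eq_card]
    exact_mod_cast (N.card_mul_index).symm
  rw [hcard]
  field_simp

/-- **Averaging lemma**: the `N`-average of a class function is the projection to the span of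
the characters of `G ⧸ N`. -/
theorem navg_eq_sum {Φ : G → ℂ} (hΦ : IsClassFunction G Φ) :
    navg N Φ = ∑ β : IrrCharacter (G ⧸ N),
      classInner Φ ((Helper77.inflate N β : IrrCharacter G) : G → ℂ) •
        ((Helper77.inflate N β : IrrCharacter G) : G → ℂ) := by
  classical
  let _ : Fintype (G ⧸ N) := Fintype.ofFinite _
  -- descend
  let F : G ⧸ N → ℂ := fun q => navg N Φ q.out
  have hF : ∀ g : G, F (g : G ⧸ N) = navg N Φ g := by
    intro g
    show navg N Φ (g : G ⧸ N).out = navg N Φ g
    have h1 : g⁻¹ * (g : G ⧸ N).out ∈ N := by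
      rw [← QuotientGroup.eq]
      exact (QuotientGroup.out_eq' (g : G ⧸ N)).symm
    have h2 : (g : G ⧸ N).out = g * ((⟨g⁻¹ * (g : G ⧸ N).out, h1⟩ : N) : G) := by
      simp
    rw [h2, navg_mul_right]
  have hFcf : IsClassFunction (G ⧸ N) F := by
    intro q r
    obtain ⟨g, rfl⟩ := QuotientGroup.mk_surjective q
    obtain ⟨h, rfl⟩ := QuotientGroup.mk_surjective r
    have : ((h : G ⧸ N) * (g : G ⧸ N) * (h : G ⧸ N)⁻¹) = ((h * g * h⁻¹ : G) : G ⧸ N) := by simp
    rw [this, hF, hF]
    exact isClassFunction_navg N hΦ g h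
  have hexp := Helper78.classFunction_eq_sum_irr hFcf
  funext g
  rw [← hF g, hexp, Finset.sum_apply, Finset.sum_apply]
  apply Finset.sum_congr rfl
  intro β _
  rw [Pi.smul_apply, Pi.smul_apply, Helper77.inflate_apply]
  congr 1
  -- coefficient
  rw [← classInner_comp_mk N F (β : G ⧸ N → ℂ)]
  have h3 : (fun g : G => F (g : G ⧸ N)) = navg N Φ := funext hF
  rw [h3]
  have h4 : (fun g : G => (β : G ⧸ N → ℂ) (g : G ⧸ N)) =
      ((Helper77.inflate N β : IrrCharacter G) : G → ℂ) := rfl
  rw [h4]
  apply classInner_navg_left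
  intro n g
  rw [Helper77.inflate_apply, Helper77.inflate_apply, QuotientGroup.mk_mul,
    (QuotientGroup.eq_one_iff (n : G)).2 n.2, one_mul]

end navg

section gallagher

variable {G : Type u} [Group G] [Fintype G] (N : Subgroup G) [hN : N.Normal] [Fintype N]

/-- the inflation of an irreducible character of `G ⧸ N` as a function -/
noncomputable abbrev infl (β : IrrCharacter (G ⧸ N)) : G → ℂ :=
  ((Helper77.inflate N β : IrrCharacter G) : G → ℂ)

omit [Fintype G] [Fintype N] in
theorem infl_mul_left (β : IrrCharacter (G ⧸ N)) (n : N) (g : G) :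
    infl N β ((n : G) * g) = infl N β g := by
  show ((Helper77.inflate N β : IrrCharacter G) : G → ℂ) ((n : G) * g) =
    ((Helper77.inflate N β : IrrCharacter G) : G → ℂ) g
  rw [Helper77.inflate_apply, Helper77.inflate_apply, QuotientGroup.mk_mul,
    (QuotientGroup.eq_one_iff (n : G)).2 n.2, one_mul]

/-- `⟨ψ · conj χ, β̃⟩ = ⟨ψ, β̃ χ⟩`. -/
theorem classInner_mul_conj_eq (ψ χ β : G → ℂ) :
    classInner (fun g => ψ g * conj (χ g)) β = classInner ψ (β * χ) := by
  unfold classInner
  congr 1
  apply Finset.sum_congr rfl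
  intro g _
  rw [Pi.mul_apply, map_mul]
  ring

variable {χ : G → ℂ} (hχ : IsIrrCharacter G χ) (hχN : IsIrrCharacter N (fun n : N => χ n))

include hχ hχN in
/-- **Isaacs 8.14**: if `χ_N` is irreducible then the average of `|χ|²` over every coset of `N`
is `1`. -/
theorem navg_mul_conj_self : navg N (fun g => χ g * conj (χ g)) = fun _ => 1 := by
  classical
  have hcf : IsClassFunction G χ := isClassFunction_of_isCharacter (isCharacter_of_isIrr hχ)
  have hΦcf : IsClassFunction G (fun g => χ g * conj (χ g)) := by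
    intro g h
    show χ (h * g * h⁻¹) * conj (χ (h * g * h⁻¹)) = _
    rw [hcf g h]
  have hexp := navg_eq_sum N hΦcf
  -- coefficients are natural numbers
  have hcoef : ∀ β : IrrCharacter (G ⧸ N), ∃ c : ℕ,
      classInner (fun g => χ g * conj (χ g)) (infl N β) = c := by
    intro β
    rw [classInner_mul_conj_eq]
    have hchar : IsCharacter G (infl N β * χ) :=
      isCharacter_mul (isCharacter_of_isIrr (Helper77.inflate N β).2) (isCharacter_of_isIrr hχ)
    obtain ⟨c, hc⟩ := Helper78.IsCharacter.exists_nat_classInner hchar ⟨χ, hχ⟩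
    refine ⟨c, ?_⟩
    rw [← Helper78.classInner_conj_symm, hc]
    simp
  choose c hc using hcoef
  -- the trivial character
  set t : IrrCharacter (G ⧸ N) := ⟨fun _ => (1 : ℂ), isIrrCharacter_one⟩ with ht
  have hinflt : infl N t = fun _ => (1 : ℂ) := by
    funext g
    show ((Helper77.inflate N t : IrrCharacter G) : G → ℂ) g = 1
    rw [Helper77.inflate_apply]
  have hct : c t = 1 := by
    have h1 := hc t
    rw [classInner_mul_conj_eq, hinflt] at h1
    have h2 : ((fun _ => (1 : ℂ)) * χ : G → ℂ) = χ := by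
      funext g; simp
    rw [h2, Helper78.classInner_irr_self hχ] at h1
    exact_mod_cast h1.symm
  -- evaluate at 1
  have hval : navg N (fun g => χ g * conj (χ g)) 1 = 1 := by
    rw [navg_apply]
    have h1 := Helper78.classInner_irr_self hχN
    unfold classInner at h1
    simp only [mul_one]
    exact h1
  have hdeg : ∀ β : IrrCharacter (G ⧸ N), infl N β 1 = (charDegree (β : G ⧸ N → ℂ) : ℂ) := by
    intro β
    show ((Helper77.inflate N β : IrrCharacter G) : G → ℂ) 1 = _
    rw [Helper77.inflate_apply, QuotientGroup.mk_one]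
    exact char_one_eq_charDegree (isCharacter_of_isIrr β.2)
  have hsum : (1 : ℕ) = ∑ β : IrrCharacter (G ⧸ N), c β * charDegree (β : G ⧸ N → ℂ) := by
    have h1 := congrFun hexp 1
    rw [hval] at h1
    simp only [Finset.sum_apply, Pi.smul_apply, smul_eq_mul] at h1
    have h2 : ∀ β : IrrCharacter (G ⧸ N),
        classInner (fun g => χ g * conj (χ g)) (infl N β) * infl N β 1 =
          ((c β * charDegree (β : G ⧸ N → ℂ) : ℕ) : ℂ) := by
      intro β
      rw [hc β, hdeg β]; push_cast; ring
    rw [Finset.sum_congr rfl (fun β _ => h2 β), ← Nat.cast_sum] at h1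
    exact_mod_cast h1
  rw [← Finset.add_sum_erase _ _ (Finset.mem_univ t)] at hsum
  have htdeg : charDegree (t : G ⧸ N → ℂ) = 1 := by
    apply charDegree_natCast (n := 1)
    simp [ht]
  rw [hct, htdeg] at hsum
  have hrest : ∑ β ∈ Finset.univ.erase t, c β * charDegree (β : G ⧸ N → ℂ) = 0 := by omega
  have hc0 : ∀ β : IrrCharacter (G ⧸ N), β ≠ t → c β = 0 := by
    intro β hβ
    have h1 := (Finset.sum_eq_zero_iff.1 hrest) β (Finset.mem_erase.2 ⟨hβ, Finset.mem_univ _⟩)
    have h2 : 0 < charDegree (β : G ⧸ N → ℂ) := Helper79.irr_charDegree_pos β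
    rcases Nat.mul_eq_zero.1 h1 with h | h
    · exact h
    · omega
  rw [hexp, Finset.sum_eq_single t]
  · have := hc t
    show classInner (fun g => χ g * conj (χ g)) (infl N t) • infl N t = _
    rw [this, hct, hinflt]
    funext g; simp
  · intro β _ hβ
    have := hc β
    show classInner (fun g => χ g * conj (χ g)) (infl N β) • infl N β = 0
    rw [this, hc0 β hβ]; simp
  · intro h; exact absurd (Finset.mem_univ t) h

open Classical in
include hχ hχN in
/-- **Gallagher**: the characters `β̃ χ` are orthonormal. -/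
theorem gallagher_inner (β β' : IrrCharacter (G ⧸ N)) :
    classInner (infl N β * χ) (infl N β' * χ) = if β = β' then 1 else 0 := by
  classical
  have h1 : classInner (infl N β * χ) (infl N β' * χ) =
      classInner (fun g => χ g * conj (χ g)) (fun g => conj (infl N β g) * infl N β' g) := by
    unfold classInner
    congr 1
    apply Finset.sum_congr rfl
    intro g _
    simp only [Pi.mul_apply, map_mul, Complex.conj_conj]
    ring
  rw [h1, ← classInner_navg_left N _ _ ?_, navg_mul_conj_self N hχ hχN]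
  · have h2 : classInner (fun _ : G => (1 : ℂ)) (fun g => conj (infl N β g) * infl N β' g) =
        classInner (infl N β) (infl N β') := by
      unfold classInner
      congr 1
      apply Finset.sum_congr rfl
      intro g _
      simp only [map_mul, Complex.conj_conj, one_mul]
    rw [h2]
    have h3 := classInner_irr (Helper77.inflate N β) (Helper77.inflate N β')
    show classInner ((Helper77.inflate N β : IrrCharacter G) : G → ℂ)
      ((Helper77.inflate N β' : IrrCharacter G) : G → ℂ) = _
    rw [h3]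
    by_cases h : β = β'
    · rw [if_pos h, if_pos (by rw [h])]
    · rw [if_neg h, if_neg (fun h' => h (Helper77.inflate_injective N h'))]
  · intro n g
    show conj (infl N β ((n : G) * g)) * infl N β' ((n : G) * g) = _
    rw [infl_mul_left, infl_mul_left]

include hχ hχN in
/-- **Gallagher**: `β̃ χ` is irreducible. -/
theorem gallagher_irr (β : IrrCharacter (G ⧸ N)) : IsIrrCharacter G (infl N β * χ) := by
  apply Helper78.isIrrCharacter_of_classInner_self_eq_one
  · exact isCharacter_mul (isCharacter_of_isIrr (Helper77.inflate N β).2) (isCharacter_of_isIrr hχ)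
  · rw [gallagher_inner N hχ hχN, if_pos rfl]

include hχ hχN in
/-- **Gallagher**: `β ↦ β̃ χ` is injective. -/
theorem gallagher_injective (β β' : IrrCharacter (G ⧸ N)) (h : infl N β * χ = infl N β' * χ) :
    β = β' := by
  by_contra hne
  have h1 := gallagher_inner N hχ hχN β β'
  rw [if_neg hne, h, gallagher_inner N hχ hχN, if_pos rfl] at h1
  exact one_ne_zero h1

end gallagher

end Cfsg.Agent.Lib.Helper80
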