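import Mathlib
import Cfsg.Agent.Lib.Helper75.Clifford2
import Cfsg.Agent.Lib.Helper75.Clifford3
import Cfsg.Agent.Lib.Helper75.Monomial
import Cfsg.Agent.Lib.Helper77.Deflation
import Cfsg.Agent.Lib.Helper77.Linear
import Cfsg.Agent.Lib.Helper78.CharMore
import Cfsg.Agent.Lib.Helper79.Integrality
import Cfsg.Agent.Lib.Helper80.CharBasic
import Cfsg.Prelude.Def_Local

/-!
# Ito--Michler for `p`-solvable groups (helper80)

* `exists_irr_over'`, `charDegree_dvd_of_over`, `index_inertia_dvd_charDegree`: Clifford-theoretic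
  degree divisibilities.
* `commutative_of_forall_charDegree_eq_one`: all irreducible characters linear implies abelian.
* `eq_top_of_forall_exists_conj_mem`: Jordan's lemma (no finite group is the union of the
  conjugates of a proper subgroup).
* `normal_sylow_of_invariant_classes`, `ito_michler_aux`: if every irreducible character degree
  is prime to `p`, and the group lies in a class of groups closed under quotients and subgroups
  whose nontrivial members have a nontrivial normal `p`- or `p'`-subgroup, then there is a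
  normal abelian Sylow `p`-subgroup.
-/

set_option autoImplicit false

namespace Cfsg.Agent.Lib.Helper80

open Cfsg
open scoped ComplexConjugate commutatorElement

universe u

section CharLemmas

variable {G : Type u} [Group G] [Fintype G]

/-- every irreducible character of a subgroup lies under an irreducible character of `G` -/
theorem exists_irr_over' (N : Subgroup G) [Fintype N] {θ : N → ℂ} (hθ : IsIrrCharacter N θ) :
    ∃ χ : G → ℂ, IsIrrCharacter G χ ∧ classInner (fun n : N => χ n) θ ≠ 0 := by
  by_contra hcon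
  push Not at hcon
  have h0 : indFun N θ = 0 := by
    apply Helper78.eq_zero_of_forall_classInner_irr_eq_zero (Helper75.isClassFunction_indFun N _)
    intro χ
    rw [Helper75.frobenius_reciprocity N _
      (Helper78.IsCharacter.isClassFunction (Helper78.IsIrrCharacter.isCharacter χ.2)),
      ← Helper78.classInner_conj_symm, hcon χ χ.2, map_zero]
  have h1 := congrFun h0 1
  rw [Helper75.indFun_one] at h1
  have h2 : (N.index : ℂ) ≠ 0 := by
    have : N.index ≠ 0 := Subgroup.index_ne_zero_of_finite
    exact_mod_cast this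
  exact mul_ne_zero h2 (Helper78.IsIrrCharacter.apply_one_ne_zero hθ) h1

/-- Clifford: the degree of an irreducible constituent of `χ|_N` divides `χ(1)`. -/
theorem charDegree_dvd_of_over (N : Subgroup G) [hN : N.Normal] [Fintype N] {χ : G → ℂ}
    (hχ : IsIrrCharacter G χ) {θ : N → ℂ} (hθ : IsIrrCharacter N θ)
    (hover : classInner (fun n : N => χ n) θ ≠ 0) : charDegree θ ∣ charDegree χ := by
  classical
  have hcl := Helper75.clifford_finset N hχ hθ hover
  obtain ⟨k, hk⟩ := Helper78.IsCharacter.exists_nat_classInner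
    (Helper75.isCharacter_res N (Helper78.IsIrrCharacter.isCharacter hχ)) ⟨θ, hθ⟩
  have h1 := congrFun hcl 1
  simp only [Pi.smul_apply, Finset.sum_apply, smul_eq_mul] at h1
  have h2 : ∀ φ ∈ Helper75.conjOrbit N θ, (φ : N → ℂ) 1 = θ 1 := by
    intro φ hφ
    obtain ⟨g, hg⟩ := (Helper75.mem_conjOrbit N).mp hφ
    rw [← hg, Helper75.conjFun_apply]
    congr 1
    apply Subtype.ext
    simp
  rw [Finset.sum_congr rfl h2, Finset.sum_const, nsmul_eq_mul] at h1
  change classInner (fun n : N => χ n) θ = (k : ℂ) at hk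
  rw [hk, Helper78.IsCharacter.apply_one_eq_charDegree (Helper78.IsIrrCharacter.isCharacter hθ)] at h1
  have h3 : χ 1 = (charDegree χ : ℂ) :=
    Helper78.IsCharacter.apply_one_eq_charDegree (Helper78.IsIrrCharacter.isCharacter hχ)
  change χ 1 = _ at h1
  rw [h3] at h1
  have h4 : charDegree χ = k * ((Helper75.conjOrbit N θ).card * charDegree θ) := by
    exact_mod_cast h1
  rw [h4]
  exact ⟨k * (Helper75.conjOrbit N θ).card, by ring⟩

/-- Clifford correspondence: the index of the inertia group divides `χ(1)`. -/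
theorem index_inertia_dvd_charDegree (N : Subgroup G) [hN : N.Normal] [Fintype N] {χ : G → ℂ}
    (hχ : IsIrrCharacter G χ) {θ : N → ℂ} (hθ : IsIrrCharacter N θ)
    (hover : classInner (fun n : N => χ n) θ ≠ 0) :
    (Helper75.inertia N θ).index ∣ charDegree χ := by
  classical
  set T := Helper75.inertia N θ with hT
  let _ : Fintype T := Fintype.ofFinite T
  have hNT : N ≤ T := Helper75.le_inertia N
    (Helper78.IsCharacter.isClassFunction (Helper78.IsIrrCharacter.isCharacter hθ))
  obtain ⟨ψ, hψ, hind, -⟩ :=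
    Helper75.exists_indFun_eq_of_over N T hNT hθ (fun g => Iff.rfl) hχ hover
  have h1 := congrFun hind 1
  rw [Helper75.indFun_one,
    Helper78.IsCharacter.apply_one_eq_charDegree (Helper78.IsIrrCharacter.isCharacter hψ),
    Helper78.IsCharacter.apply_one_eq_charDegree (Helper78.IsIrrCharacter.isCharacter hχ)] at h1
  have h2 : T.index * charDegree ψ = charDegree χ := by exact_mod_cast h1
  exact Dvd.intro _ h2

/-- a finite group all of whose irreducible characters are linear is abelian -/
theorem commutative_of_forall_charDegree_eq_one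
    (h : ∀ χ : IrrCharacter G, charDegree (χ : G → ℂ) = 1) : ∀ a b : G, a * b = b * a := by
  classical
  have h1 := Helper78.sum_irr_charDegree_sq (G := G)
  simp only [h, one_pow, Finset.sum_const, Finset.card_univ, smul_eq_mul, mul_one] at h1
  have h2 := Helper77.card_linear_characters (G := G)
  have h3 : Nat.card {χ : IrrCharacter G // (χ : G → ℂ) 1 = 1} = Nat.card (IrrCharacter G) := by
    apply Nat.card_congr
    refine Equiv.subtypeUnivEquiv (fun χ => ?_)
    rw [Helper78.IsCharacter.apply_one_eq_charDegree (Helper78.IsIrrCharacter.isCharacter χ.2), h χ]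
    simp
  rw [h3, Nat.card_eq_fintype_card, h1] at h2
  have h4 : commutator G = ⊥ := by
    have h5 := (commutator G).card_mul_index
    rw [← h2] at h5
    have h6 : Nat.card (commutator G) = 1 := by
      have hpos : 0 < Nat.card G := Nat.card_pos
      nlinarith
    exact Subgroup.card_eq_one.mp h6
  intro a b
  have h7 : ⁅a, b⁆ ∈ commutator G := by
    rw [commutator_def]
    exact Subgroup.commutator_mem_commutator (Subgroup.mem_top a) (Subgroup.mem_top b)
  rw [h4, Subgroup.mem_bot] at h7
  exact commutatorElement_eq_one_iff_mul_comm.mp h7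

omit [Fintype G] in
theorem charDegree_inflate (N : Subgroup G) [N.Normal] (χ' : IrrCharacter (G ⧸ N)) :
    charDegree ((Helper77.inflate N χ' : IrrCharacter G) : G → ℂ) =
      charDegree (χ' : G ⧸ N → ℂ) := by
  unfold charDegree
  rw [Helper77.inflate_apply]
  rfl

end CharLemmas

section GroupLemmas

/-- **Jordan's lemma**: a finite group is not the union of the conjugates of a proper subgroup. -/
theorem eq_top_of_forall_exists_conj_mem {M : Type*} [Group M] [Finite M] (D : Subgroup M)
    (h : ∀ m : M, ∃ k : M, k * m * k⁻¹ ∈ D) : D = ⊤ := by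
  classical
  let f : (M ⧸ D) × D → M := fun x => x.1.out * (x.2 : M) * (x.1.out)⁻¹
  have hsurj : Function.Surjective f := by
    intro m
    obtain ⟨k, hk⟩ := h m
    obtain ⟨d', hd'⟩ := QuotientGroup.mk_out_eq_mul D k⁻¹
    refine ⟨(((k⁻¹ : M) : M ⧸ D), (⟨(d' : M)⁻¹ * (k * m * k⁻¹) * d',
      D.mul_mem (D.mul_mem (D.inv_mem d'.2) hk) d'.2⟩ : D)), ?_⟩
    change ((k⁻¹ : M) : M ⧸ D).out * ((d' : M)⁻¹ * (k * m * k⁻¹) * d') * (((k⁻¹ : M) : M ⧸ D).out)⁻¹ = m
    rw [hd']
    group
  have hcard : Nat.card ((M ⧸ D) × D) ≤ Nat.card M := by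
    rw [Nat.card_prod, ← Subgroup.index_eq_card, Subgroup.index_mul_card]
  have hbij := hsurj.bijective_of_nat_card_le hcard
  rw [eq_top_iff]
  intro m _
  have h1 : f (((m : M) : M ⧸ D), 1) = f (((1 : M) : M ⧸ D), 1) := by
    simp [f]
  have h2 := hbij.1 h1
  have h3 : ((m : M) : M ⧸ D) = ((1 : M) : M ⧸ D) := congrArg Prod.fst h2
  rw [QuotientGroup.eq] at h3
  simpa using h3

theorem card_isConj_dvd_card {H : Type*} [Group H] [Finite H] (h : H) :
    Nat.card {y : H // IsConj h y} ∣ Nat.card H := by
  classical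
  have : Fintype H := Fintype.ofFinite H
  have h1 := MulAction.card_orbit_mul_card_stabilizer_eq_card_group (ConjAct H) h
  have h2 : Nat.card {g : H // IsConj h g} = Nat.card (MulAction.orbit (ConjAct H) h) := by
    apply Nat.card_congr
    refine Equiv.subtypeEquivRight fun g => ?_
    rw [ConjAct.mem_orbit_conjAct, isConj_comm]
  rw [h2, Nat.card_eq_fintype_card, Nat.card_eq_fintype_card]
  have h3 : Fintype.card (ConjAct H) = Fintype.card H := Fintype.card_congr ConjAct.ofConjAct.toEquiv
  rw [← h3, ← h1]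
  exact Dvd.intro _ rfl

end GroupLemmas


section B2

variable {G : Type*} [Group G] [Finite G]

theorem normal_sylow_of_invariant_classes (p : ℕ) [hp : Fact p.Prime] (M : Subgroup G)
    [hM : M.Normal] (hMp : (Nat.card M).Coprime p) (hidx : ∃ a : ℕ, M.index = p ^ a)
    (hab : ∀ x y : G, x * y * x⁻¹ * y⁻¹ ∈ M)
    (hinv : ∀ (g : G) (m : M), IsConj (⟨g * m * g⁻¹, hM.conj_mem m m.2 g⟩ : M) m) :
    ∃ P : Subgroup G, P.Normal ∧ (∀ x ∈ P, ∀ y ∈ P, x * y = y * x) ∧ IsPGroup p P ∧
      ¬ p ∣ P.index := by
  classical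
  let P : Sylow p G := default
  -- Step 1: every class of `M` contains an element centralized by `P`
  have step1 : ∀ m : M, ∃ k : M, ∀ x ∈ (P : Subgroup G),
      x * ((k * m * k⁻¹ : M) : G) * x⁻¹ = ((k * m * k⁻¹ : M) : G) := by
    intro m
    let X := {y : M // IsConj m y}
    let act : MulAction (P : Subgroup G) X :=
      { smul := fun x y => ⟨⟨(x : G) * (y.1 : G) * (x : G)⁻¹, hM.conj_mem _ y.1.2 _⟩,
          y.2.trans (hinv (x : G) y.1).symm⟩
        one_smul := by
          intro y
          apply Subtype.ext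
          apply Subtype.ext
          change ((1 : (P : Subgroup G)) : G) * (y.1 : G) * ((1 : (P : Subgroup G)) : G)⁻¹ = (y.1 : G)
          simp
        mul_smul := by
          intro a b y
          apply Subtype.ext
          apply Subtype.ext
          change ((a * b : (P : Subgroup G)) : G) * (y.1 : G) * ((a * b : (P : Subgroup G)) : G)⁻¹ =
            (a : G) * ((b : G) * (y.1 : G) * (b : G)⁻¹) * (a : G)⁻¹
          simp only [Subgroup.coe_mul]
          group }
    have hcard : ¬ p ∣ Nat.card X := by
      intro hdvd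
      have h1 : Nat.card X ∣ Nat.card M := card_isConj_dvd_card m
      have h2 : p ∣ Nat.card M := dvd_trans hdvd h1
      have h3 : p ∣ Nat.gcd (Nat.card M) p := Nat.dvd_gcd h2 dvd_rfl
      rw [hMp] at h3
      exact hp.out.one_lt.ne' (Nat.dvd_one.mp h3)
    obtain ⟨y, hy⟩ := P.2.nonempty_fixed_point_of_prime_not_dvd_card X hcard
    obtain ⟨k, hk⟩ := isConj_iff.mp y.2
    refine ⟨k, fun x hx => ?_⟩
    rw [hk]
    have h1 := hy ⟨x, hx⟩
    have h2 := congrArg (fun z : X => ((z.1 : M) : G)) h1
    exact h2
  -- Step 2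
  have step2 : (Subgroup.centralizer ((P : Subgroup G) : Set G)).subgroupOf M = ⊤ := by
    apply eq_top_of_forall_exists_conj_mem
    intro m
    obtain ⟨k, hk⟩ := step1 m
    refine ⟨k, ?_⟩
    rw [Subgroup.mem_subgroupOf, Subgroup.mem_centralizer_iff]
    intro x hx
    have := hk x hx
    calc x * ((k * m * k⁻¹ : M) : G) = (x * ((k * m * k⁻¹ : M) : G) * x⁻¹) * x := by group
      _ = ((k * m * k⁻¹ : M) : G) * x := by rw [this]
  have step3 : M ≤ Subgroup.centralizer ((P : Subgroup G) : Set G) := by
    intro m hm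
    have : (⟨m, hm⟩ : M) ∈ (Subgroup.centralizer ((P : Subgroup G) : Set G)).subgroupOf M := by
      rw [step2]; trivial
    exact this
  have hPidx : ¬ p ∣ (P : Subgroup G).index := P.not_dvd_index
  -- Step 4
  have step4 : M ⊔ (P : Subgroup G) = ⊤ := by
    rw [← Subgroup.index_eq_one]
    obtain ⟨a, ha⟩ := hidx
    have h1 : (M ⊔ (P : Subgroup G)).index ∣ p ^ a := by
      rw [← ha]
      exact Subgroup.index_dvd_of_le le_sup_left
    have h2 : (M ⊔ (P : Subgroup G)).index ∣ (P : Subgroup G).index :=
      Subgroup.index_dvd_of_le le_sup_right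
    obtain ⟨j, -, hj⟩ := (Nat.dvd_prime_pow hp.out).mp h1
    rcases Nat.eq_zero_or_pos j with hj0 | hj0
    · rw [hj, hj0, pow_zero]
    · exfalso
      apply hPidx
      refine dvd_trans ?_ h2
      rw [hj]
      exact dvd_pow_self p hj0.ne'
  have hnorm : (P : Subgroup G).Normal := by
    rw [← Subgroup.normalizer_eq_top_iff, eq_top_iff, ← step4]
    exact sup_le (step3.trans (Subgroup.centralizer_le_normalizer _)) Subgroup.le_normalizer
  have hinf : M ⊓ (P : Subgroup G) = ⊥ := by
    apply disjoint_iff.mp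
    apply Subgroup.disjoint_of_coprime_natCard
    obtain ⟨n, hn⟩ := IsPGroup.iff_card.mp P.2
    rw [hn]
    exact Nat.Coprime.pow_right n hMp
  refine ⟨P, hnorm, ?_, P.2, hPidx⟩
  intro x hx y hy
  have h1 : x * y * x⁻¹ * y⁻¹ ∈ M ⊓ (P : Subgroup G) :=
    ⟨hab x y, Subgroup.mul_mem _ (Subgroup.mul_mem _ (Subgroup.mul_mem _ hx hy)
      (Subgroup.inv_mem _ hx)) (Subgroup.inv_mem _ hy)⟩
  rw [hinf, Subgroup.mem_bot] at h1
  calc x * y = (x * y * x⁻¹ * y⁻¹) * (y * x) := by group
    _ = y * x := by rw [h1, one_mul]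

end B2


section PSolv

variable {G : Type*} [Group G]

theorem relIndex_subgroupOf_dvd' (A B K : Subgroup G) [A.Normal] (hAB : A ≤ B) :
    (A.subgroupOf K).relIndex (B.subgroupOf K) ∣ A.relIndex B := by
  rw [← Subgroup.inf_subgroupOf_right B K, Subgroup.relIndex_subgroupOf inf_le_right]
  rw [← Subgroup.relIndex_sup_left (K := A) (H := B ⊓ K)]
  have h1 : A ≤ A ⊔ B ⊓ K := le_sup_left
  have h2 : A ⊔ B ⊓ K ≤ B := sup_le hAB inf_le_left
  rw [← Subgroup.relIndex_mul_relIndex A (A ⊔ B ⊓ K) B h1 h2]
  exact dvd_mul_right _ _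

/-- subgroups of `p`-solvable groups are `p`-solvable (as in `S4176`, copied to keep the
import closure small) -/
theorem isPSolvable_subgroup' (p : ℕ) [Fact p.Prime] (h : IsPSolvable p G) (K : Subgroup G) :
    IsPSolvable p K := by
  obtain ⟨n, H, h0, hlast, hmono, hnorm, hstep⟩ := h
  refine ⟨n, fun i => (H i).subgroupOf K, ?_, ?_, ?_, ?_, ?_⟩
  · simp [h0]
  · simp [hlast]
  · intro i j hij
    exact Subgroup.subgroupOf_mono K (hmono hij)
  · intro i
    exact Subgroup.Normal.subgroupOf (hnorm i) K
  · intro i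
    have hle : H i.castSucc ≤ H i.succ := hmono (Fin.castSucc_lt_succ (i := i)).le
    have := hnorm i.castSucc
    have hdvd := relIndex_subgroupOf_dvd' (H i.castSucc) (H i.succ) K hle
    rcases hstep i with ⟨m, hm⟩ | hc
    · left
      rw [hm] at hdvd
      obtain ⟨j, _, hj⟩ := (Nat.dvd_prime_pow Fact.out).mp hdvd
      exact ⟨j, hj⟩
    · right
      exact Nat.Coprime.coprime_dvd_left hdvd hc

end PSolv

section Main

theorem ito_michler_aux (p : ℕ) [hp : Fact p.Prime]
    (C : ∀ (H : Type u) [Group H], Prop)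
    (hquot : ∀ (H : Type u) [Group H] [Finite H] (N : Subgroup H) [N.Normal], C H → C (H ⧸ N))
    (hsub : ∀ (H : Type u) [Group H] [Finite H] (K : Subgroup H), C H → C K)
    (hmin : ∀ (H : Type u) [Group H] [Finite H] [Nontrivial H], C H →
      ∃ M : Subgroup H, M.Normal ∧ M ≠ ⊥ ∧ (IsPGroup p M ∨ (Nat.card M).Coprime p)) :
    ∀ (n : ℕ) (G : Type u) [Group G] [Finite G], Nat.card G = n → C G →
      (∀ χ : IrrCharacter G, ¬ p ∣ charDegree (χ : G → ℂ)) →
      ∃ P : Subgroup G, P.Normal ∧ (∀ x ∈ P, ∀ y ∈ P, x * y = y * x) ∧ IsPGroup p P ∧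
        ¬ p ∣ P.index := by
  intro n
  induction n using Nat.strong_induction_on with
  | _ n ih =>
  intro G _ _ hcard hC hdeg
  classical
  let _ : Fintype G := Fintype.ofFinite G
  have hp1 : ¬ p ∣ 1 := fun h => hp.out.one_lt.ne' (Nat.dvd_one.mp h)
  rcases subsingleton_or_nontrivial G with hG | hG
  · refine ⟨⊤, inferInstance, fun x _ y _ => by rw [Subsingleton.elim x y], ?_, ?_⟩
    · intro g
      exact ⟨0, Subsingleton.elim _ _⟩
    · rw [Subgroup.index_top]
      exact hp1
  obtain ⟨M, hMn, hM1, hMp⟩ := hmin G hC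
  -- degrees of irreducible characters of normal subgroups
  have hdegsub : ∀ (K : Subgroup G) [K.Normal] (θ : IrrCharacter K),
      ¬ p ∣ charDegree (θ : K → ℂ) := by
    intro K _ θ hdvd
    let _ : Fintype K := Fintype.ofFinite K
    obtain ⟨χ, hχ, hover⟩ := exists_irr_over' K θ.2
    exact hdeg ⟨χ, hχ⟩ (dvd_trans hdvd (charDegree_dvd_of_over K hχ θ.2 hover))
  have hcardM : 1 < Nat.card M := by
    rcases Nat.lt_or_ge 1 (Nat.card M) with h | h
    · exact h
    · exfalso
      apply hM1
      apply Subgroup.card_eq_one.mp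
      have := Nat.card_pos (α := M)
      omega
  have hidxpos : 0 < M.index := Nat.pos_of_ne_zero Subgroup.index_ne_zero_of_finite
  have hcardQ : Nat.card (G ⧸ M) < n := by
    rw [← hcard, ← Subgroup.index_eq_card, ← M.card_mul_index]
    nlinarith
  have hdegQ : ∀ χ' : IrrCharacter (G ⧸ M), ¬ p ∣ charDegree (χ' : G ⧸ M → ℂ) := by
    intro χ'
    rw [← charDegree_inflate M χ']
    exact hdeg _
  obtain ⟨Qb, hQbn, hQbab, hQbp, hQbidx⟩ :=
    ih (Nat.card (G ⧸ M)) hcardQ (G ⧸ M) rfl (hquot G M hC) hdegQ
  set Q : Subgroup G := Qb.comap (QuotientGroup.mk' M) with hQ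
  have hQn : Q.Normal := hQbn.comap _
  have hQidx : Q.index = Qb.index :=
    Subgroup.index_comap_of_surjective _ (QuotientGroup.mk'_surjective M)
  rcases hMp with hMp | hMp
  · -- case A
    have hQp : IsPGroup p Q :=
      hQbp.comap_of_ker_isPGroup (QuotientGroup.mk' M) (by rwa [QuotientGroup.ker_mk'])
    refine ⟨Q, hQn, ?_, hQp, by rwa [hQidx]⟩
    let _ : Fintype Q := Fintype.ofFinite Q
    have hlin : ∀ θ : IrrCharacter Q, charDegree (θ : Q → ℂ) = 1 := by
      intro θ
      obtain ⟨k, hk⟩ := IsPGroup.iff_card.mp hQp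
      have h1 : charDegree (θ : Q → ℂ) ∣ p ^ k := by
        rw [← hk]
        exact Helper79.irr_charDegree_dvd_card θ
      obtain ⟨j, -, hj⟩ := (Nat.dvd_prime_pow hp.out).mp h1
      rcases Nat.eq_zero_or_pos j with hj0 | hj0
      · rw [hj, hj0, pow_zero]
      · exfalso
        apply hdegsub Q θ
        rw [hj]
        exact dvd_pow_self p hj0.ne'
    have hcomm := commutative_of_forall_charDegree_eq_one hlin
    intro x hx y hy
    exact congrArg Subtype.val (hcomm ⟨x, hx⟩ ⟨y, hy⟩)
  · -- case B
    by_cases hQtop : Q = ⊤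
    · -- B2
      have hQbtop : Qb = ⊤ := by
        rw [eq_top_iff]
        intro x _
        obtain ⟨g, rfl⟩ := QuotientGroup.mk'_surjective M x
        have : g ∈ Q := by rw [hQtop]; trivial
        exact this
      let _ : Fintype M := Fintype.ofFinite M
      have hidx : ∃ a : ℕ, M.index = p ^ a := by
        have h1 : IsPGroup p (G ⧸ M) := by
          intro x
          obtain ⟨k, hk⟩ := hQbp ⟨x, by rw [hQbtop]; trivial⟩
          exact ⟨k, congrArg Subtype.val hk⟩
        obtain ⟨a, ha⟩ := IsPGroup.iff_card.mp h1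
        exact ⟨a, by rw [Subgroup.index_eq_card, ha]⟩
      apply normal_sylow_of_invariant_classes p M hMp hidx
      · intro x y
        rw [← QuotientGroup.eq_one_iff]
        have h1 := hQbab (x : G ⧸ M) (by rw [hQbtop]; trivial) (y : G ⧸ M) (by rw [hQbtop]; trivial)
        simp only [QuotientGroup.mk_mul, QuotientGroup.mk_inv]
        rw [h1]
        group
      · intro g m
        apply Helper78.isConj_of_forall_irr_eq
        intro θ
        -- inertia group of θ is everything
        have hT : Helper75.inertia M (θ : M → ℂ) = ⊤ := by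
          rw [← Subgroup.index_eq_one]
          obtain ⟨χ, hχ, hover⟩ := exists_irr_over' M θ.2
          have h1 := index_inertia_dvd_charDegree M hχ θ.2 hover
          have h2 : (Helper75.inertia M (θ : M → ℂ)).index ∣ M.index :=
            Subgroup.index_dvd_of_le (Helper75.le_inertia M
              (Helper78.IsCharacter.isClassFunction (Helper78.IsIrrCharacter.isCharacter θ.2)))
          obtain ⟨a, ha⟩ := hidx
          rw [ha] at h2
          obtain ⟨j, -, hj⟩ := (Nat.dvd_prime_pow hp.out).mp h2
          rcases Nat.eq_zero_or_pos j with hj0 | hj0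
          · rw [hj, hj0, pow_zero]
          · exfalso
            apply hdeg ⟨χ, hχ⟩
            refine dvd_trans ?_ h1
            rw [hj]
            exact dvd_pow_self p hj0.ne'
        have hg : g ∈ Helper75.inertia M (θ : M → ℂ) := by rw [hT]; trivial
        have h3 := congrFun (Helper75.mem_inertia M |>.mp hg) m
        rw [Helper75.conjFun_apply] at h3
        exact h3
    · -- B1
      have hQlt : Nat.card Q < n := by
        rw [← hcard]
        have h1 := Q.card_mul_index
        have h2 : Q.index ≠ 1 := fun h => hQtop (Subgroup.index_eq_one.mp h)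
        have h3 : 0 < Q.index := Nat.pos_of_ne_zero Subgroup.index_ne_zero_of_finite
        have h4 : 0 < Nat.card Q := Nat.card_pos
        have h5 : 2 ≤ Q.index := by omega
        nlinarith
      obtain ⟨P0, hP0n, hP0ab, hP0p, hP0idx⟩ :=
        ih (Nat.card Q) hQlt Q rfl (hsub G Q hC) (hdegsub Q)
      have hchar : P0.Characteristic := by
        have := Sylow.characteristic_of_normal (hP0p.toSylow hP0idx)
          (by rw [IsPGroup.toSylow_coe]; exact hP0n)
        rwa [IsPGroup.toSylow_coe] at this
      refine ⟨P0.map Q.subtype, ConjAct.normal_of_characteristic_of_normal, ?_, ?_, ?_⟩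
      · rintro x ⟨x', hx', rfl⟩ y ⟨y', hy', rfl⟩
        have := hP0ab x' hx' y' hy'
        exact congrArg Subtype.val this
      · exact hP0p.map Q.subtype
      · intro hdvd
        have h1 : (P0.map Q.subtype).index = P0.index * Q.index := by
          rw [Subgroup.index_map_subtype]
        rw [h1, hQidx] at hdvd
        rcases (Nat.Prime.dvd_mul hp.out).mp hdvd with h | h
        · exact hP0idx h
        · exact hQbidx h

end Main


end Cfsg.Agent.Lib.Helper80
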