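import Mathlib
import Cfsg.Agent.Lib.Helper80.Gallagher
import Cfsg.Agent.Lib.Helper80.ItoMichler
import Cfsg.Agent.Lib.Helper84.PResidualAux
import Cfsg.Agent.Lib.Helper47.Basic
import Cfsg.Agent.Lib.Helper15.DetChar2
import Cfsg.Agent.S0862
import Cfsg.Agent.S0863
import Cfsg.Agent.S0865

/-!
# Extensions with `p'`-determinantal order over `O^p(G)` (helper80)

* `sum_modEq_sum_fixed`: orbit counting mod `p` for an invariant function under a `p`-group action.
* `orderOf_coprime_of_pResidual_eq_top`: linear characters of `O^p`-perfect groups have `p'`-order.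
* `gallagher_exists`: every character over an extendible `θ` is `β̃ χ`.
* `exists_ext_pprime`, `ext_pprime_unique`: `G/N` a `p`-group, `O^p(N) = N`, `θ ∈ Irr(N)` invariant
  of `p'`-degree has exactly one extension with determinantal order prime to `p`
  (from helper15's S0862, S0863 and helper4's S0865).
* `res_irr_of_not_dvd`: `p'`-degree irreducible characters of `G` restrict irreducibly to `N`.
-/

set_option autoImplicit false

namespace Cfsg.Agent.Lib.Helper80

open Cfsg
open scoped ComplexConjugate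

universe u

section Counting

/-- For a `p`-group acting on a finite set, the sum of an invariant natural-valued function is
congruent mod `p` to the sum over the fixed points. -/
theorem sum_modEq_sum_fixed {p : ℕ} [Fact p.Prime] {P : Type*} [Group P] (hP : IsPGroup p P)
    {X : Type*} [Fintype X] [MulAction P X] [DecidablePred (fun ψ : X => ∀ x : P, x • ψ = ψ)]
    (F : X → ℕ) (hF : ∀ (x : P) (ψ : X), F (x • ψ) = F ψ) :
    (∑ ψ, F ψ) ≡ (∑ ψ ∈ (Finset.univ.filter (fun ψ : X => ∀ x : P, x • ψ = ψ)), F ψ) [MOD p] := by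
  classical
  -- fibers
  have h1 : ∑ ψ, F ψ = ∑ d ∈ Finset.univ.image F, d * (Finset.univ.filter (fun ψ : X => F ψ = d)).card := by
    rw [← Finset.sum_fiberwise_of_maps_to (s := Finset.univ) (t := Finset.univ.image F) (g := F)
      (fun ψ _ => Finset.mem_image_of_mem F (Finset.mem_univ ψ))]
    refine Finset.sum_congr rfl (fun d _ => ?_)
    rw [Finset.sum_congr rfl (fun ψ hψ => (Finset.mem_filter.mp hψ).2), Finset.sum_const,
      smul_eq_mul, mul_comm]
  have h2 : ∑ ψ ∈ (Finset.univ.filter (fun ψ : X => ∀ x : P, x • ψ = ψ)), F ψ =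
      ∑ d ∈ Finset.univ.image F,
        d * (Finset.univ.filter (fun ψ : X => F ψ = d ∧ ∀ x : P, x • ψ = ψ)).card := by
    rw [← Finset.sum_fiberwise_of_maps_to (s := Finset.univ.filter (fun ψ : X => ∀ x : P, x • ψ = ψ))
      (t := Finset.univ.image F) (g := F)
      (fun ψ _ => Finset.mem_image_of_mem F (Finset.mem_univ ψ))]
    refine Finset.sum_congr rfl (fun d _ => ?_)
    rw [Finset.sum_congr rfl (fun ψ hψ => (Finset.mem_filter.mp hψ).2), Finset.sum_const,
      smul_eq_mul, mul_comm]
    congr 2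
    ext ψ
    simp only [Finset.mem_filter, Finset.mem_univ, true_and]
    tauto
  rw [h1, h2]
  apply Nat.ModEq.sum
  intro d _
  apply Nat.ModEq.mul_left
  -- the fiber as a sub-action
  let S : SubMulAction P X :=
    { carrier := {ψ | F ψ = d}
      smul_mem' := fun x ψ hψ => by
        show F (x • ψ) = d
        rw [hF]; exact hψ }
  have h3 := hP.card_modEq_card_fixedPoints S
  have h4 : Nat.card S = (Finset.univ.filter (fun ψ : X => F ψ = d)).card := by
    rw [← Nat.card_eq_finsetCard]
    apply Nat.card_congr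
    exact
      { toFun := fun ψ => ⟨ψ.1, by
          have h6 : F ψ.1 = d := ψ.2
          simp only [Finset.mem_filter, Finset.mem_univ, true_and]
          exact h6⟩
        invFun := fun ψ => ⟨ψ.1, by
          have := ψ.2
          simp only [Finset.mem_filter, Finset.mem_univ, true_and] at this
          exact this⟩
        left_inv := fun ψ => rfl
        right_inv := fun ψ => rfl }
  have h5 : Nat.card (MulAction.fixedPoints P S) =
      (Finset.univ.filter (fun ψ : X => F ψ = d ∧ ∀ x : P, x • ψ = ψ)).card := by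
    rw [← Nat.card_eq_finsetCard]
    apply Nat.card_congr
    exact
      { toFun := fun ψ => ⟨ψ.1.1, by
          have h6 : F ψ.1.1 = d := ψ.1.2
          have h7 : ∀ x : P, x • ψ.1.1 = ψ.1.1 := fun x => congrArg Subtype.val (ψ.2 x)
          simpa using ⟨h6, h7⟩⟩
        invFun := fun ψ => ⟨⟨ψ.1, by
          have := ψ.2
          simp only [Finset.mem_filter, Finset.mem_univ, true_and] at this
          exact this.1⟩, by
          have := ψ.2
          simp only [Finset.mem_filter, Finset.mem_univ, true_and] at this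
          intro x
          apply Subtype.ext
          exact this.2 x⟩
        left_inv := fun ψ => rfl
        right_inv := fun ψ => rfl }
  rw [← h4, ← h5]
  exact h3

end Counting


section OrderCoprime

/-- a linear character of a group generated by its `p'`-elements has order prime to `p` -/
theorem orderOf_coprime_of_pResidual_eq_top {K : Type*} [Group K] [Finite K] {p : ℕ}
    [hp : Fact p.Prime] (hK : pResidual p K = ⊤) (δ : K →* ℂˣ) :
    (orderOf (fun k : K => ((δ k : ℂˣ) : ℂ))).Coprime p := by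
  set m' := Nat.card K / p ^ (Nat.card K).factorization p with hm'
  have hcard : p ^ (Nat.card K).factorization p * m' = Nat.card K :=
    Nat.ordProj_mul_ordCompl_eq_self (Nat.card K) p
  have hcop : Nat.Coprime p m' := Nat.coprime_ordCompl hp.out Nat.card_pos.ne'
  let f : K →* ℂˣ := (powMonoidHom m').comp δ
  have hle : pResidual p K ≤ f.ker := by
    unfold pResidual
    rw [Subgroup.closure_le]
    intro g (hg : Nat.Coprime (orderOf g) p)
    rw [SetLike.mem_coe, MonoidHom.mem_ker]
    show δ g ^ m' = 1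
    have h1 : orderOf g ∣ Nat.card K := orderOf_dvd_natCard g
    rw [← hcard] at h1
    have h2 : orderOf g ∣ m' :=
      (Nat.Coprime.pow_right _ hg).dvd_of_dvd_mul_left h1
    rw [← map_pow, orderOf_dvd_iff_pow_eq_one.mp h2, map_one]
  have hpow : (fun k : K => ((δ k : ℂˣ) : ℂ)) ^ m' = 1 := by
    funext k
    have h3 : k ∈ f.ker := hle (hK ▸ Subgroup.mem_top k)
    rw [MonoidHom.mem_ker] at h3
    have h4 : δ k ^ m' = 1 := h3
    rw [Pi.pow_apply, Pi.one_apply, ← Units.val_pow_eq_pow_val, h4, Units.val_one]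
  exact Nat.Coprime.coprime_dvd_left (orderOf_dvd_of_pow_eq_one hpow) hcop.symm

end OrderCoprime


section GallagherExists

variable {G : Type u} [Group G] [Fintype G] (N : Subgroup G) [hN : N.Normal] [Fintype N]

/-- **Gallagher**: every irreducible character over `χ|_N` (irreducible) is `β̃ χ`. -/
theorem gallagher_exists {χ : G → ℂ} (hχ : IsIrrCharacter G χ)
    (hχN : IsIrrCharacter N (fun n : N => χ n)) {ψ : G → ℂ} (hψ : IsIrrCharacter G ψ)
    (hover : classInner (fun n : N => ψ n) (fun n : N => χ n) ≠ 0) :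
    ∃ β : IrrCharacter (G ⧸ N), ψ = infl N β * χ := by
  classical
  by_contra h
  push Not at h
  have hcfψ : IsClassFunction G ψ := isClassFunction_of_isCharacter (isCharacter_of_isIrr hψ)
  have hcfχ : IsClassFunction G χ := isClassFunction_of_isCharacter (isCharacter_of_isIrr hχ)
  have hΦcf : IsClassFunction G (fun g => ψ g * conj (χ g)) := by
    intro g h
    show ψ (h * g * h⁻¹) * conj (χ (h * g * h⁻¹)) = _
    rw [hcfψ g h, hcfχ g h]
  have hexp := navg_eq_sum N hΦcf
  have hval : navg N (fun g => ψ g * conj (χ g)) 1 =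
      classInner (fun n : N => ψ n) (fun n : N => χ n) := by
    rw [navg_apply]
    unfold classInner
    simp only [mul_one]
  have hcoef : ∀ β : IrrCharacter (G ⧸ N),
      classInner (fun g => ψ g * conj (χ g)) (infl N β) = 0 := by
    intro β
    rw [classInner_mul_conj_eq]
    have := classInner_irr (⟨ψ, hψ⟩ : IrrCharacter G) ⟨infl N β * χ, gallagher_irr N hχ hχN β⟩
    simp only at this
    rw [this, if_neg]
    intro h'
    exact h β (congrArg Subtype.val h')
  apply hover
  rw [← hval, hexp]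
  simp only [Finset.sum_apply]
  apply Finset.sum_eq_zero
  intro β _
  show (classInner (fun g => ψ g * conj (χ g)) (infl N β) • infl N β) 1 = 0
  rw [hcoef β, zero_smul]
  rfl

end GallagherExists


section Ext

variable {G : Type u} [Group G] [Finite G] (p : ℕ) [hp : Fact p.Prime] (N : Subgroup G)
  [hN : N.Normal]

omit [Finite G] in
theorem index_eq_pow_of_isPGroup_quotient [Finite G] (hQ : IsPGroup p (G ⧸ N)) :
    ∃ a : ℕ, N.index = p ^ a := by
  obtain ⟨a, ha⟩ := IsPGroup.iff_card.mp hQ
  exact ⟨a, by rw [Subgroup.index_eq_card, ha]⟩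

/-- the determinantal character of a `G`-invariant character of `N` is `G`-invariant -/
theorem detChar_invariant {θ : N → ℂ} (hθ : IsCharacter N θ)
    (hinv : ∀ (g : G) (n : N), θ ⟨g * n * g⁻¹, hN.conj_mem n n.2 g⟩ = θ n) (g : G) (n : N) :
    detChar θ ⟨g * n * g⁻¹, hN.conj_mem n n.2 g⟩ = detChar θ n := by
  have h1 := Helper15.detChar_comp_hom (MulAut.conjNormal g : N ≃* N).toMonoidHom hθ n
  have h2 : (fun x : N => θ ((MulAut.conjNormal g : N ≃* N).toMonoidHom x)) = θ := by
    funext x
    exact hinv g x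
  rw [h2] at h1
  rw [h1]
  rfl

/-- the determinantal character of a character is a linear character -/
theorem detChar_isLinear {H : Type*} [Group H] [Finite H] {θ : H → ℂ} (hθ : IsCharacter H θ) :
    IsCharacter H (detChar θ) ∧ detChar θ 1 = 1 := by
  obtain ⟨δ, hδ⟩ := Helper15.exists_detHom hθ
  have h1 : detChar θ = fun g => ((δ g : ℂˣ) : ℂ) := funext hδ
  rw [h1]
  exact ⟨Helper78.IsIrrCharacter.isCharacter (Helper77.isIrrCharacter_of_monoidHom δ), by simp⟩

include hp in
/-- **Extension with `p'`-determinant**: `G/N` a `p`-group, `O^p(N) = N`, `θ ∈ Irr(N)` invariant of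
`p'`-degree; then `θ` has an extension to `G` of determinantal order prime to `p`. -/
theorem exists_ext_pprime (hQ : IsPGroup p (G ⧸ N)) (hNres : pResidual p ↥N = ⊤)
    {θ : N → ℂ} (hθ : IsIrrCharacter N θ)
    (hinv : ∀ (g : G) (n : N), θ ⟨g * n * g⁻¹, hN.conj_mem n n.2 g⟩ = θ n)
    (hdeg : ¬ p ∣ charDegree θ) :
    ∃ χ : G → ℂ, IsIrrCharacter G χ ∧ (∀ n : N, χ n = θ n) ∧ ¬ p ∣ detOrder χ := by
  classical
  have hθc : IsCharacter N θ := Helper78.IsIrrCharacter.isCharacter hθ
  obtain ⟨a, ha⟩ := index_eq_pow_of_isPGroup_quotient p N hQ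
  have hd : θ 1 = (charDegree θ : ℂ) := Helper78.IsCharacter.apply_one_eq_charDegree hθc
  have hcop : Nat.Coprime N.index (charDegree θ) := by
    rw [ha]
    exact Nat.Coprime.pow_left a ((Nat.Prime.coprime_iff_not_dvd hp.out).mpr hdeg)
  have hlam := detChar_isLinear hθc
  have hinvlam := detChar_invariant N hθc hinv
  obtain ⟨δ, hδ⟩ := Helper15.exists_detHom hθc
  have hlamδ : detChar θ = fun g => ((δ g : ℂˣ) : ℂ) := funext hδ
  have hordcop : (orderOf (detChar θ)).Coprime p := by
    rw [hlamδ]
    exact orderOf_coprime_of_pResidual_eq_top hNres δ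
  have hcoplam : Nat.Coprime N.index (orderOf (detChar θ)) := by
    rw [ha]
    exact Nat.Coprime.pow_left a hordcop.symm
  obtain ⟨μ, ⟨hμc, hμ1, hμN, hμord⟩, -⟩ :=
    Cfsg.Agent.S0865.result N (detChar θ) hlam hinvlam hcoplam
  have hsolv : Group.IsSolvable (G ⧸ N) := by
    haveI := hQ.isNilpotent
    infer_instance
  have hext : ∃ χ : G → ℂ, IsIrrCharacter G χ ∧ (∀ n : N, χ n = θ n) :=
    (Cfsg.Agent.S0863.result N hsolv θ hθ hinv (charDegree θ) hd hcop).mpr ⟨μ, hμc, hμ1, hμN⟩
  obtain ⟨χ, ⟨hχ, hres, hdet⟩, -⟩ :=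
    Cfsg.Agent.S0862.result N θ hθ (charDegree θ) hd hcop hext μ ⟨hμc, hμ1⟩ hμN
  refine ⟨χ, hχ, hres, ?_⟩
  unfold detOrder
  rw [hdet, hμord]
  exact (Nat.Prime.coprime_iff_not_dvd hp.out).mp hordcop.symm

include hp in
/-- uniqueness of the extension with `p'`-determinantal order -/
theorem ext_pprime_unique (hQ : IsPGroup p (G ⧸ N)) (hNres : pResidual p ↥N = ⊤)
    {χ χ' : G → ℂ} (hχ : IsIrrCharacter G χ) (hχ' : IsIrrCharacter G χ')
    (hθ : IsIrrCharacter N (fun n : N => χ n)) (hres : ∀ n : N, χ' n = χ n)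
    (hdeg : ¬ p ∣ charDegree χ) (ho : ¬ p ∣ detOrder χ) (ho' : ¬ p ∣ detOrder χ') : χ' = χ := by
  classical
  set θ : N → ℂ := fun n : N => χ n with hθdef
  have hχc : IsCharacter G χ := Helper78.IsIrrCharacter.isCharacter hχ
  have hχc' : IsCharacter G χ' := Helper78.IsIrrCharacter.isCharacter hχ'
  have hθc : IsCharacter N θ := Helper78.IsIrrCharacter.isCharacter hθ
  obtain ⟨a, ha⟩ := index_eq_pow_of_isPGroup_quotient p N hQ
  have hdegθ : charDegree θ = charDegree χ := rfl
  have hd : θ 1 = (charDegree θ : ℂ) := Helper78.IsCharacter.apply_one_eq_charDegree hθc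
  have hcop : Nat.Coprime N.index (charDegree θ) := by
    rw [ha, hdegθ]
    exact Nat.Coprime.pow_left a ((Nat.Prime.coprime_iff_not_dvd hp.out).mpr hdeg)
  have hinv : ∀ (g : G) (n : N), θ ⟨g * n * g⁻¹, hN.conj_mem n n.2 g⟩ = θ n := by
    intro g n
    exact Helper78.IsCharacter.isClassFunction hχc n g
  have hlam := detChar_isLinear hθc
  have hinvlam := detChar_invariant N hθc hinv
  obtain ⟨δ, hδ⟩ := Helper15.exists_detHom hθc
  have hlamδ : detChar θ = fun g => ((δ g : ℂˣ) : ℂ) := funext hδ
  have hordcop : (orderOf (detChar θ)).Coprime p := by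
    rw [hlamδ]
    exact orderOf_coprime_of_pResidual_eq_top hNres δ
  have hcoplam : Nat.Coprime N.index (orderOf (detChar θ)) := by
    rw [ha]
    exact Nat.Coprime.pow_left a hordcop.symm
  obtain ⟨μ, ⟨hμc, hμ1, hμN, hμord⟩, huniq⟩ :=
    Cfsg.Agent.S0865.result N (detChar θ) hlam hinvlam hcoplam
  have h1 : detChar χ = μ := by
    apply huniq _ (detChar_isLinear hχc)
    · intro n
      exact (Helper15.detChar_res N hχc n).symm
    · rw [ha]
      exact Nat.Coprime.pow_left a ((Nat.Prime.coprime_iff_not_dvd hp.out).mpr ho)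
  have h2 : detChar χ' = μ := by
    apply huniq _ (detChar_isLinear hχc')
    · intro n
      rw [← Helper15.detChar_res N hχc' n]
      have : (fun x : N => χ' x) = θ := funext hres
      rw [this]
    · rw [ha]
      exact Nat.Coprime.pow_left a ((Nat.Prime.coprime_iff_not_dvd hp.out).mpr ho')
  have hext : ∃ η : G → ℂ, IsIrrCharacter G η ∧ (∀ n : N, η n = θ n) := ⟨χ, hχ, fun n => rfl⟩
  have hU := Cfsg.Agent.S0862.result N θ hθ (charDegree θ) hd hcop hext μ ⟨hμc, hμ1⟩ hμN
  exact hU.unique ⟨hχ', hres, h2⟩ ⟨hχ, fun n => rfl, h1⟩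

end Ext


section ResIrr

variable {G : Type u} [Group G] [Finite G] (p : ℕ) [hp : Fact p.Prime] (N : Subgroup G)
  [hN : N.Normal]

include hp in
/-- `G/N` a `p`-group, `O^p(N) = N`: an irreducible character of `p'`-degree restricts
irreducibly to `N`. -/
theorem res_irr_of_not_dvd (hQ : IsPGroup p (G ⧸ N)) (hNres : pResidual p ↥N = ⊤)
    {χ : G → ℂ} (hχ : IsIrrCharacter G χ) (hdeg : ¬ p ∣ charDegree χ) :
    IsIrrCharacter N (fun n : N => χ n) := by
  classical
  let _ : Fintype G := Fintype.ofFinite G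
  let _ : Fintype N := Fintype.ofFinite N
  obtain ⟨a, ha⟩ := index_eq_pow_of_isPGroup_quotient p N hQ
  obtain ⟨θ, hover⟩ := Helper75.exists_constituent_res N hχ
  have hθcl : IsClassFunction N (θ : N → ℂ) :=
    Helper78.IsCharacter.isClassFunction (Helper78.IsIrrCharacter.isCharacter θ.2)
  -- inertia group is everything
  have hT : Helper75.inertia N (θ : N → ℂ) = ⊤ := by
    rw [← Subgroup.index_eq_one]
    have h1 := index_inertia_dvd_charDegree N hχ θ.2 hover
    have h2 : (Helper75.inertia N (θ : N → ℂ)).index ∣ N.index :=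
      Subgroup.index_dvd_of_le (Helper75.le_inertia N hθcl)
    rw [ha] at h2
    obtain ⟨j, -, hj⟩ := (Nat.dvd_prime_pow hp.out).mp h2
    rcases Nat.eq_zero_or_pos j with hj0 | hj0
    · rw [hj, hj0, pow_zero]
    · exfalso
      apply hdeg
      refine dvd_trans ?_ h1
      rw [hj]
      exact dvd_pow_self p hj0.ne'
  have hinv : ∀ (g : G) (n : N), (θ : N → ℂ) ⟨g * n * g⁻¹, hN.conj_mem n n.2 g⟩ = (θ : N → ℂ) n := by
    intro g n
    have hg : g ∈ Helper75.inertia N (θ : N → ℂ) := by rw [hT]; trivial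
    have h3 := congrFun (Helper75.mem_inertia N |>.mp hg) n
    rw [Helper75.conjFun_apply] at h3
    exact h3
  have hdegθ : ¬ p ∣ charDegree (θ : N → ℂ) := fun h =>
    hdeg (dvd_trans h (charDegree_dvd_of_over N hχ θ.2 hover))
  obtain ⟨χ₀, hχ₀, hres₀, -⟩ := exists_ext_pprime p N hQ hNres θ.2 hinv hdegθ
  have hχ₀N : IsIrrCharacter N (fun n : N => χ₀ n) := by
    have : (fun n : N => χ₀ n) = (θ : N → ℂ) := funext hres₀
    rw [this]; exact θ.2
  have hover' : classInner (fun n : N => χ n) (fun n : N => χ₀ n) ≠ 0 := by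
    have : (fun n : N => χ₀ n) = (θ : N → ℂ) := funext hres₀
    rw [this]; exact hover
  obtain ⟨β, hβ⟩ := gallagher_exists N hχ₀ hχ₀N hχ hover'
  -- β is linear
  have hβ1 : charDegree (β : G ⧸ N → ℂ) = 1 := by
    have h1 : charDegree (β : G ⧸ N → ℂ) ∣ p ^ a := by
      rw [← ha, Subgroup.index_eq_card]
      exact Helper79.irr_charDegree_dvd_card β
    obtain ⟨j, -, hj⟩ := (Nat.dvd_prime_pow hp.out).mp h1
    rcases Nat.eq_zero_or_pos j with hj0 | hj0
    · rw [hj, hj0, pow_zero]
    · exfalso
      apply hdeg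
      have h2 : χ 1 = (β : G ⧸ N → ℂ) 1 * χ₀ 1 := by
        rw [hβ, Pi.mul_apply]
        show ((Helper77.inflate N β : IrrCharacter G) : G → ℂ) 1 * χ₀ 1 = _
        rw [Helper77.inflate_apply]
        rfl
      rw [Helper78.IsCharacter.apply_one_eq_charDegree (Helper78.IsIrrCharacter.isCharacter hχ),
        Helper78.IsCharacter.apply_one_eq_charDegree (Helper78.IsIrrCharacter.isCharacter β.2),
        Helper78.IsCharacter.apply_one_eq_charDegree (Helper78.IsIrrCharacter.isCharacter hχ₀)] at h2
      have h3 : charDegree χ = charDegree (β : G ⧸ N → ℂ) * charDegree χ₀ := by exact_mod_cast h2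
      rw [h3, hj]
      exact Dvd.dvd.mul_right (dvd_pow_self p hj0.ne') _
  have hfin : (fun n : N => χ n) = (θ : N → ℂ) := by
    funext n
    rw [hβ, Pi.mul_apply]
    show ((Helper77.inflate N β : IrrCharacter G) : G → ℂ) n * χ₀ n = _
    rw [Helper77.inflate_apply_of_mem N β n n.2, hres₀, Helper77.inflate_apply,
      QuotientGroup.mk_one,
      Helper78.IsCharacter.apply_one_eq_charDegree (Helper78.IsIrrCharacter.isCharacter β.2), hβ1]
    simp
  rw [hfin]
  exact θ.2

end ResIrr


end Cfsg.Agent.Lib.Helper80
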