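import Mathlib
import Cfsg.Agent.Lib.Helper80.PResidualExt
import Cfsg.Agent.Lib.Helper75.Taketa
import Cfsg.Agent.Lib.Helper75.Monomial
import Cfsg.Agent.Lib.Helper77.CenterIrr
import Cfsg.Agent.Lib.Helper78.CharValues
import Cfsg.Agent.S0887
import Cfsg.Agent.S0148
import Cfsg.Agent.S4456

/-!
# Groups with two character degrees (helper80)

Towards Isaacs 12.5 / 12.6.
-/

set_option autoImplicit false

namespace Cfsg.Agent.Lib.Helper80

open Cfsg
open scoped ComplexConjugate commutatorElement

universe u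

section Basic

variable {G : Type u} [Group G] [Fintype G]

/-- a character with an irreducible constituent of the same degree equals that constituent -/
theorem eq_of_constituent_of_degree_eq {χ φ : G → ℂ} (hχ : IsCharacter G χ)
    (hφ : IsIrrCharacter G φ) (hover : classInner χ φ ≠ 0) (hdeg : χ 1 = φ 1) : χ = φ := by
  classical
  obtain ⟨m, hm⟩ := (Helper78.isCharacter_iff_exists_nat_combination χ).mp hχ
  have hmφ : classInner χ φ = (m ⟨φ, hφ⟩ : ℂ) := by
    rw [hm]
    exact Helper78.classInner_nat_combination (fun ψ => (m ψ : ℂ)) ⟨φ, hφ⟩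
  have hm0 : m ⟨φ, hφ⟩ ≠ 0 := by
    intro h
    apply hover
    rw [hmφ, h]; simp
  -- degrees
  have h1 : (∑ ψ : IrrCharacter G, m ψ * charDegree (ψ : G → ℂ)) = charDegree φ := by
    have h2 := congrFun hm 1
    rw [hdeg, Finset.sum_apply] at h2
    have h3 : ∀ ψ : IrrCharacter G, ((m ψ : ℂ) • (ψ : G → ℂ)) 1 =
        ((m ψ * charDegree (ψ : G → ℂ) : ℕ) : ℂ) := by
      intro ψ
      rw [Pi.smul_apply, smul_eq_mul, Helper78.IsCharacter.apply_one_eq_charDegree
        (Helper78.IsIrrCharacter.isCharacter ψ.2), Nat.cast_mul]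
    rw [Finset.sum_congr rfl (fun ψ _ => h3 ψ), ← Nat.cast_sum,
      Helper78.IsCharacter.apply_one_eq_charDegree (Helper78.IsIrrCharacter.isCharacter hφ)] at h2
    exact_mod_cast h2.symm
  have hpos : ∀ ψ : IrrCharacter G, 0 < charDegree (ψ : G → ℂ) := fun ψ =>
    Helper78.IsIrrCharacter.charDegree_pos ψ.2
  have hsplit := Finset.add_sum_erase Finset.univ
    (fun ψ : IrrCharacter G => m ψ * charDegree (ψ : G → ℂ)) (Finset.mem_univ ⟨φ, hφ⟩)
  rw [h1] at hsplit
  simp only at hsplit
  have hφpos : 0 < charDegree φ := hpos ⟨φ, hφ⟩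
  set a := m ⟨φ, hφ⟩ with ha
  set c := charDegree φ with hc
  set R := ∑ ψ ∈ Finset.univ.erase (⟨φ, hφ⟩ : IrrCharacter G), m ψ * charDegree (ψ : G → ℂ) with hR
  have ha1 : 1 ≤ a := Nat.one_le_iff_ne_zero.mpr hm0
  have hac : c ≤ a * c := Nat.le_mul_of_pos_left c ha1
  have hR0 : R = 0 := by omega
  have hac' : a * c = c := by omega
  have hmφ1 : a = 1 := by
    have : a * c = 1 * c := by rw [one_mul]; exact hac'
    exact Nat.eq_of_mul_eq_mul_right hφpos this
  have hrest : ∀ ψ ∈ Finset.univ.erase (⟨φ, hφ⟩ : IrrCharacter G), m ψ = 0 := by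
    intro ψ hψ
    have := (Finset.sum_eq_zero_iff.mp hR0) ψ hψ
    rcases Nat.mul_eq_zero.mp this with h | h
    · exact h
    · exact absurd h (hpos ψ).ne'
  rw [hm, ← Finset.add_sum_erase Finset.univ _ (Finset.mem_univ (⟨φ, hφ⟩ : IrrCharacter G))]
  rw [Finset.sum_eq_zero (fun ψ hψ => by rw [hrest ψ hψ]; simp), ← ha, hmφ1]
  simp

end Basic

section F1

variable {G : Type u} [Group G] [Fintype G] (N : Subgroup G) [hN : N.Normal]

/-- the function of a linear character given as a homomorphism -/
def homFun {H : Type*} [Group H] (lam : H →* ℂˣ) : H → ℂ := fun h => ((lam h : ℂˣ) : ℂ)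

omit [Fintype G] hN in
theorem orderOf_homFun_dvd [Finite N] (lam : N →* ℂˣ) : orderOf (homFun lam) ∣ Nat.card N := by
  apply orderOf_dvd_of_pow_eq_one
  funext n
  show ((lam n : ℂˣ) : ℂ) ^ Nat.card N = 1
  rw [← Units.val_pow_eq_pow_val, ← map_pow, pow_card_eq_one', map_one, Units.val_one]

/-- **Key step**: with two character degrees `1, m` and `N` a normal subgroup of index prime to
its order, a non-invariant linear character of `N` has inertia group `T` of index `m` with `T/N`
abelian. -/
theorem inertia_of_two_degrees (m : ℕ)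
    (hcd : ∀ χ : IrrCharacter G, charDegree (χ : G → ℂ) = 1 ∨ charDegree (χ : G → ℂ) = m)
    (hcop : Nat.Coprime N.index (Nat.card N)) (lam : N →* ℂˣ)
    (hT : Helper75.inertia N (homFun lam) ≠ ⊤) :
    (Helper75.inertia N (homFun lam)).index = m ∧
      ∀ a ∈ Helper75.inertia N (homFun lam), ∀ b ∈ Helper75.inertia N (homFun lam),
        ⁅a, b⁆ ∈ N := by
  classical
  let _ : Fintype N := Fintype.ofFinite N
  set θ : N → ℂ := homFun lam with hθdef
  have hθ : IsIrrCharacter N θ := Helper77.isIrrCharacter_of_monoidHom lam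
  set T := Helper75.inertia N θ with hTdef
  let _ : Fintype T := Fintype.ofFinite T
  have hNT : N ≤ T := Helper75.le_inertia N
    (Helper78.IsCharacter.isClassFunction (Helper78.IsIrrCharacter.isCharacter hθ))
  set N' : Subgroup T := N.subgroupOf T with hN'def
  let _ : Fintype N' := Fintype.ofFinite N'
  let _ : Fintype (T ⧸ N') := Fintype.ofFinite _
  set θ' : N' → ℂ := Helper75.liftNT N T θ with hθ'def
  have hθ' : IsIrrCharacter N' θ' := Helper75.isIrrCharacter_liftNT N T hNT hθ
  have hθ'1 : θ' 1 = 1 := by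
    show ((lam ⟨((1 : N') : T), _⟩ : ℂˣ) : ℂ) = 1
    have : (⟨(((1 : N') : T) : G), Subgroup.mem_subgroupOf.mp (1 : N').2⟩ : N) = 1 := by
      apply Subtype.ext; simp
    rw [this, map_one, Units.val_one]
  have hinv' : ∀ (t : T) (n : N'), θ' ⟨t * n * t⁻¹, (inferInstance : N'.Normal).conj_mem n n.2 t⟩
      = θ' n := by
    intro t n
    have := congrFun (Helper75.conjFun_liftNT N T (θ := θ) (fun g hg => hg) t) n
    rw [Helper75.conjFun_apply] at this
    exact this
  have hcop' : Nat.Coprime N'.index (orderOf θ') := by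
    have h1 : N'.index ∣ N.index := Subgroup.relIndex_dvd_index_of_normal N T
    have h2 : orderOf θ' ∣ Nat.card N := by
      apply orderOf_dvd_of_pow_eq_one
      funext n
      show ((lam _ : ℂˣ) : ℂ) ^ Nat.card N = 1
      rw [← Units.val_pow_eq_pow_val, ← map_pow, pow_card_eq_one', map_one, Units.val_one]
    exact Nat.Coprime.coprime_dvd_left h1 (Nat.Coprime.coprime_dvd_right h2 hcop)
  obtain ⟨⟨μ, ⟨hμc, hμ1, hμN, -⟩, -⟩⟩ : Nonempty _ :=
    ⟨Cfsg.Agent.S0865.result N' θ' ⟨Helper78.IsIrrCharacter.isCharacter hθ', hθ'1⟩ hinv' hcop'⟩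
  obtain ⟨φμ, hφμ⟩ := Helper77.exists_monoidHom_of_degree_one hμc hμ1
  have hμeq : μ = fun t => ((φμ t : ℂˣ) : ℂ) := funext hφμ
  have hμ : IsIrrCharacter T μ := by
    rw [hμeq]; exact Helper77.isIrrCharacter_of_monoidHom φμ
  have hμN' : IsIrrCharacter N' (fun n : N' => μ n) := by
    have : (fun n : N' => μ n) = θ' := funext hμN
    rw [this]; exact hθ'
  -- the characters `β̃ μ` induce irreducibly
  have hkey : ∀ β : IrrCharacter (T ⧸ N'),
      T.index * charDegree (β : T ⧸ N' → ℂ) = 1 ∨ T.index * charDegree (β : T ⧸ N' → ℂ) = m := by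
    intro β
    have hψ : IsIrrCharacter T (infl N' β * μ) := gallagher_irr N' hμ hμN' β
    have hβ1 : (β : T ⧸ N' → ℂ) 1 = (charDegree (β : T ⧸ N' → ℂ) : ℂ) :=
      Helper78.IsCharacter.apply_one_eq_charDegree (Helper78.IsIrrCharacter.isCharacter β.2)
    have hres : Helper75.resNT N T hNT (infl N' β * μ) =
        fun n => (charDegree (β : T ⧸ N' → ℂ) : ℂ) * θ n := by
      funext n
      show infl N' β ⟨(n : G), hNT n.2⟩ * μ ⟨(n : G), hNT n.2⟩ = _
      have hmem : (⟨(n : G), hNT n.2⟩ : T) ∈ N' := Subgroup.mem_subgroupOf.mpr n.2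
      have h1 : infl N' β ⟨(n : G), hNT n.2⟩ = (charDegree (β : T ⧸ N' → ℂ) : ℂ) := by
        show ((Helper77.inflate N' β : IrrCharacter T) : T → ℂ) _ = _
        rw [Helper77.inflate_apply_of_mem N' β _ hmem, Helper77.inflate_apply,
          QuotientGroup.mk_one, hβ1]
      have h2 : μ ⟨(n : G), hNT n.2⟩ = θ n := hμN ⟨⟨(n : G), hNT n.2⟩, hmem⟩
      rw [h1, h2]
    have hover : classInner (Helper75.resNT N T hNT (infl N' β * μ)) θ ≠ 0 := by
      rw [hres]
      have h1 : classInner (fun n => (charDegree (β : T ⧸ N' → ℂ) : ℂ) * θ n) θ =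
          (charDegree (β : T ⧸ N' → ℂ) : ℂ) * classInner θ θ := by
        unfold classInner
        rw [Finset.mul_sum, Finset.mul_sum, Finset.mul_sum]
        apply Finset.sum_congr rfl
        intro x _
        ring
      rw [h1, Helper78.classInner_irr_self hθ, mul_one]
      have := Helper78.IsIrrCharacter.charDegree_pos β.2
      exact_mod_cast this.ne'
    have hirr := Helper75.isIrrCharacter_indFun_of_over N T hNT hθ (fun g => Iff.rfl) hψ hover
    have hdeg : charDegree (indFun T (infl N' β * μ)) =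
        T.index * charDegree (β : T ⧸ N' → ℂ) := by
      have h1 := Helper78.IsCharacter.apply_one_eq_charDegree
        (Helper78.IsIrrCharacter.isCharacter hirr)
      rw [Helper75.indFun_one] at h1
      have h2 : (infl N' β * μ) 1 = (charDegree (β : T ⧸ N' → ℂ) : ℂ) := by
        show infl N' β 1 * μ 1 = _
        rw [hμ1, mul_one]
        show ((Helper77.inflate N' β : IrrCharacter T) : T → ℂ) 1 = _
        rw [Helper77.inflate_apply, QuotientGroup.mk_one, hβ1]
      rw [h2] at h1
      exact_mod_cast h1.symm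
    have := hcd ⟨indFun T (infl N' β * μ), hirr⟩
    simp only at this
    rw [hdeg] at this
    exact this
  have hidx1 : T.index ≠ 1 := fun h => hT (Subgroup.index_eq_one.mp h)
  have hkey' : ∀ β : IrrCharacter (T ⧸ N'), T.index * charDegree (β : T ⧸ N' → ℂ) = m := by
    intro β
    rcases hkey β with h | h
    · exact absurd (Nat.eq_one_of_mul_eq_one_right h) hidx1
    · exact h
  have hidx : T.index = m := by
    have := hkey' (Helper75.trivIrr (T ⧸ N'))
    rwa [Helper75.charDegree_trivIrr, mul_one] at this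
  refine ⟨hidx, ?_⟩
  have hlin : ∀ β : IrrCharacter (T ⧸ N'), charDegree (β : T ⧸ N' → ℂ) = 1 := by
    intro β
    have h1 := hkey' β
    rw [hidx] at h1
    have hm0 : 0 < m := by
      rw [← hidx]; exact Nat.pos_of_ne_zero Subgroup.index_ne_zero_of_finite
    exact Nat.eq_of_mul_eq_mul_left hm0 (by rw [h1, mul_one])
  have hcomm := commutative_of_forall_charDegree_eq_one hlin
  intro a ha b hb
  have h1 := hcomm (QuotientGroup.mk (⟨a, ha⟩ : T)) (QuotientGroup.mk (⟨b, hb⟩ : T))
  have h2 : ⁅(QuotientGroup.mk (⟨a, ha⟩ : T) : T ⧸ N'), QuotientGroup.mk (⟨b, hb⟩ : T)⁆ = 1 :=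
    commutatorElement_eq_one_iff_mul_comm.mpr h1
  have h3 : (QuotientGroup.mk ⁅(⟨a, ha⟩ : T), (⟨b, hb⟩ : T)⁆ : T ⧸ N') = 1 := by
    rw [← h2]; rfl
  have h4 := (QuotientGroup.eq_one_iff _).mp h3
  exact Subgroup.mem_subgroupOf.mp h4

end F1

theorem eq_of_le_of_index_eq {G : Type*} [Group G] [Finite G] {H K : Subgroup G} (hle : H ≤ K)
    (h : H.index = K.index) : H = K := by
  apply le_antisymm hle
  have h1 := Subgroup.relIndex_mul_index hle
  rw [h] at h1
  have h2 : H.relIndex K = 1 := by
    have hK : 0 < K.index := Nat.pos_of_ne_zero Subgroup.index_ne_zero_of_finite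
    exact Nat.eq_of_mul_eq_mul_right hK (by rw [h1, one_mul])
  exact Subgroup.relIndex_eq_one.mp h2

section Abstract

variable {G : Type*} [Group G] [Finite G] {A : Type*} [CommGroup A] (c : G → A →* A)
  (hc1 : ∀ a, c 1 a = a) (hcmul : ∀ g h a, c (g * h) a = c h (c g a))
  (S : A → Subgroup G) (hS : ∀ a g, g ∈ S a ↔ c g a = a)

omit [Finite G] in
include hc1 hcmul in
theorem act_pow_of_fixed (g : G) (a n : A) (h1 : c g a = a * n) (h2 : c g n = n) (j : ℕ) :
    c (g ^ j) a = a * n ^ j := by
  induction j with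
  | zero => simp only [pow_zero, mul_one, hc1]
  | succ j ih =>
    rw [pow_succ g, hcmul, ih, map_mul, map_pow, h1, h2, pow_succ', mul_assoc]

include hc1 hcmul hS in
/-- key half of the "same stabilizer" lemma -/
theorem stab_mul_le_abs (m k j : ℕ)
    (hidx : ∀ a : A, S a = ⊤ ∨ (S a).index = m)
    (hnorm : ∀ a : A, (S a).Normal)
    (hkj : Nat.Coprime k j) (hk : ∀ (g : G) (a : A), g ^ k ∈ S a) (hj : ∀ a : A, a ^ j = 1)
    (a b : A) (ha : S a ≠ ⊤) (hb : S b ≠ ⊤) (hne : S a ≠ S b) : S (a * b) ≤ S a := by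
  intro g hg
  rw [hS, map_mul] at hg
  set n := c g a * a⁻¹ with hn
  have hn' : n = b * (c g b)⁻¹ := by
    have h0 : c g a = a * b * (c g b)⁻¹ := by rw [← hg, mul_assoc, mul_inv_cancel, mul_one]
    rw [hn, h0, mul_right_comm (a * b), mul_right_comm a b, mul_inv_cancel, one_mul]
  have hfix1 : ∀ (x : A), ∀ s ∈ S x, c s (c g x) = c g x := by
    intro x s hs
    have hnx := hnorm x
    have h1 : g * s * g⁻¹ ∈ S x := hnx.conj_mem s hs g
    rw [hS] at h1
    rw [← hcmul]
    have : g * s = (g * s * g⁻¹) * g := by group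
    rw [this, hcmul, h1]
  have hSa : S a ≤ S n := by
    intro s hs
    rw [hS, hn, map_mul, map_inv, hfix1 a s hs, (hS a s).mp hs]
  have hSb : S b ≤ S n := by
    intro s hs
    rw [hS, hn', map_mul, map_inv, hfix1 b s hs, (hS b s).mp hs]
  have hntop : S n = ⊤ := by
    rcases hidx n with h | h
    · exact h
    · exfalso
      have h1 : (S a).index = m := (hidx a).resolve_left ha
      have h2 : (S b).index = m := (hidx b).resolve_left hb
      have e1 := eq_of_le_of_index_eq hSa (by rw [h1, h])
      have e2 := eq_of_le_of_index_eq hSb (by rw [h2, h])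
      exact hne (e1.trans e2.symm)
  have hgn : c g n = n := by
    rw [← hS, hntop]; exact Subgroup.mem_top g
  have h1 : c g a = a * n := by
    rw [hn, mul_comm (c g a), ← mul_assoc, mul_inv_cancel, one_mul]
  have h2 := act_pow_of_fixed c hc1 hcmul g a n h1 hgn k
  rw [(hS a _).mp (hk g a)] at h2
  have h4 : n ^ k = 1 := by
    have := h2.symm
    rwa [mul_eq_left] at this
  have h6 : orderOf n = 1 :=
    Nat.Coprime.eq_one_of_dvd
      (Nat.Coprime.coprime_dvd_left (orderOf_dvd_of_pow_eq_one h4) hkj)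
      (orderOf_dvd_of_pow_eq_one (hj n))
  have h7 : n = 1 := orderOf_eq_one_iff.mp h6
  rw [hS, h1, h7, mul_one]

include hc1 hcmul hS in
/-- all non-fixed points have the same stabilizer -/
theorem stab_eq_abs (m k j : ℕ)
    (hidx : ∀ a : A, S a = ⊤ ∨ (S a).index = m)
    (hnorm : ∀ a : A, (S a).Normal)
    (hkj : Nat.Coprime k j) (hk : ∀ (g : G) (a : A), g ^ k ∈ S a) (hj : ∀ a : A, a ^ j = 1)
    (a b : A) (ha : S a ≠ ⊤) (hb : S b ≠ ⊤) : S a = S b := by
  by_contra hne
  have h1 := stab_mul_le_abs c hc1 hcmul S hS m k j hidx hnorm hkj hk hj a b ha hb hne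
  have h2 := stab_mul_le_abs c hc1 hcmul S hS m k j hidx hnorm hkj hk hj b a hb ha (Ne.symm hne)
  rw [mul_comm b a] at h2
  rcases hidx (a * b) with h | h
  · rw [h] at h1
    exact ha (top_le_iff.mp h1)
  · have e1 := eq_of_le_of_index_eq h1 (by rw [h, (hidx a).resolve_left ha])
    have e2 := eq_of_le_of_index_eq h2 (by rw [h, (hidx b).resolve_left hb])
    exact hne (e1.symm.trans e2)

end Abstract


theorem homFun_injective {H : Type*} [Group H] : Function.Injective (homFun (H := H)) := by
  intro a b h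
  ext x
  exact congrFun h x

section Conj

variable {G : Type u} [Group G] (N : Subgroup G) [hN : N.Normal]

/-- conjugation of linear characters of a normal subgroup, as an endomorphism of the dual group -/
def conjHom (g : G) : (N →* ℂˣ) →* (N →* ℂˣ) where
  toFun lam := lam.comp (MulAut.conjNormal g : N ≃* N).toMonoidHom
  map_one' := rfl
  map_mul' _ _ := rfl

theorem conjHom_apply (g : G) (lam : N →* ℂˣ) (n : N) :
    conjHom N g lam n = lam ⟨g * n * g⁻¹, hN.conj_mem n n.2 g⟩ := rfl

theorem homFun_conjHom (g : G) (lam : N →* ℂˣ) :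
    homFun (conjHom N g lam) = Helper75.conjFun N g (homFun lam) := rfl

theorem conjHom_one (lam : N →* ℂˣ) : conjHom N 1 lam = lam := by
  apply homFun_injective
  rw [homFun_conjHom, Helper75.conjFun_one]

theorem conjHom_mul (g h : G) (lam : N →* ℂˣ) :
    conjHom N (g * h) lam = conjHom N h (conjHom N g lam) := by
  apply homFun_injective
  rw [homFun_conjHom, homFun_conjHom, homFun_conjHom, Helper75.conjFun_mul]

/-- the stabilizer of a linear character -/
def stab (lam : N →* ℂˣ) : Subgroup G := Helper75.inertia N (homFun lam)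

theorem mem_stab (lam : N →* ℂˣ) (g : G) : g ∈ stab N lam ↔ conjHom N g lam = lam := by
  unfold stab
  rw [Helper75.mem_inertia, ← homFun_conjHom]
  exact ⟨fun h => homFun_injective h, fun h => by rw [h]⟩

theorem le_stab (lam : N →* ℂˣ) : N ≤ stab N lam :=
  Helper75.le_inertia N (Helper78.IsCharacter.isClassFunction
    (Helper78.IsIrrCharacter.isCharacter (Helper77.isIrrCharacter_of_monoidHom lam)))

theorem centralizer_le_stab (lam : N →* ℂˣ) : Subgroup.centralizer (N : Set G) ≤ stab N lam := by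
  intro g hg
  rw [mem_stab]
  ext n
  rw [conjHom_apply]
  congr 2
  apply Subtype.ext
  show g * n * g⁻¹ = n
  rw [Subgroup.mem_centralizer_iff] at hg
  rw [← hg n n.2, mul_assoc, mul_inv_cancel, mul_one]

omit hN in
theorem pow_card_eq_one_hom [Finite N] (nu : N →* ℂˣ) : nu ^ Nat.card N = 1 := by
  ext x
  rw [MonoidHom.pow_apply, ← map_pow, pow_card_eq_one', map_one, MonoidHom.one_apply]

/-- an element fixing all linear characters of `N` (all of whose irreducible characters are
linear) centralizes `N` -/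
theorem mem_centralizer_of_forall_mem_stab [Finite N]
    (hlin : ∀ θ : IrrCharacter N, charDegree (θ : N → ℂ) = 1) (g : G)
    (hg : ∀ lam : N →* ℂˣ, g ∈ stab N lam) : g ∈ Subgroup.centralizer (N : Set G) := by
  classical
  let _ : Fintype N := Fintype.ofFinite N
  have hcomm := commutative_of_forall_charDegree_eq_one hlin
  rw [Subgroup.mem_centralizer_iff]
  intro n hn
  have h1 : IsConj (⟨g * n * g⁻¹, hN.conj_mem n hn g⟩ : N) ⟨n, hn⟩ := by
    apply Helper78.isConj_of_forall_irr_eq
    intro θ
    have hθ1 : (θ : N → ℂ) 1 = 1 := by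
      rw [Helper78.IsCharacter.apply_one_eq_charDegree (Helper78.IsIrrCharacter.isCharacter θ.2),
        hlin θ, Nat.cast_one]
    obtain ⟨lam, hlam⟩ := Helper77.exists_monoidHom_of_degree_one
      (Helper78.IsIrrCharacter.isCharacter θ.2) hθ1
    rw [hlam, hlam]
    have h2 := (mem_stab N lam g).mp (hg lam)
    have h3 := congrArg (fun f : N →* ℂˣ => f ⟨n, hn⟩) h2
    simp only [conjHom_apply] at h3
    rw [h3]
  obtain ⟨c, hc⟩ := isConj_iff.mp h1
  have key : ∀ x : N, c * x * c⁻¹ = x := fun x => by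
    rw [hcomm c x, mul_assoc, mul_inv_cancel, mul_one]
  rw [key] at hc
  have h3 : g * n * g⁻¹ = n := congrArg Subtype.val hc
  calc n * g = (g * n * g⁻¹) * g := by rw [h3]
    _ = g * n := by group

end Conj

section CA

variable {G : Type*} [Group G]

/-- **class two, coprime**: if `N` is central in `C`, `[C, C] ≤ N`, and `C/N` has exponent
dividing `k` prime to `|N|`, then `C` is abelian. -/
theorem comm_of_central_coprime (C N : Subgroup G) [Finite N] (k : ℕ)
    (hcen : ∀ c ∈ C, ∀ n ∈ N, c * n = n * c) (hcomm : ∀ a ∈ C, ∀ b ∈ C, ⁅a, b⁆ ∈ N)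
    (hk : ∀ c ∈ C, c ^ k ∈ N) (hcop : Nat.Coprime k (Nat.card N)) :
    ∀ a ∈ C, ∀ b ∈ C, a * b = b * a := by
  intro a ha b hb
  set z := ⁅a, b⁆ with hz
  have hzN : z ∈ N := hcomm a ha b hb
  have hab : a * b = z * (b * a) := by
    rw [hz, commutatorElement_def]; group
  have hP : ∀ j : ℕ, a * b ^ j = z ^ j * (b ^ j * a) := by
    intro j
    induction j with
    | zero => simp
    | succ j ih =>
      have h1 : b ^ j * z = z * b ^ j := hcen (b ^ j) (C.pow_mem hb j) z hzN
      calc a * b ^ (j + 1) = a * b ^ j * b := by rw [pow_succ, mul_assoc]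
        _ = z ^ j * (b ^ j * a) * b := by rw [ih]
        _ = z ^ j * (b ^ j * (a * b)) := by simp only [mul_assoc]
        _ = z ^ j * (b ^ j * (z * (b * a))) := by rw [hab]
        _ = z ^ j * ((b ^ j * z) * (b * a)) := by simp only [mul_assoc]
        _ = z ^ j * ((z * b ^ j) * (b * a)) := by rw [h1]
        _ = z ^ (j + 1) * (b ^ (j + 1) * a) := by
          rw [pow_succ, pow_succ]; simp only [mul_assoc]
  have h2 := hP k
  have h3 : a * b ^ k = b ^ k * a := hcen a ha (b ^ k) (hk b hb)
  rw [h3] at h2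
  have h4 : z ^ k = 1 := by
    have := h2.symm
    rwa [mul_eq_right] at this
  have h5 : (⟨z, hzN⟩ : N) ^ Nat.card N = 1 := pow_card_eq_one'
  have h5' : z ^ Nat.card N = 1 := by
    have := congrArg Subtype.val h5
    rw [SubmonoidClass.coe_pow] at this
    exact this
  have h6 : orderOf z = 1 :=
    Nat.Coprime.eq_one_of_dvd
      (Nat.Coprime.coprime_dvd_left (orderOf_dvd_of_pow_eq_one h4) hcop)
      (orderOf_dvd_of_pow_eq_one h5')
  have h7 : z = 1 := orderOf_eq_one_iff.mp h6
  rw [hab, h7, one_mul]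

end CA

section Engine

variable {G : Type u} [Group G] [Fintype G] (N : Subgroup G) [hN : N.Normal]

omit [Fintype G] in
theorem pow_index_mem [Finite G] (g : G) : g ^ N.index ∈ N := by
  apply (QuotientGroup.eq_one_iff (N := N) (g ^ N.index)).mp
  rw [QuotientGroup.mk_pow, Subgroup.index_eq_card, pow_card_eq_one']

/-- **Engine**: two character degrees `1, m`; `N` an abelian normal Hall subgroup with
`G/C_G(N)` abelian. Then `N` is central or `C_G(N)` is abelian of index `m`. -/
theorem two_deg_engine (m : ℕ)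
    (hcd : ∀ χ : IrrCharacter G, charDegree (χ : G → ℂ) = 1 ∨ charDegree (χ : G → ℂ) = m)
    (hcop : Nat.Coprime N.index (Nat.card N))
    (hlin : ∀ θ : IrrCharacter N, charDegree (θ : N → ℂ) = 1)
    (hGC : ∀ a b : G, ⁅a, b⁆ ∈ Subgroup.centralizer (N : Set G)) :
    N ≤ Subgroup.center G ∨
      ((∀ a ∈ Subgroup.centralizer (N : Set G), ∀ b ∈ Subgroup.centralizer (N : Set G),
        a * b = b * a) ∧ (Subgroup.centralizer (N : Set G)).index = m) := by
  classical
  by_cases hall : ∀ lam : N →* ℂˣ, stab N lam = ⊤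
  · left
    intro n hn
    rw [Subgroup.mem_center_iff]
    intro g
    have hg : g ∈ Subgroup.centralizer (N : Set G) :=
      mem_centralizer_of_forall_mem_stab N hlin g (fun lam => by rw [hall lam]; exact Subgroup.mem_top g)
    rw [Subgroup.mem_centralizer_iff] at hg
    exact (hg n hn).symm
  · right
    push Not at hall
    obtain ⟨lam0, hlam0⟩ := hall
    have hidx : ∀ lam : N →* ℂˣ, stab N lam = ⊤ ∨ (stab N lam).index = m := by
      intro lam
      by_cases h : stab N lam = ⊤
      · exact Or.inl h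
      · exact Or.inr (inertia_of_two_degrees N m hcd hcop lam h).1
    have hnorm : ∀ lam : N →* ℂˣ, (stab N lam).Normal := by
      intro lam
      constructor
      intro s hs g
      have h1 : g * s * g⁻¹ = ⁅g, s⁆ * s := by rw [commutatorElement_def]; group
      rw [h1]
      exact (stab N lam).mul_mem (centralizer_le_stab N lam (hGC g s)) hs
    have hSS := stab_eq_abs (conjHom N) (conjHom_one N) (conjHom_mul N) (stab N) (mem_stab N)
      m N.index (Nat.card N) hidx hnorm hcop (fun g a => le_stab N a (pow_index_mem N g))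
      (pow_card_eq_one_hom N)
    have hC : Subgroup.centralizer (N : Set G) = stab N lam0 := by
      apply le_antisymm (centralizer_le_stab N lam0)
      intro g hg
      apply mem_centralizer_of_forall_mem_stab N hlin g
      intro mu
      by_cases h : stab N mu = ⊤
      · rw [h]; exact Subgroup.mem_top g
      · rw [← hSS lam0 mu hlam0 h]; exact hg
    have hF1 := inertia_of_two_degrees N m hcd hcop lam0 hlam0
    refine ⟨?_, by rw [hC]; exact hF1.1⟩
    apply comm_of_central_coprime (Subgroup.centralizer (N : Set G)) N N.index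
    · intro c hc n hn
      rw [Subgroup.mem_centralizer_iff] at hc
      exact (hc n hn).symm
    · intro a ha b hb
      rw [hC] at ha hb
      exact hF1.2 a ha b hb
    · intro c _
      exact pow_index_mem N c
    · exact hcop

end Engine

section LemmaZ

variable {G : Type u} [Group G] [Fintype G]

omit [Fintype G] in
/-- the centre of `G` lies in the centre of every irreducible character -/
theorem center_le_irrCenter' (χ : IrrCharacter G) :
    Subgroup.center G ≤ Helper77.irrCenter χ := by
  intro g hg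
  rw [Helper77.mem_irrCenter_iff_commutator]
  intro h
  have : ⁅g, h⁆ = 1 := by
    rw [commutatorElement_eq_one_iff_mul_comm]
    exact (Subgroup.mem_center_iff.mp hg h).symm
  rw [this]; exact Subgroup.one_mem _

/-- irreducible characters do not vanish on the centre -/
theorem irr_apply_ne_zero_of_mem_center (χ : IrrCharacter G) {z : G}
    (hz : z ∈ Subgroup.center G) : (χ : G → ℂ) z ≠ 0 := by
  have h1 := (Helper77.mem_irrCenter χ z).mp (center_le_irrCenter' χ hz)
  intro h0
  rw [h0, norm_zero] at h1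
  exact Helper78.IsIrrCharacter.apply_one_ne_zero χ.2 (norm_eq_zero.mp h1.symm)

/-- **Lemma Z**: an abelian subgroup whose index is the degree of an irreducible character
contains the centre. -/
theorem center_le_of_abelian_of_index_eq (B : Subgroup G)
    (hB : ∀ a ∈ B, ∀ b ∈ B, a * b = b * a) (χ : IrrCharacter G)
    (hdeg : charDegree (χ : G → ℂ) = B.index) : Subgroup.center G ≤ B := by
  classical
  let _ : Fintype B := Fintype.ofFinite B
  have hBc : IsMulCommutative B := ⟨⟨fun a b => Subtype.ext (hB a a.2 b b.2)⟩⟩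
  have hχc : IsCharacter G (χ : G → ℂ) := Helper78.IsIrrCharacter.isCharacter χ.2
  obtain ⟨ψ, hψ⟩ := Helper75.exists_constituent_res B χ.2
  have hψ1 : (ψ : B → ℂ) 1 = 1 := Helper78.IsIrrCharacter.map_one_of_comm ψ.2
  have hΦ : IsCharacter G (indFun B (ψ : B → ℂ)) :=
    Cfsg.Agent.S0148.result B _ (Helper78.IsIrrCharacter.isCharacter ψ.2)
  have hover : classInner (indFun B (ψ : B → ℂ)) (χ : G → ℂ) ≠ 0 := by
    rw [Helper75.frobenius_reciprocity B _ (Helper78.IsCharacter.isClassFunction hχc),
      ← Helper78.classInner_conj_symm]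
    intro h
    apply hψ
    have := congrArg conj h
    rwa [Complex.conj_conj, map_zero] at this
  have hdeg1 : indFun B (ψ : B → ℂ) 1 = (χ : G → ℂ) 1 := by
    rw [Helper75.indFun_one, hψ1, mul_one, Helper78.IsCharacter.apply_one_eq_charDegree hχc, hdeg]
  have heq := eq_of_constituent_of_degree_eq hΦ χ.2 hover hdeg1
  intro z hz
  by_contra hzB
  apply irr_apply_ne_zero_of_mem_center χ hz
  rw [← heq]
  unfold indFun
  rw [Finset.sum_eq_zero, mul_zero]
  intro x _
  have h1 : x⁻¹ * z * x = z := by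
    rw [Subgroup.mem_center_iff] at hz
    rw [mul_assoc, ← hz x, ← mul_assoc, inv_mul_cancel, one_mul]
  rw [h1]
  exact Helper75.extendByZero_of_not_mem B _ hzB

end LemmaZ

section PCase

variable {G : Type u} [Group G] [Fintype G] (N : Subgroup G) [hN : N.Normal]

/-- degrees `1, m` in `G` and `|N|` prime to `m`: all irreducible characters of `N` are linear -/
theorem linear_of_coprime (m : ℕ)
    (hcd : ∀ χ : IrrCharacter G, charDegree (χ : G → ℂ) = 1 ∨ charDegree (χ : G → ℂ) = m)
    (hcopm : Nat.Coprime m (Nat.card N)) (θ : IrrCharacter N) : charDegree (θ : N → ℂ) = 1 := by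
  classical
  let _ : Fintype N := Fintype.ofFinite N
  obtain ⟨χ, hχ, hover⟩ := exists_irr_over' N θ.2
  have h1 : charDegree (θ : N → ℂ) ∣ charDegree χ := charDegree_dvd_of_over N hχ θ.2 hover
  have h2 : charDegree (θ : N → ℂ) ∣ m := by
    rcases hcd ⟨χ, hχ⟩ with h | h
    · simp only at h
      rw [h] at h1
      exact Dvd.dvd.trans h1 (one_dvd m)
    · simp only at h
      rwa [h] at h1
  have h3 : charDegree (θ : N → ℂ) ∣ Nat.card N := Helper79.irr_charDegree_dvd_card θ
  exact Nat.Coprime.eq_one_of_dvd (Nat.Coprime.coprime_dvd_left h2 hcopm) h3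

omit hN in
/-- a normal subgroup all of whose irreducible characters are linear centralizes itself -/
theorem le_centralizer_of_linear (hlin : ∀ θ : IrrCharacter N, charDegree (θ : N → ℂ) = 1) :
    N ≤ Subgroup.centralizer (N : Set G) := by
  classical
  let _ : Fintype N := Fintype.ofFinite N
  have hcomm := commutative_of_forall_charDegree_eq_one hlin
  intro a ha
  rw [Subgroup.mem_centralizer_iff]
  intro b hb
  exact congrArg Subtype.val (hcomm ⟨b, hb⟩ ⟨a, ha⟩)

/-- **`p`-case**: `G/N` a `p`-group, `N` an abelian normal Hall subgroup, two character degrees: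
then `G/C_G(N)` is abelian. -/
theorem commutator_mem_centralizer_of_pgroup (p : ℕ) [hp : Fact p.Prime] (m : ℕ)
    (hcd : ∀ χ : IrrCharacter G, charDegree (χ : G → ℂ) = 1 ∨ charDegree (χ : G → ℂ) = m)
    (hcop : Nat.Coprime N.index (Nat.card N))
    (hlin : ∀ θ : IrrCharacter N, charDegree (θ : N → ℂ) = 1) (k : ℕ) (hidx : N.index = p ^ k)
    (a b : G) : ⁅a, b⁆ ∈ Subgroup.centralizer (N : Set G) := by
  classical
  set C := Subgroup.centralizer (N : Set G) with hCdef
  have hNC : N ≤ C := le_centralizer_of_linear N hlin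
  let _ : Fintype (G ⧸ C) := Fintype.ofFinite _
  have hCp : IsPGroup p (G ⧸ C) := by
    have h1 : C.index ∣ p ^ k := by
      rw [← hidx]; exact Subgroup.index_dvd_of_le hNC
    obtain ⟨j, -, hj⟩ := (Nat.dvd_prime_pow hp.out).mp h1
    exact IsPGroup.of_card (n := j) (by rw [← Subgroup.index_eq_card, hj])
  have hall : ∀ χ' : IrrCharacter (G ⧸ C), charDegree (χ' : G ⧸ C → ℂ) = 1 := by
    intro χ'
    by_contra hne
    have hdeg : charDegree (χ' : G ⧸ C → ℂ) = m := by
      have h1 := hcd (Helper77.inflate C χ')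
      rw [charDegree_inflate] at h1
      exact h1.resolve_left hne
    -- the preimage of the centre of `G/C` lies in every stabilizer
    have hZ : ∀ z : G, (QuotientGroup.mk z : G ⧸ C) ∈ Subgroup.center (G ⧸ C) → z ∈ C := by
      intro z hz
      apply mem_centralizer_of_forall_mem_stab N hlin z
      intro lam
      by_cases hT : stab N lam = ⊤
      · rw [hT]; exact Subgroup.mem_top z
      · have hF1 := inertia_of_two_degrees N m hcd hcop lam hT
        have hCT : C ≤ stab N lam := centralizer_le_stab N lam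
        have hBab : ∀ x ∈ (stab N lam).map (QuotientGroup.mk' C),
            ∀ y ∈ (stab N lam).map (QuotientGroup.mk' C), x * y = y * x := by
          rintro x ⟨x0, hx0, rfl⟩ y ⟨y0, hy0, rfl⟩
          have h1 : ⁅x0, y0⁆ ∈ C := hNC (hF1.2 x0 hx0 y0 hy0)
          have h2 : (QuotientGroup.mk' C) ⁅x0, y0⁆ = 1 := (QuotientGroup.eq_one_iff _).mpr h1
          rw [map_commutatorElement] at h2
          exact commutatorElement_eq_one_iff_mul_comm.mp h2
        have hBidx : ((stab N lam).map (QuotientGroup.mk' C)).index = m := by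
          rw [Subgroup.index_map_eq _ (QuotientGroup.mk'_surjective C)
            (by rw [QuotientGroup.ker_mk']; exact hCT)]
          exact hF1.1
        have h3 := center_le_of_abelian_of_index_eq _ hBab χ' (by rw [hdeg, hBidx]) hz
        obtain ⟨t, ht, hte⟩ := h3
        have h4 : t⁻¹ * z ∈ C := QuotientGroup.eq.mp hte
        have h5 : z = t * (t⁻¹ * z) := by group
        rw [h5]
        exact (stab N lam).mul_mem ht (hCT h4)
    have hcenter : Subgroup.center (G ⧸ C) = ⊥ := by
      rw [eq_bot_iff]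
      intro x hx
      obtain ⟨z, rfl⟩ := QuotientGroup.mk_surjective x
      rw [Subgroup.mem_bot]
      exact (QuotientGroup.eq_one_iff z).mpr (hZ z hx)
    have hnt : Nontrivial (G ⧸ C) := by
      by_contra hnt
      rw [not_nontrivial_iff_subsingleton] at hnt
      have h1 := Helper75.charDegree_le_card χ'
      have h2 : Nat.card (G ⧸ C) = 1 := Nat.card_unique
      have h3 := Helper78.IsIrrCharacter.charDegree_pos χ'.2
      omega
    have := hCp.center_nontrivial
    rw [hcenter] at this
    exact not_nontrivial _ this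
  have hcomm := commutative_of_forall_charDegree_eq_one hall
  have h1 : (QuotientGroup.mk' C) ⁅a, b⁆ = 1 := by
    rw [map_commutatorElement]
    exact commutatorElement_eq_one_iff_mul_comm.mpr (hcomm _ _)
  exact (QuotientGroup.eq_one_iff _).mp h1

end PCase

section PrimePower

variable {G : Type u} [Group G] [Fintype G]

/-- a central normal Hall subgroup with `p`-power index has a normal Sylow complement -/
theorem exists_normal_sylow_of_central (p : ℕ) [hp : Fact p.Prime] (N : Subgroup G)
    (hcen : N ≤ Subgroup.center G) (hNp : Nat.Coprime (Nat.card N) p) (k : ℕ)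
    (hidx : N.index = p ^ k) :
    ∃ P : Subgroup G, P.Normal ∧ IsPGroup p P ∧ P ⊓ N = ⊥ ∧ P ⊔ N = ⊤ := by
  obtain ⟨P⟩ : Nonempty (Sylow p G) := inferInstance
  have hPidx : ¬ p ∣ (P : Subgroup G).index := P.not_dvd_index
  have hsup : (P : Subgroup G) ⊔ N = ⊤ := by
    rw [← Subgroup.index_eq_one]
    have h1 : ((P : Subgroup G) ⊔ N).index ∣ p ^ k := by
      rw [← hidx]; exact Subgroup.index_dvd_of_le le_sup_right
    have h2 : ((P : Subgroup G) ⊔ N).index ∣ (P : Subgroup G).index :=
      Subgroup.index_dvd_of_le le_sup_left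
    have h3 : Nat.Coprime (p ^ k) (P : Subgroup G).index :=
      Nat.Coprime.pow_left k ((Nat.Prime.coprime_iff_not_dvd hp.out).mpr hPidx)
    exact Nat.eq_one_of_dvd_coprimes h3 h1 h2
  have hinf : (P : Subgroup G) ⊓ N = ⊥ := by
    apply disjoint_iff.mp
    apply Subgroup.disjoint_of_coprime_natCard
    obtain ⟨a, ha⟩ := IsPGroup.iff_card.mp P.isPGroup'
    rw [ha]
    exact Nat.Coprime.pow_left a hNp.symm
  have hnorm : (P : Subgroup G).Normal := by
    rw [← Subgroup.normalizer_eq_top_iff, eq_top_iff, ← hsup]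
    apply sup_le Subgroup.le_normalizer
    exact hcen.trans (Subgroup.center_le_normalizer _)
  exact ⟨P, hnorm, P.isPGroup', hinf, hsup⟩

/-- **Isaacs 12.5, prime power case** -/
theorem two_deg_prime_power (m : ℕ)
    (hcd : ∀ χ : IrrCharacter G, charDegree (χ : G → ℂ) = 1 ∨ charDegree (χ : G → ℂ) = m)
    (p e : ℕ) [hp : Fact p.Prime] (hm : m = p ^ e) (N : Subgroup G) [hN : N.Normal]
    (hNp : Nat.Coprime (Nat.card N) p) (k : ℕ) (hidx : N.index = p ^ k) :
    (∃ A : Subgroup G, A.Normal ∧ (∀ a ∈ A, ∀ b ∈ A, a * b = b * a) ∧ A.index = m) ∨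
      ∃ P A : Subgroup G, P.Normal ∧ A.Normal ∧ IsPGroup p P ∧
        (∀ a ∈ A, ∀ b ∈ A, a * b = b * a) ∧ P ⊓ A = ⊥ ∧ P ⊔ A = ⊤ := by
  have hcop : Nat.Coprime N.index (Nat.card N) := by
    rw [hidx]; exact Nat.Coprime.pow_left k hNp.symm
  have hcopm : Nat.Coprime m (Nat.card N) := by
    rw [hm]; exact Nat.Coprime.pow_left e hNp.symm
  have hlin := linear_of_coprime N m hcd hcopm
  have hGC := commutator_mem_centralizer_of_pgroup N p m hcd hcop hlin k hidx
  rcases two_deg_engine N m hcd hcop hlin hGC with hcen | ⟨hab, hind⟩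
  · right
    obtain ⟨P, hPn, hPp, hinf, hsup⟩ := exists_normal_sylow_of_central p N hcen hNp k hidx
    refine ⟨P, N, hPn, hN, hPp, ?_, hinf, hsup⟩
    intro a ha b hb
    exact Subgroup.mem_center_iff.mp (hcen hb) a
  · left
    exact ⟨Subgroup.centralizer (N : Set G), inferInstance, hab, hind⟩

end PrimePower

section General

variable {G : Type u} [Group G] [Fintype G]

/-- all irreducible characters of a commutative group are linear -/
theorem charDegree_eq_one_of_comm (hcomm : ∀ a b : G, a * b = b * a) (χ : IrrCharacter G) :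
    charDegree (χ : G → ℂ) = 1 := by
  have hc : IsMulCommutative G := ⟨⟨hcomm⟩⟩
  have h1 : (χ : G → ℂ) 1 = 1 := Helper78.IsIrrCharacter.map_one_of_comm χ.2
  rw [Helper78.IsCharacter.apply_one_eq_charDegree (Helper78.IsIrrCharacter.isCharacter χ.2)] at h1
  exact_mod_cast h1

/-- **Isaacs 12.5, the case where `m` is not a prime power** -/
theorem two_deg_general (m : ℕ)
    (hcd : ∀ χ : IrrCharacter G, charDegree (χ : G → ℂ) = 1 ∨ charDegree (χ : G → ℂ) = m)
    (hm : ∃ χ : IrrCharacter G, charDegree (χ : G → ℂ) = m) (hm1 : m ≠ 1)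
    (hnpp : ¬ ∃ p e : ℕ, p.Prime ∧ m = p ^ e) :
    ∃ A : Subgroup G, A.Normal ∧ (∀ a ∈ A, ∀ b ∈ A, a * b = b * a) ∧ A.index = m := by
  classical
  have hm0 : m ≠ 0 := by
    obtain ⟨χ, hχ⟩ := hm
    have := Helper78.IsIrrCharacter.charDegree_pos χ.2
    omega
  have hT : ∀ p, p ∈ m.primeFactors → ∃ Np : Subgroup G, Np.Normal ∧ (Nat.card Np).Coprime p ∧
      ∃ k : ℕ, Np.index = p ^ k := by
    intro p hp
    have hpp := Nat.prime_of_mem_primeFactors hp
    have hpm := Nat.dvd_of_mem_primeFactors hp
    apply Cfsg.Agent.S4456.result p hpp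
    intro χ hχ
    rw [(hcd χ).resolve_left hχ]
    exact hpm
  choose! Np hNpn hNpc hNpk using hT
  set F : Subgroup G := ⨅ p ∈ m.primeFactors, Np p with hFdef
  have hFn : F.Normal :=
    Subgroup.normal_iInf_normal (fun p => Subgroup.normal_iInf_normal (fun hp => hNpn p hp))
  have hFle : ∀ p ∈ m.primeFactors, F ≤ Np p := fun p hp => iInf₂_le p hp
  have hFmem : ∀ x : G, (∀ p ∈ m.primeFactors, x ∈ Np p) → x ∈ F := by
    intro x hx
    rw [hFdef]
    simp only [Subgroup.mem_iInf]
    exact hx
  -- `G/F` is abelian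
  have hGF : ∀ a b : G, ⁅a, b⁆ ∈ F := by
    intro a b
    apply hFmem
    intro p hp
    have hpp := Nat.prime_of_mem_primeFactors hp
    haveI := hNpn p hp
    let _ : Fintype (G ⧸ Np p) := Fintype.ofFinite _
    obtain ⟨k, hk⟩ := hNpk p hp
    have hall : ∀ χ' : IrrCharacter (G ⧸ Np p), charDegree (χ' : G ⧸ Np p → ℂ) = 1 := by
      intro χ'
      by_contra hne
      have hdeg : charDegree (χ' : G ⧸ Np p → ℂ) = m := by
        have h1 := hcd (Helper77.inflate (Np p) χ')
        rw [charDegree_inflate] at h1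
        exact h1.resolve_left hne
      have h2 : charDegree (χ' : G ⧸ Np p → ℂ) ∣ p ^ k := by
        rw [← hk, Subgroup.index_eq_card]
        exact Helper79.irr_charDegree_dvd_card χ'
      obtain ⟨j, -, hj⟩ := (Nat.dvd_prime_pow hpp).mp h2
      exact hnpp ⟨p, j, hpp, by rw [← hdeg, hj]⟩
    have hcomm := commutative_of_forall_charDegree_eq_one hall
    have h1 : (QuotientGroup.mk' (Np p)) ⁅a, b⁆ = 1 := by
      rw [map_commutatorElement]
      exact commutatorElement_eq_one_iff_mul_comm.mpr (hcomm _ _)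
    exact (QuotientGroup.eq_one_iff _).mp h1
  -- primes dividing the index of `F` divide `m`
  have hprime : ∀ q : ℕ, q.Prime → q ∣ F.index → q ∣ m := by
    intro q hq hqF
    by_contra hqm
    haveI : Fact q.Prime := ⟨hq⟩
    obtain ⟨Q⟩ : Nonempty (Sylow q G) := inferInstance
    have hQF : (Q : Subgroup G) ≤ F := by
      intro x hx
      apply hFmem
      intro p hp
      have hpp := Nat.prime_of_mem_primeFactors hp
      have hpm := Nat.dvd_of_mem_primeFactors hp
      haveI := hNpn p hp
      obtain ⟨k, hk⟩ := hNpk p hp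
      obtain ⟨a, ha⟩ := Q.isPGroup' ⟨x, hx⟩
      have ha' : x ^ q ^ a = 1 := by
        have := congrArg Subtype.val ha
        rwa [SubmonoidClass.coe_pow] at this
      have h1 : (QuotientGroup.mk x : G ⧸ Np p) ^ q ^ a = 1 := by
        rw [← QuotientGroup.mk_pow, ha', QuotientGroup.mk_one]
      have h2 : (QuotientGroup.mk x : G ⧸ Np p) ^ p ^ k = 1 := by
        rw [← hk, Subgroup.index_eq_card]
        exact pow_card_eq_one'
      have hqp : Nat.Coprime (q ^ a) (p ^ k) := by
        apply Nat.Coprime.pow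
        rw [Nat.coprime_primes hq hpp]
        rintro rfl
        exact hqm hpm
      have h3 : orderOf (QuotientGroup.mk x : G ⧸ Np p) = 1 :=
        Nat.eq_one_of_dvd_coprimes hqp (orderOf_dvd_of_pow_eq_one h1)
          (orderOf_dvd_of_pow_eq_one h2)
      exact (QuotientGroup.eq_one_iff x).mp (orderOf_eq_one_iff.mp h3)
    exact Q.not_dvd_index (hqF.trans (Subgroup.index_dvd_of_le hQF))
  have hnotdvd : ∀ q : ℕ, q.Prime → q ∣ m → ¬ q ∣ Nat.card F := by
    intro q hq hqm hqF
    have hqmem : q ∈ m.primeFactors := Nat.mem_primeFactors.mpr ⟨hq, hqm, hm0⟩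
    have h1 : Nat.card F ∣ Nat.card (Np q) := Subgroup.card_dvd_of_le (hFle q hqmem)
    have h2 := hNpc q hqmem
    exact (Nat.Prime.coprime_iff_not_dvd hq).mp h2.symm (hqF.trans h1)
  have hcop : Nat.Coprime F.index (Nat.card F) :=
    Nat.coprime_of_dvd (fun q hq h1 h2 => hnotdvd q hq (hprime q hq h1) h2)
  have hcopm : Nat.Coprime m (Nat.card F) :=
    Nat.coprime_of_dvd (fun q hq h1 h2 => hnotdvd q hq h1 h2)
  have hlin := linear_of_coprime F m hcd hcopm
  have hGC : ∀ a b : G, ⁅a, b⁆ ∈ Subgroup.centralizer (F : Set G) :=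
    fun a b => le_centralizer_of_linear F hlin (hGF a b)
  rcases two_deg_engine F m hcd hcop hlin hGC with hcen | ⟨hab, hind⟩
  · exfalso
    have hcomm : ∀ a ∈ (⊤ : Subgroup G), ∀ b ∈ (⊤ : Subgroup G), a * b = b * a := by
      apply comm_of_central_coprime (⊤ : Subgroup G) F F.index
      · intro c _ n hn
        exact Subgroup.mem_center_iff.mp (hcen hn) c
      · intro a _ b _
        exact hGF a b
      · intro c _
        exact pow_index_mem F c
      · exact hcop
    obtain ⟨χ, hχ⟩ := hm
    have := charDegree_eq_one_of_comm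
      (fun a b => hcomm a (Subgroup.mem_top a) b (Subgroup.mem_top b)) χ
    omega
  · exact ⟨Subgroup.centralizer (F : Set G), inferInstance, hab, hind⟩

end General

end Cfsg.Agent.Lib.Helper80
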