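import Mathlib
import Cfsg.Agent.Lib.Helper80.TwoDeg
import Cfsg.Agent.S4457

/-!
# Two character degrees: the derived subgroup is abelian (helper80)

Isaacs 12.6, from 12.5 (`S4457`), Taketa's argument and `nilpotent ⇒ monomial` (helper75).
-/

set_option autoImplicit false

namespace Cfsg.Agent.Lib.Helper80

open Cfsg
open scoped ComplexConjugate commutatorElement

universe u

section Taketa2

open Cfsg.Agent.Lib.Helper78 Cfsg.Agent.Lib.Helper75

variable {G : Type u} [Group G] [Fintype G]

/-- **Taketa's argument for two degrees**: in an M-group with character degrees `1, m` every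
irreducible character is trivial on `G''`. -/
theorem taketa_two_deg (hM : ∀ χ : G → ℂ, IsIrrCharacter G χ →
      ∃ (H : Subgroup G) (lam : H →* ℂˣ), χ = indFun H (fun h => (lam h : ℂ)))
    (m : ℕ) (hcd : ∀ χ : IrrCharacter G, charDegree (χ : G → ℂ) = 1 ∨ charDegree (χ : G → ℂ) = m)
    (χ : G → ℂ) (hχ : IsIrrCharacter G χ) (x : G) (hx : x ∈ derivedSeries G 2) : χ x = χ 1 := by
  classical
  have hx1 : x ∈ derivedSeries G 1 := derivedSeries_antitone G (by norm_num) hx
  by_cases hle : charDegree χ ≤ 1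
  · exact taketa_aux hM 1 χ hχ hle x hx1
  · have hdeg : charDegree χ = m := by
      rcases hcd ⟨χ, hχ⟩ with h | h
      · simp only at h; omega
      · exact h
    obtain ⟨d, hd⟩ : ∃ d, m = d + 1 := ⟨m - 1, by omega⟩
    have hdpos : 1 ≤ d := by omega
    obtain ⟨H, lam, hlam⟩ := hM χ hχ
    have hidx : H.index = d + 1 := by
      have h1 := IsCharacter.apply_one_eq_charDegree (IsIrrCharacter.isCharacter hχ)
      rw [hdeg, hd] at h1
      have h2 := congrFun hlam 1
      rw [indFun_one, h1] at h2
      simp only [map_one, Units.val_one, mul_one] at h2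
      exact_mod_cast h2.symm
    have hi : derivedSeries G 1 ≤ H := by
      intro y hy
      have hπ : IsCharacter G (indFun H (fun _ => (1 : ℂ))) :=
        Cfsg.Agent.S0148.result H _ (IsIrrCharacter.isCharacter (isIrrCharacter_one (G := H)))
      obtain ⟨mu, hmu⟩ := (isCharacter_iff_exists_nat_combination _).mp hπ
      apply mem_of_indFun_one_eq H y
      rw [hmu, Finset.sum_apply, Finset.sum_apply]
      apply Finset.sum_congr rfl
      intro ψ _
      by_cases hmψ : mu ψ = 0
      · simp [hmψ]
      · have h1 := charDegree_le_of_perm_constituent H d hdpos hidx mu hmu ψ hmψ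
        have h2 : charDegree (ψ : G → ℂ) ≤ 1 := by
          rcases hcd ψ with h | h
          · omega
          · omega
        rw [Pi.smul_apply, Pi.smul_apply, taketa_aux hM 1 ψ ψ.2 h2 y hy]
    have hii : derivedSeries G 2 ≤ ⁅H, H⁆ := by
      rw [derivedSeries_succ]
      exact Subgroup.commutator_mono hi hi
    have hn : (derivedSeries G 2).Normal := derivedSeries_normal G 2
    rw [hlam]
    exact indFun_hom_eq_of_normal H lam (derivedSeries G 2)
      (fun y hy => hom_eq_one_of_mem_commutator H lam y (hii hy)) x hx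

/-- an M-group with two character degrees is metabelian -/
theorem derivedSeries_two_eq_bot_of_monomial (hM : ∀ χ : G → ℂ, IsIrrCharacter G χ →
      ∃ (H : Subgroup G) (lam : H →* ℂˣ), χ = indFun H (fun h => (lam h : ℂ)))
    (m : ℕ) (hcd : ∀ χ : IrrCharacter G, charDegree (χ : G → ℂ) = 1 ∨ charDegree (χ : G → ℂ) = m) :
    derivedSeries G 2 = ⊥ := by
  rw [eq_bot_iff]
  intro x hx
  rw [Subgroup.mem_bot]
  have h1 : ∀ χ : IrrCharacter G, (χ : G → ℂ) x = (χ : G → ℂ) 1 :=
    fun χ => taketa_two_deg hM m hcd χ.1 χ.2 x hx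
  have h2 := isConj_of_forall_irr_eq h1
  exact isConj_one_right.mp h2.symm

end Taketa2

section Nilp

variable {G : Type u} [Group G] [Finite G]

/-- an internal direct product of a `p`-group and an abelian group is nilpotent -/
theorem isNilpotent_of_pgroup_sup_abelian (p : ℕ) [hp : Fact p.Prime] (P A : Subgroup G)
    [hPn : P.Normal] [hAn : A.Normal] (hP : IsPGroup p P)
    (hA : ∀ a ∈ A, ∀ b ∈ A, a * b = b * a) (hinf : P ⊓ A = ⊥) (hsup : P ⊔ A = ⊤) :
    Group.IsNilpotent G := by
  have hdecomp : ∀ g : G, ∃ x ∈ P, ∃ a ∈ A, x * a = g := by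
    intro g
    have h1 : g ∈ ((P ⊔ A : Subgroup G) : Set G) := by rw [hsup]; exact Set.mem_univ g
    rw [Subgroup.mul_normal] at h1
    obtain ⟨x, hx, a, ha, rfl⟩ := Set.mem_mul.mp h1
    exact ⟨x, hx, a, ha, rfl⟩
  have hdis : Disjoint P A := disjoint_iff.mpr hinf
  have hcen : A ≤ Subgroup.center G := by
    intro a ha
    rw [Subgroup.mem_center_iff]
    intro g
    obtain ⟨x, hx, b, hb, rfl⟩ := hdecomp g
    have h1 : x * a = a * x := (Subgroup.commute_of_normal_of_disjoint P A hPn hAn hdis x a hx ha).eq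
    have h2 : b * a = a * b := hA b hb a ha
    rw [mul_assoc, h2, ← mul_assoc, h1, mul_assoc]
  have hQ : IsPGroup p (G ⧸ A) := by
    intro y
    obtain ⟨g, rfl⟩ := QuotientGroup.mk_surjective y
    obtain ⟨x, hx, b, hb, rfl⟩ := hdecomp g
    obtain ⟨k, hk⟩ := hP ⟨x, hx⟩
    refine ⟨k, ?_⟩
    have hk' : x ^ p ^ k = 1 := by
      have := congrArg Subtype.val hk
      rwa [SubmonoidClass.coe_pow] at this
    have h1 : (QuotientGroup.mk (x * b) : G ⧸ A) = QuotientGroup.mk x := by
      rw [QuotientGroup.mk_mul, (QuotientGroup.eq_one_iff b).mpr hb, mul_one]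
    rw [h1, ← QuotientGroup.mk_pow, hk', QuotientGroup.mk_one]
  haveI : Group.IsNilpotent (G ⧸ A) := hQ.isNilpotent
  exact Subgroup.isNilpotent_of_ker_le_center (QuotientGroup.mk' A)
    (by rw [QuotientGroup.ker_mk']; exact hcen)

end Nilp

section Main

variable {G : Type u} [Group G] [Fintype G]

/-- **Isaacs 12.6**: two character degrees imply `G'' = 1`. -/
theorem derivedSeries_two_eq_bot_of_two_degrees (m : ℕ)
    (hcd : ∀ χ : IrrCharacter G, charDegree (χ : G → ℂ) = 1 ∨ charDegree (χ : G → ℂ) = m)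
    (hm : ∃ χ : IrrCharacter G, charDegree (χ : G → ℂ) = m) (hm1 : m ≠ 1) :
    ∀ a ∈ commutator G, ∀ b ∈ commutator G, a * b = b * a := by
  classical
  rcases Cfsg.Agent.S4457.result m hcd hm hm1 with ⟨A, hAn, hA, hAidx⟩ | ⟨p, e, hp, -, P, A, hPn, hAn, hP, hA, hinf, hsup⟩
  · -- `G/A` has order `m`, hence is abelian
    let _ : Fintype (G ⧸ A) := Fintype.ofFinite _
    have hm0 : 0 < m := by
      obtain ⟨χ, hχ⟩ := hm
      rw [← hχ]; exact Helper78.IsIrrCharacter.charDegree_pos χ.2
    have hall : ∀ χ' : IrrCharacter (G ⧸ A), charDegree (χ' : G ⧸ A → ℂ) = 1 := by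
      intro χ'
      by_contra hne
      have hdeg : charDegree (χ' : G ⧸ A → ℂ) = m := by
        have h1 := hcd (Helper77.inflate A χ')
        rw [charDegree_inflate] at h1
        exact h1.resolve_left hne
      have h1 := Helper78.sum_irr_charDegree_sq (G := G ⧸ A)
      have h2 : charDegree (χ' : G ⧸ A → ℂ) ^ 2 ≤
          ∑ ψ : IrrCharacter (G ⧸ A), charDegree (ψ : G ⧸ A → ℂ) ^ 2 :=
        Finset.single_le_sum (f := fun ψ : IrrCharacter (G ⧸ A) => charDegree (ψ : G ⧸ A → ℂ) ^ 2)
          (fun _ _ => Nat.zero_le _) (Finset.mem_univ χ')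
      rw [h1, hdeg, ← Subgroup.index_eq_card, hAidx] at h2
      have h3 : m ≤ 1 := by nlinarith
      omega
    have hcomm := commutative_of_forall_charDegree_eq_one hall
    have hle : commutator G ≤ A := by
      rw [commutator_def, Subgroup.commutator_le]
      intro a _ b _
      have h1 : (QuotientGroup.mk' A) ⁅a, b⁆ = 1 := by
        rw [map_commutatorElement]
        exact commutatorElement_eq_one_iff_mul_comm.mpr (hcomm _ _)
      exact (QuotientGroup.eq_one_iff _).mp h1
    intro a ha b hb
    exact hA a (hle ha) b (hle hb)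
  · haveI : Fact p.Prime := ⟨hp⟩
    haveI : Group.IsNilpotent G :=
      isNilpotent_of_pgroup_sup_abelian p P A hP hA hinf hsup
    have h2 := derivedSeries_two_eq_bot_of_monomial
      (fun χ hχ => Helper75.nilpotent_monomial χ hχ) m hcd
    intro a ha b hb
    have h3 : ⁅a, b⁆ ∈ derivedSeries G 2 := by
      rw [derivedSeries_succ, derivedSeries_one]
      exact Subgroup.commutator_mem_commutator ha hb
    rw [h2, Subgroup.mem_bot] at h3
    exact commutatorElement_eq_one_iff_mul_comm.mp h3

end Main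

end Cfsg.Agent.Lib.Helper80
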