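import Cfsg.Agent.Lib.Helper80.DefOneGM2
import Cfsg.Agent.Lib.Helper15.DefOneM4

/-!
# PROJECT BC (defect one), general blocks: stable maps and MODULE (GT4)

`IsStableMap ρ P ρW f`: `f : W → V` is an `N_G(P)`-equivariant linear map from an
`F[N_G(P)]`-module `W` into (the `P`-fixed points of) an `F[G]`-module `V`, injective modulo
`P`-traces, i.e. an embedding of `W` into the Brauer quotient `V^P / Tr_1^P V`.

(GT4): for a Sylow `p`-subgroup `P` of order `p` and an irreducible `F[G]`-module `V`, any two
irreducible `F[N_G(P)]`-modules (trivial on `P`) with stable maps into `V` are isomorphic.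
-/

set_option autoImplicit false
set_option linter.unusedSectionVars false

namespace Cfsg.Agent.Lib.Helper80.DefOneGen

open Cfsg.Agent.Lib.Helper77.DefOne Cfsg.Agent.Lib.Helper15.DefOne

variable {F : Type*} [Field F] {G : Type*} [Group G] [Fintype G]
  {V : Type*} [AddCommGroup V] [Module F V] {p : ℕ} [Fact p.Prime] [CharP F p]

/-- a stable map: an `N_G(P)`-equivariant linear map `W → V` injective modulo `P`-traces -/
def IsStableMap {W : Type*} [AddCommGroup W] [Module F W] (ρ : Representation F G V)
    (P : Subgroup G) (ρW : Representation F (Subgroup.normalizer (P : Set G)) W)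
    (f : W →ₗ[F] V) : Prop :=
  (∀ (n : Subgroup.normalizer (P : Set G)) (w : W), ρ (n : G) (f w) = f (ρW n w)) ∧
    ∀ w, f w ∈ LinearMap.range (trOne ρ P) → w = 0

/-- **MODULE (GT4).** -/
theorem GT4 [IsAlgClosed F] [FiniteDimensional F V] (P : Sylow p G) (hP : Nat.card P = p)
    (ρ : Representation F G V) [ρ.IsIrreducible]
    {W W' : Type*} [AddCommGroup W] [Module F W] [AddCommGroup W'] [Module F W']
    (ρW : Representation F (Subgroup.normalizer ((P : Subgroup G) : Set G)) W)
    (ρW' : Representation F (Subgroup.normalizer ((P : Subgroup G) : Set G)) W')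
    [ρW.IsIrreducible] [ρW'.IsIrreducible]
    (hWP : ∀ n : Subgroup.normalizer ((P : Subgroup G) : Set G),
      (n : G) ∈ (P : Subgroup G) → ρW n = 1)
    (hWP' : ∀ n : Subgroup.normalizer ((P : Subgroup G) : Set G),
      (n : G) ∈ (P : Subgroup G) → ρW' n = 1)
    (f : W →ₗ[F] V) (f' : W' →ₗ[F] V)
    (h : IsStableMap ρ (P : Subgroup G) ρW f) (h' : IsStableMap ρ (P : Subgroup G) ρW' f') :
    ∃ e : W ≃ₗ[F] W', ∀ n w, e (ρW n w) = ρW' n (e w) := by
  classical
  by_contra hcon
  -- no nonzero intertwiner `W' → W`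
  have hne : ∀ φ : W' →ₗ[F] W, (∀ n w, φ (ρW' n w) = ρW n (φ w)) → φ = 0 := by
    intro φ hφ
    by_contra hφ0
    let Φ : Representation.IntertwiningMap ρW' ρW :=
      ⟨φ, fun g => by ext v; exact hφ g v⟩
    rcases Representation.IsIrreducible.bijective_or_eq_zero Φ with hbij | h0
    · apply hcon
      let e : W' ≃ₗ[F] W := LinearEquiv.ofBijective φ hbij
      refine ⟨e.symm, ?_⟩
      intro n w
      apply e.injective
      rw [LinearEquiv.apply_symm_apply]
      show ρW n w = φ (ρW' n (e.symm w))
      rw [hφ]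
      show ρW n w = ρW n (e (e.symm w))
      rw [LinearEquiv.apply_symm_apply]
    · apply hφ0
      have := congrArg Representation.IntertwiningMap.toLinearMap h0
      exact this
  have : Fintype (Subgroup.normalizer ((P : Subgroup G) : Set G)) := Fintype.ofFinite _
  have hnormal : ((P : Subgroup G).subgroupOf
      (Subgroup.normalizer ((P : Subgroup G) : Set G))).Normal :=
    Subgroup.normal_in_normalizer
  have htr := trOne_res ρ (Subgroup.normalizer ((P : Subgroup G) : Set G)) (P : Subgroup G)
    Subgroup.le_normalizer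
  obtain ⟨β, hβ, hind⟩ := GM2 (p := p)
    ((P : Subgroup G).subgroupOf (Subgroup.normalizer ((P : Subgroup G) : Set G)))
    (M4_hyps_card P hP) (M4_hyps_index P)
    (ρ.comp (Subgroup.normalizer ((P : Subgroup G) : Set G)).subtype) ρW ρW'
    (fun u hu => hWP u (Subgroup.mem_subgroupOf.mp hu))
    (fun u hu => hWP' u (Subgroup.mem_subgroupOf.mp hu))
    f f' (fun n w => h.1 n w) (fun n w => h'.1 n w)
    (fun w hw => h.2 w (by rw [← htr]; exact hw))
    (fun w hw => h'.2 w (by rw [← htr]; exact hw)) hne
  exact M4_core P hP ρ β hβ hind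

end Cfsg.Agent.Lib.Helper80.DefOneGen
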