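import Cfsg.Agent.Lib.Helper80.DefOneGT4
import Cfsg.Agent.Lib.Helper58.DefOneM3

/-!
# PROJECT BC (defect one), general blocks: MODULE (GT3), existence of stable maps

For a Sylow `p`-subgroup `P` of order `p` of `G` and every irreducible representation `ρW` of
`N_G(P)` on which `P` acts trivially there are a finite-dimensional irreducible representation
`ρ` of `G` and a stable map `f : W → V` (`IsStableMap ρ P ρW f`).

Proof: start with the module of right-`P`-invariant functions `G → W` and cut it down by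
half-exactness (generalising helper58's `M3`).
-/

set_option autoImplicit false
set_option linter.unusedSectionVars false

namespace Cfsg.Agent.Lib.Helper80.DefOneGen

open Cfsg.Agent.Lib.Helper77.DefOne Cfsg.Agent.Lib.Helper58.DefOneM3

universe u v w x

section start

variable {F : Type v} [Field F] {G : Type u} [Group G] [Fintype G]
  {W : Type w} [AddCommGroup W] [Module F W]

/-- left translation on functions `G → W` -/
def funRepW : Representation F G (G → W) where
  toFun g :=
    { toFun := fun f x => f (g⁻¹ * x)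
      map_add' := fun _ _ => rfl
      map_smul' := fun _ _ => rfl }
  map_one' := by
    refine LinearMap.ext fun f => funext fun x => ?_
    simp
  map_mul' g h := by
    refine LinearMap.ext fun f => funext fun x => ?_
    simp [mul_assoc]

@[simp] theorem funRepW_apply (g : G) (f : G → W) (x : G) :
    funRepW (F := F) g f x = f (g⁻¹ * x) := rfl

/-- right `P`-invariant functions `G → W` -/
def WP (P : Subgroup G) : Submodule F (G → W) where
  carrier := {f | ∀ g : G, ∀ u ∈ P, f (g * u) = f g}
  add_mem' := by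
    intro a b ha hb g u hu
    simp [ha g u hu, hb g u hu]
  zero_mem' := by
    intro g u _
    rfl
  smul_mem' := by
    intro c a ha g u hu
    simp [ha g u hu]

theorem WP_inv (P : Subgroup G) (g : G) :
    WP (F := F) (W := W) P ≤ (WP (F := F) (W := W) P).comap (funRepW (F := F) g) := by
  intro f hf x u hu
  show f (g⁻¹ * (x * u)) = f (g⁻¹ * x)
  rw [← mul_assoc]
  exact hf _ u hu

/-- the induced-type representation on right `P`-invariant functions -/
def rhoWP (P : Subgroup G) : Representation F G (WP (F := F) (W := W) P) :=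
  (funRepW (F := F) (W := W)).subrepresentation (WP P) (WP_inv P)

variable {p : ℕ} [Fact p.Prime] [CharP F p]

/-- the starting map, as a function -/
noncomputable def f0fun (P : Sylow p G) (ρW : Representation F (NN P) W) (w : W) : G → W := by
  classical
  exact fun g => if h : g ∈ NN P then ρW (⟨g, h⟩ : NN P)⁻¹ w else 0

theorem f0fun_of_mem (P : Sylow p G) (ρW : Representation F (NN P) W) (w : W) (g : G)
    (h : g ∈ NN P) : f0fun P ρW w g = ρW (⟨g, h⟩ : NN P)⁻¹ w := by
  classical
  unfold f0fun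
  rw [dif_pos h]

theorem f0fun_of_not_mem (P : Sylow p G) (ρW : Representation F (NN P) W) (w : W) (g : G)
    (h : g ∉ NN P) : f0fun P ρW w g = 0 := by
  classical
  unfold f0fun
  rw [dif_neg h]

theorem f0fun_mem (P : Sylow p G) (ρW : Representation F (NN P) W)
    (hWP : ∀ n : NN P, (n : G) ∈ (P : Subgroup G) → ρW n = 1) (w : W) :
    f0fun P ρW w ∈ WP (F := F) (W := W) (P : Subgroup G) := by
  intro g u hu
  have huN : u ∈ NN P := Subgroup.le_normalizer hu
  by_cases hg : g ∈ NN P
  · have hgu : g * u ∈ NN P := mul_mem hg huN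
    rw [f0fun_of_mem P ρW w _ hgu, f0fun_of_mem P ρW w _ hg]
    have h1 : (⟨g * u, hgu⟩ : NN P)⁻¹ = (⟨u, huN⟩ : NN P)⁻¹ * (⟨g, hg⟩ : NN P)⁻¹ := by
      rw [← mul_inv_rev]
      rfl
    rw [h1, map_mul, Module.End.mul_apply]
    have h2 : ρW (⟨u, huN⟩ : NN P)⁻¹ = 1 := hWP _ (inv_mem hu)
    rw [h2, Module.End.one_apply]
  · have hgu : g * u ∉ NN P := by
      intro h
      apply hg
      have := mul_mem h (inv_mem huN)
      simpa using this
    rw [f0fun_of_not_mem P ρW w _ hgu, f0fun_of_not_mem P ρW w _ hg]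

theorem f0fun_add (P : Sylow p G) (ρW : Representation F (NN P) W) (w w' : W) :
    f0fun P ρW (w + w') = f0fun P ρW w + f0fun P ρW w' := by
  funext g
  by_cases hg : g ∈ NN P
  · rw [Pi.add_apply, f0fun_of_mem P ρW _ _ hg, f0fun_of_mem P ρW _ _ hg,
      f0fun_of_mem P ρW _ _ hg, map_add]
  · rw [Pi.add_apply, f0fun_of_not_mem P ρW _ _ hg, f0fun_of_not_mem P ρW _ _ hg,
      f0fun_of_not_mem P ρW _ _ hg, add_zero]

theorem f0fun_smul (P : Sylow p G) (ρW : Representation F (NN P) W) (c : F) (w : W) :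
    f0fun P ρW (c • w) = c • f0fun P ρW w := by
  funext g
  by_cases hg : g ∈ NN P
  · rw [Pi.smul_apply, f0fun_of_mem P ρW _ _ hg, f0fun_of_mem P ρW _ _ hg, map_smul]
  · rw [Pi.smul_apply, f0fun_of_not_mem P ρW _ _ hg, f0fun_of_not_mem P ρW _ _ hg, smul_zero]

/-- the starting map `W → WP P` -/
noncomputable def f0 (P : Sylow p G) (ρW : Representation F (NN P) W)
    (hWP : ∀ n : NN P, (n : G) ∈ (P : Subgroup G) → ρW n = 1) :
    W →ₗ[F] WP (F := F) (W := W) (P : Subgroup G) where
  toFun w := ⟨f0fun P ρW w, f0fun_mem P ρW hWP w⟩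
  map_add' w w' := Subtype.ext (f0fun_add P ρW w w')
  map_smul' c w := Subtype.ext (f0fun_smul P ρW c w)

theorem f0fun_equiv (P : Sylow p G) (ρW : Representation F (NN P) W) (n : NN P) (w : W) :
    funRepW (F := F) (n : G) (f0fun P ρW w) = f0fun P ρW (ρW n w) := by
  funext x
  rw [funRepW_apply]
  by_cases hx : x ∈ NN P
  · have hnx : (n : G)⁻¹ * x ∈ NN P := mul_mem (inv_mem n.2) hx
    rw [f0fun_of_mem P ρW _ _ hnx, f0fun_of_mem P ρW _ _ hx]
    have h1 : (⟨(n : G)⁻¹ * x, hnx⟩ : NN P)⁻¹ = (⟨x, hx⟩ : NN P)⁻¹ * n := by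
      have : (⟨(n : G)⁻¹ * x, hnx⟩ : NN P) = n⁻¹ * ⟨x, hx⟩ := rfl
      rw [this, mul_inv_rev, inv_inv]
    rw [h1, map_mul, Module.End.mul_apply]
  · have hnx : (n : G)⁻¹ * x ∉ NN P := by
      intro h
      apply hx
      have := mul_mem n.2 h
      simpa using this
    rw [f0fun_of_not_mem P ρW _ _ hnx, f0fun_of_not_mem P ρW _ _ hx]

theorem f0fun_one (P : Sylow p G) (ρW : Representation F (NN P) W) (w : W) :
    f0fun P ρW w 1 = w := by
  rw [f0fun_of_mem P ρW w 1 (one_mem _)]
  have : (⟨1, one_mem _⟩ : NN P)⁻¹ = 1 := by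
    rw [inv_eq_one]
    rfl
  rw [this, map_one, Module.End.one_apply]

theorem trOne_rhoWP_one (P : Sylow p G) (hP : Nat.card P = p)
    (y : WP (F := F) (W := W) (P : Subgroup G)) :
    (trOne (rhoWP (F := F) (W := W) (P : Subgroup G)) (P : Subgroup G) y : G → W) 1 = 0 := by
  classical
  rw [trOne_apply]
  have h1 : ∀ g ∈ Finset.univ.filter (fun g : G => g ∈ (P : Subgroup G)),
      ((rhoWP (F := F) (W := W) (P : Subgroup G) g y : WP (F := F) (W := W) (P : Subgroup G)) :
        G → W) 1 = (y : G → W) 1 := by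
    intro g hg
    rw [Finset.mem_filter] at hg
    show (y : G → W) (g⁻¹ * 1) = (y : G → W) 1
    rw [mul_one]
    have := y.2 1 g⁻¹ (inv_mem hg.2)
    rw [one_mul] at this
    exact this
  rw [Submodule.coe_sum, Finset.sum_apply, Finset.sum_congr rfl h1, Finset.sum_const]
  have hc : (Finset.univ.filter (fun g : G => g ∈ (P : Subgroup G))).card = p := by
    have h2 : Nat.card (P : Subgroup G) =
        (Finset.univ.filter (fun g : G => g ∈ (P : Subgroup G))).card := by
      rw [Nat.card_eq_fintype_card, Fintype.card_subtype]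
    rw [← h2]
    exact hP
  rw [hc]
  have h3 : ((p : ℕ) : F) = 0 := CharP.cast_eq_zero F p
  rw [← Nat.cast_smul_eq_nsmul F, h3, zero_smul]

theorem start_stableMap (P : Sylow p G) (hP : Nat.card P = p) (ρW : Representation F (NN P) W)
    (hWP : ∀ n : NN P, (n : G) ∈ (P : Subgroup G) → ρW n = 1) :
    IsStableMap (rhoWP (F := F) (W := W) (P : Subgroup G)) (P : Subgroup G) ρW
      (f0 P ρW hWP) := by
  constructor
  · intro n w
    apply Subtype.ext
    show funRepW (F := F) (n : G) (f0fun P ρW w) = f0fun P ρW (ρW n w)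
    exact f0fun_equiv P ρW n w
  · rintro w ⟨y, hy⟩
    have h1 := trOne_rhoWP_one (F := F) (W := W) P hP y
    rw [hy] at h1
    have h2 : f0fun P ρW w 1 = (0 : W) := h1
    rw [f0fun_one] at h2
    exact h2

end start

section avg

variable {F : Type v} [Field F] {G : Type u} [Group G] [Fintype G]
  {V : Type x} [AddCommGroup V] [Module F V] {W : Type w} [AddCommGroup W] [Module F W]
  {p : ℕ} [Fact p.Prime] [CharP F p]

attribute [local instance] fintypeQ

/-- summand of the averaging operator on linear maps: `ρ n ∘ f ∘ ρW n⁻¹` -/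
noncomputable def tm (ρ : Representation F G V) (P : Sylow p G) (ρW : Representation F (NN P) W)
    (f : W →ₗ[F] V) (n : NN P) : W →ₗ[F] V :=
  ρ (n : G) ∘ₗ f ∘ₗ ρW n⁻¹

theorem tm_apply (ρ : Representation F G V) (P : Sylow p G) (ρW : Representation F (NN P) W)
    (f : W →ₗ[F] V) (n : NN P) (w : W) : tm ρ P ρW f n w = ρ (n : G) (f (ρW n⁻¹ w)) := rfl

theorem tm_mul_right (ρ : Representation F G V) (P : Sylow p G) (ρW : Representation F (NN P) W)
    (hWP : ∀ n : NN P, (n : G) ∈ (P : Subgroup G) → ρW n = 1)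
    (f : W →ₗ[F] V) (hf : ∀ w, ∀ u ∈ (P : Subgroup G), ρ u (f w) = f w)
    (n h : NN P) (hh : h ∈ HH P) : tm ρ P ρW f (n * h) = tm ρ P ρW f n := by
  have hhP : (h : G) ∈ (P : Subgroup G) := Subgroup.mem_subgroupOf.mp hh
  refine LinearMap.ext fun w => ?_
  rw [tm_apply, tm_apply, mul_inv_rev, map_mul, Module.End.mul_apply]
  have h1 : ρW h⁻¹ = 1 := hWP _ (inv_mem hhP)
  rw [h1, Module.End.one_apply]
  have h2 : ((n * h : NN P) : G) = (n : G) * (h : G) := rfl
  rw [h2, map_mul, Module.End.mul_apply, hf _ _ hhP]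

theorem tm_out (ρ : Representation F G V) (P : Sylow p G) (ρW : Representation F (NN P) W)
    (hWP : ∀ n : NN P, (n : G) ∈ (P : Subgroup G) → ρW n = 1)
    (f : W →ₗ[F] V) (hf : ∀ w, ∀ u ∈ (P : Subgroup G), ρ u (f w) = f w) (n : NN P) :
    tm ρ P ρW f ((n : NN P ⧸ HH P).out) = tm ρ P ρW f n := by
  obtain ⟨h, hh⟩ := QuotientGroup.mk_out_eq_mul (HH P) n
  rw [hh]
  exact tm_mul_right ρ P ρW hWP f hf n h h.2

theorem rho_tm (ρ : Representation F G V) (P : Sylow p G) (ρW : Representation F (NN P) W)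
    (f : W →ₗ[F] V) (n' n : NN P) (w : W) :
    ρ (n' : G) (tm ρ P ρW f n w) = tm ρ P ρW f (n' * n) (ρW n' w) := by
  rw [tm_apply, tm_apply]
  have h1 : ((n' * n : NN P) : G) = (n' : G) * (n : G) := rfl
  rw [h1, map_mul, Module.End.mul_apply]
  congr 2
  rw [← Module.End.mul_apply, ← map_mul]
  congr 2
  group

/-- the `N/P`-averaging operator on linear maps (without the factor `1/|N:P|`) -/
noncomputable def avgMap (ρ : Representation F G V) (P : Sylow p G)
    (ρW : Representation F (NN P) W) (f : W →ₗ[F] V) : W →ₗ[F] V :=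
  ∑ q : NN P ⧸ HH P, tm ρ P ρW f q.out

theorem avgMap_apply (ρ : Representation F G V) (P : Sylow p G)
    (ρW : Representation F (NN P) W) (f : W →ₗ[F] V) (w : W) :
    avgMap ρ P ρW f w = ∑ q : NN P ⧸ HH P, tm ρ P ρW f q.out w := by
  unfold avgMap
  rw [LinearMap.sum_apply]

theorem rho_avgMap (ρ : Representation F G V) (P : Sylow p G) (ρW : Representation F (NN P) W)
    (hWP : ∀ n : NN P, (n : G) ∈ (P : Subgroup G) → ρW n = 1)
    (f : W →ₗ[F] V) (hf : ∀ w, ∀ u ∈ (P : Subgroup G), ρ u (f w) = f w) (n' : NN P) (w : W) :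
    ρ (n' : G) (avgMap ρ P ρW f w) = avgMap ρ P ρW f (ρW n' w) := by
  rw [avgMap_apply, avgMap_apply, map_sum]
  have h1 : ∀ q : NN P ⧸ HH P, ρ (n' : G) (tm ρ P ρW f q.out w) =
      tm ρ P ρW f ((n' • q).out) (ρW n' w) := by
    intro q
    rw [rho_tm, ← tm_out ρ P ρW hWP f hf (n' * q.out)]
    congr 3
    have h2 : ((n' * q.out : NN P) : NN P ⧸ HH P) = n' • ((q.out : NN P) : NN P ⧸ HH P) := by
      rw [MulAction.Quotient.smul_mk, smul_eq_mul]
    rw [h2, QuotientGroup.out_eq']
  rw [Finset.sum_congr rfl (fun q _ => h1 q)]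
  exact Finset.sum_equiv (MulAction.toPerm n') (by simp) (by intro q _; rfl)

theorem avgMap_of_equiv (ρ : Representation F G V) (P : Sylow p G)
    (ρW : Representation F (NN P) W) (f : W →ₗ[F] V)
    (hf : ∀ (n : NN P) (w : W), ρ (n : G) (f w) = f (ρW n w)) :
    avgMap ρ P ρW f = ((Nat.card (NN P ⧸ HH P) : ℕ) : F) • f := by
  refine LinearMap.ext fun w => ?_
  rw [avgMap_apply]
  have h1 : ∀ q : NN P ⧸ HH P, tm ρ P ρW f q.out w = f w := by
    intro q
    rw [tm_apply, hf, ← Module.End.mul_apply, ← map_mul, mul_inv_cancel, map_one,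
      Module.End.one_apply]
  rw [Finset.sum_congr rfl (fun q _ => h1 q), Finset.sum_const, Finset.card_univ,
    Nat.card_eq_fintype_card, LinearMap.smul_apply, Nat.cast_smul_eq_nsmul]

theorem avgMap_sub (ρ : Representation F G V) (P : Sylow p G)
    (ρW : Representation F (NN P) W) (f g : W →ₗ[F] V) :
    avgMap ρ P ρW (f - g) = avgMap ρ P ρW f - avgMap ρ P ρW g := by
  unfold avgMap
  rw [← Finset.sum_sub_distrib]
  refine Finset.sum_congr rfl fun q _ => ?_
  refine LinearMap.ext fun w => ?_
  rw [LinearMap.sub_apply, tm_apply, tm_apply, tm_apply, LinearMap.sub_apply, map_sub]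

theorem avgMap_trOne (ρ : Representation F G V) (P : Sylow p G)
    (ρW : Representation F (NN P) W) (s : W →ₗ[F] V) (w : W) :
    avgMap ρ P ρW (trOne ρ (P : Subgroup G) ∘ₗ s) w ∈
      LinearMap.range (trOne ρ (P : Subgroup G)) := by
  rw [avgMap_apply]
  refine Submodule.sum_mem _ fun q _ => ?_
  rw [tm_apply, LinearMap.comp_apply, rho_trOne_of_mem_normalizer ρ P _ (q.out : NN P).2]
  exact LinearMap.mem_range_self _ _

theorem avgMap_mem (ρ : Representation F G V) (P : Sylow p G)
    (ρW : Representation F (NN P) W) (V' : Submodule F V) (hV' : ∀ g, V' ≤ V'.comap (ρ g))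
    (f : W →ₗ[F] V) (hf : ∀ w, f w ∈ V') (w : W) : avgMap ρ P ρW f w ∈ V' := by
  rw [avgMap_apply]
  refine Submodule.sum_mem _ fun q _ => ?_
  rw [tm_apply]
  exact hV' _ (hf _)

end avg

section half

variable {F : Type v} [Field F] {G : Type u} [Group G] [Fintype G]
  {V : Type x} [AddCommGroup V] [Module F V] {W : Type w} [AddCommGroup W] [Module F W]
  {p : ℕ} [Fact p.Prime] [CharP F p]

attribute [local instance] fintypeQ

/-- half-exactness of "admitting a stable map from `W`" -/
theorem half_exact_map (ρ : Representation F G V) (P : Sylow p G)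
    (ρW : Representation F (NN P) W) [ρW.IsIrreducible]
    (hWP : ∀ n : NN P, (n : G) ∈ (P : Subgroup G) → ρW n = 1)
    (V' : Submodule F V) (hV' : ∀ g, V' ≤ V'.comap (ρ g))
    (f : W →ₗ[F] V) (hf : IsStableMap ρ (P : Subgroup G) ρW f) :
    (∃ f' : W →ₗ[F] V', IsStableMap (ρ.subrepresentation V' hV') (P : Subgroup G) ρW f') ∨
    (∃ f' : W →ₗ[F] V ⧸ V', IsStableMap (ρ.quotient V' hV') (P : Subgroup G) ρW f') := by
  classical
  have hA : ∀ (n : NN P) (w : W),
      ρ.quotient V' hV' (n : G) (V'.mkQ (f w)) = V'.mkQ (f (ρW n w)) := by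
    intro n w
    show (Submodule.Quotient.mk (ρ (n : G) (f w)) : V ⧸ V') = Submodule.Quotient.mk (f (ρW n w))
    rw [hf.1]
  -- the subrepresentation `K` of `W` of vectors becoming traces in the quotient
  let K : Subrepresentation ρW :=
    { toSubmodule := (LinearMap.range (trOne (ρ.quotient V' hV') (P : Subgroup G))).comap
        (V'.mkQ ∘ₗ f)
      apply_mem_toSubmodule := by
        intro n w hw
        rw [Submodule.mem_comap, LinearMap.comp_apply] at hw ⊢
        obtain ⟨y, hy⟩ := hw
        rw [← hA, ← hy, rho_trOne_of_mem_normalizer (ρ.quotient V' hV') P _ n.2]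
        exact LinearMap.mem_range_self _ _ }
  rcases eq_bot_or_eq_top K with hK | hK
  · -- the composite is a stable map into the quotient
    right
    refine ⟨V'.mkQ ∘ₗ f, ?_, ?_⟩
    · intro n w
      exact hA n w
    · intro w hw
      have h1 : w ∈ K.toSubmodule := hw
      rw [hK] at h1
      exact (Submodule.mem_bot F).mp h1
  · -- lift into the submodule
    left
    have hall : ∀ w : W, V'.mkQ (f w) ∈
        LinearMap.range (trOne (ρ.quotient V' hV') (P : Subgroup G)) := by
      intro w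
      have h1 : w ∈ K.toSubmodule := by
        rw [hK]
        exact Submodule.mem_top
      exact h1
    -- `B = mkQ ∘ trOne`
    set B : V →ₗ[F] V ⧸ V' := V'.mkQ ∘ₗ trOne ρ (P : Subgroup G) with hB
    have hrange : ∀ w : W, V'.mkQ (f w) ∈ LinearMap.range B := by
      intro w
      obtain ⟨ybar, hy⟩ := hall w
      obtain ⟨y, rfl⟩ := Submodule.Quotient.mk_surjective V' ybar
      rw [trOne_quot] at hy
      exact ⟨y, hy⟩
    obtain ⟨r, hr⟩ := LinearMap.exists_rightInverse_of_surjective B.rangeRestrict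
      (LinearMap.range_rangeRestrict B)
    set s : W →ₗ[F] V := r ∘ₗ (V'.mkQ ∘ₗ f).codRestrict (LinearMap.range B) hrange with hs
    have hBs : ∀ w, B (s w) = V'.mkQ (f w) := by
      intro w
      have h1 := LinearMap.congr_fun hr ((V'.mkQ ∘ₗ f).codRestrict (LinearMap.range B) hrange w)
      have h2 := congrArg Subtype.val h1
      exact h2
    set f₁ : W →ₗ[F] V := f - trOne ρ (P : Subgroup G) ∘ₗ s with hf₁
    have hf₁mem : ∀ w, f₁ w ∈ V' := by
      intro w
      rw [hf₁, LinearMap.sub_apply, LinearMap.comp_apply, ← Submodule.Quotient.eq]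
      exact (hBs w).symm
    set m : F := ((Nat.card (NN P ⧸ HH P) : ℕ) : F) with hm
    have hm0 : m ≠ 0 := cast_card_ne_zero P
    -- `f` has `P`-fixed values
    have hfP : ∀ w, ∀ u ∈ (P : Subgroup G), ρ u (f w) = f w := by
      intro w u hu
      have h1 := hf.1 ⟨u, Subgroup.le_normalizer hu⟩ w
      rw [hWP ⟨u, Subgroup.le_normalizer hu⟩ hu] at h1
      exact h1
    have hf₁P : ∀ w, ∀ u ∈ (P : Subgroup G), ρ u (f₁ w) = f₁ w := by
      intro w u hu
      rw [hf₁, LinearMap.sub_apply, map_sub, hfP w u hu, LinearMap.comp_apply,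
        rho_trOne_of_mem ρ P u hu]
    set f₂ : W →ₗ[F] V := m⁻¹ • avgMap ρ P ρW f₁ with hf₂
    have hf₂mem : ∀ w, f₂ w ∈ V' := by
      intro w
      rw [hf₂, LinearMap.smul_apply]
      exact Submodule.smul_mem _ _ (avgMap_mem ρ P ρW V' hV' f₁ hf₁mem w)
    have hf₂eq : ∀ w, f₂ w =
        f w - m⁻¹ • avgMap ρ P ρW (trOne ρ (P : Subgroup G) ∘ₗ s) w := by
      intro w
      rw [hf₂, hf₁, avgMap_sub, avgMap_of_equiv ρ P ρW f hf.1, LinearMap.smul_apply,
        LinearMap.sub_apply, smul_sub, LinearMap.smul_apply, smul_smul, inv_mul_cancel₀ hm0,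
        one_smul]
    refine ⟨f₂.codRestrict V' hf₂mem, ?_, ?_⟩
    · intro n w
      apply Subtype.ext
      show ρ (n : G) (f₂ w) = f₂ (ρW n w)
      rw [hf₂, LinearMap.smul_apply, LinearMap.smul_apply, map_smul,
        rho_avgMap ρ P ρW hWP f₁ hf₁P n w]
    · rintro w ⟨y, hy⟩
      have h1 := congrArg Subtype.val hy
      rw [trOne_sub] at h1
      have h2 : f₂ w = trOne ρ (P : Subgroup G) (y : V) := h1.symm
      apply hf.2
      obtain ⟨t, ht⟩ := avgMap_trOne ρ P ρW s w
      refine ⟨(y : V) + m⁻¹ • t, ?_⟩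
      rw [map_add, map_smul, ht, ← h2, hf₂eq]
      abel

end half

section induction

variable {F : Type v} [Field F] {G : Type u} [Group G] [Fintype G]
  {W : Type w} [AddCommGroup W] [Module F W] {p : ℕ} [Fact p.Prime] [CharP F p]

theorem exists_irreducible_stableMap_aux (P : Sylow p G)
    (ρW : Representation F (NN P) W) [ρW.IsIrreducible]
    (hWP : ∀ n : NN P, (n : G) ∈ (P : Subgroup G) → ρW n = 1) :
    ∀ (n : ℕ) (V : Type x) [AddCommGroup V] [Module F V] [FiniteDimensional F V]
      (ρ : Representation F G V), Module.finrank F V = n →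
      (∃ f : W →ₗ[F] V, IsStableMap ρ (P : Subgroup G) ρW f) →
      ∃ (V' : Type x) (_ : AddCommGroup V') (_ : Module F V') (_ : FiniteDimensional F V')
        (ρ' : Representation F G V'), ρ'.IsIrreducible ∧
          ∃ f : W →ₗ[F] V', IsStableMap ρ' (P : Subgroup G) ρW f := by
  intro n
  induction n using Nat.strong_induction_on with
  | _ n ih =>
    intro V _ _ _ ρ hn hex
    obtain ⟨f, hf⟩ := hex
    by_cases hirr : ρ.IsIrreducible
    · exact ⟨V, inferInstance, inferInstance, inferInstance, ρ, hirr, f, hf⟩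
    · -- `W ≠ 0`, so `V ≠ 0`
      have hWnt : Nontrivial (Subrepresentation ρW) := inferInstance
      obtain ⟨w, hw0⟩ : ∃ w : W, w ≠ 0 := by
        by_contra hcon
        push Not at hcon
        have h1 : (⊥ : Subrepresentation ρW) = ⊤ := by
          apply Subrepresentation.toSubmodule_injective
          apply le_antisymm bot_le
          intro w _
          rw [hcon w]
          exact Submodule.zero_mem _
        exact bot_ne_top h1
      have hz0 : f w ≠ 0 := by
        intro h
        apply hw0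
        apply hf.2
        rw [h]
        exact Submodule.zero_mem _
      have hnt : Nontrivial (Subrepresentation ρ) := by
        refine ⟨⟨⊥, ⊤, ?_⟩⟩
        intro h
        have h1 : (⊥ : Subrepresentation ρ).toSubmodule = (⊤ : Subrepresentation ρ).toSubmodule := by
          rw [h]
        have h2 : f w ∈ (⊤ : Submodule F V) := Submodule.mem_top
        have h3 : f w ∈ (⊥ : Submodule F V) := by
          have : (⊥ : Submodule F V) = ⊤ := h1
          rw [this]
          exact h2
        exact hz0 ((Submodule.mem_bot F).mp h3)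
      have hex2 : ∃ σ : Subrepresentation ρ, σ ≠ ⊥ ∧ σ ≠ ⊤ := by
        by_contra hcon
        apply hirr
        refine @IsSimpleOrder.mk _ _ _ hnt ?_
        intro σ
        by_cases h : σ = ⊥
        · exact Or.inl h
        · right
          by_contra h'
          exact hcon ⟨σ, h, h'⟩
      obtain ⟨σ, hσb, hσt⟩ := hex2
      have hW : ∀ g, σ.toSubmodule ≤ σ.toSubmodule.comap (ρ g) :=
        fun g v hv => σ.apply_mem_toSubmodule g hv
      have hWb : σ.toSubmodule ≠ ⊥ := by
        intro h
        apply hσb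
        exact Subrepresentation.toSubmodule_injective h
      have hWt : σ.toSubmodule ≠ ⊤ := by
        intro h
        apply hσt
        exact Subrepresentation.toSubmodule_injective h
      rcases half_exact_map ρ P ρW hWP σ.toSubmodule hW f hf with ⟨f', hf'⟩ | ⟨f', hf'⟩
      · refine ih (Module.finrank F σ.toSubmodule) ?_ σ.toSubmodule
          (ρ.subrepresentation σ.toSubmodule hW) rfl ⟨f', hf'⟩
        rw [← hn]
        exact Submodule.finrank_lt hWt
      · refine ih (Module.finrank F (V ⧸ σ.toSubmodule)) ?_ (V ⧸ σ.toSubmodule)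
          (ρ.quotient σ.toSubmodule hW) rfl ⟨f', hf'⟩
        rw [← hn]
        have h1 := Submodule.finrank_quotient_add_finrank σ.toSubmodule
        have h2 : Module.finrank F σ.toSubmodule ≠ 0 := by
          intro h
          exact hWb (Submodule.finrank_eq_zero.mp h)
        omega

/-- **MODULE (GT3)**: every irreducible representation of `N_G(P)` trivial on `P` (`P` a Sylow
`p`-subgroup of order `p`) admits a stable map into some irreducible representation of `G`. -/
theorem GT3 [FiniteDimensional F W] (P : Sylow p G) (hP : Nat.card P = p)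
    (ρW : Representation F (Subgroup.normalizer ((P : Subgroup G) : Set G)) W) [ρW.IsIrreducible]
    (hWP : ∀ n : Subgroup.normalizer ((P : Subgroup G) : Set G),
      (n : G) ∈ (P : Subgroup G) → ρW n = 1) :
    ∃ (V : Type (max u w)) (_ : AddCommGroup V) (_ : Module F V) (_ : FiniteDimensional F V)
      (ρ : Representation F G V) (f : W →ₗ[F] V), ρ.IsIrreducible ∧
        IsStableMap ρ (P : Subgroup G) ρW f := by
  obtain ⟨V, i1, i2, i3, ρ, hρ, f, hf⟩ := exists_irreducible_stableMap_aux P ρW hWP _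
    (WP (F := F) (W := W) (P : Subgroup G)) (rhoWP (F := F) (W := W) (P : Subgroup G)) rfl
    ⟨f0 P ρW hWP, start_stableMap P hP ρW hWP⟩
  exact ⟨V, i1, i2, i3, ρ, f, hρ, hf⟩

end induction

end Cfsg.Agent.Lib.Helper80.DefOneGen
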