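import Cfsg.Agent.Lib.Helper80.DefOneNRed
import Cfsg.Agent.Lib.Helper77.GrpRed

/-!
# PROJECT BC (defect one), general blocks: MODULE (RED) in the form requested by helper77 (#2557)

For a finite group `H` with a normal subgroup `Q` of index prime to `p` and a finite set `Ψ` of
irreducible characters of `H` having `Q` in their kernel: a family of pairwise non-isomorphic
irreducible `F[H]`-modules (`F = ResF M`), trivial on `Q`, on which every central element of
`R[H]` (`R = localSubring M`) acts by the reduction of the value of the central character.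
-/

set_option autoImplicit false
set_option linter.unusedSectionVars false

namespace Cfsg.Agent.Lib.Helper80.DefOneGen

open Cfsg Cfsg.Agent.Lib.Helper16 Cfsg.Agent.Lib.Helper77.Modular Cfsg.Agent.Lib.Helper77.GrpRed
  Cfsg.Agent.Lib.Helper80.BC

universe u

theorem coeff_conj_of_central' {A : Type*} [CommRing A] {G : Type*} [Group G]
    (a : MonoidAlgebra A G) (ha : ∀ b, b * a = a * b) (g h : G) :
    a.coeff (h * g * h⁻¹) = a.coeff g := by
  have := congrArg (fun x => x.coeff (h * g)) (ha (MonoidAlgebra.single h 1))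
  simp only [MonoidAlgebra.coeff_single_mul_apply, MonoidAlgebra.coeff_mul_single_apply,
    inv_mul_cancel_left, one_mul, mul_one] at this
  exact this.symm

variable {M : Ideal AlgInt} [hMp : M.IsPrime] {p : ℕ}

/-- **MODULE (RED)**, exact form of #2557. -/
theorem RED (hM : IsPModular p M) {H : Type u} [Group H] [Fintype H] (Q : Subgroup H) [Q.Normal]
    (hQ : ¬ p ∣ Q.index) (Ψ : Finset (IrrCharacter H))
    (hΨ : ∀ ψ ∈ Ψ, ∀ q ∈ Q, (ψ : H → ℂ) q = (ψ : H → ℂ) 1) :
    ∃ (W : Ψ → Type) (_ : ∀ i, AddCommGroup (W i)) (_ : ∀ i, Module (ResF M) (W i))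
      (_ : ∀ i, FiniteDimensional (ResF M) (W i)) (ρW : ∀ i, Representation (ResF M) H (W i)),
      (∀ i, (ρW i).IsIrreducible) ∧ (∀ i, ∀ q ∈ Q, ρW i q = 1) ∧
      (∀ i j, i ≠ j → ∀ f : W i →ₗ[ResF M] W j, (∀ h, f ∘ₗ ρW i h = ρW j h ∘ₗ f) → f = 0) ∧
      ∀ i : Ψ, ∀ zR : MonoidAlgebra (localSubring M) H, (∀ b, b * zR = zR * b) →
        ∃ r : localSubring M,
          (r : ℂ) = (∑ h : H, (zR.coeff h : ℂ) * ((i : IrrCharacter H) : H → ℂ) h) /
            ((i : IrrCharacter H) : H → ℂ) 1 ∧
          (ρW i).asAlgebraHom (bc (ResF M) zR) =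
            algebraMap (localSubring M) (ResF M) r • LinearMap.id := by
  classical
  obtain ⟨n, τ, _, hirr, htriv, hne, hcen⟩ := exists_modular_family hM Q hQ
  let idx : Ψ → {ψ : IrrCharacter H // ∀ u ∈ Q, (ψ : H → ℂ) u = (ψ : H → ℂ) 1} :=
    fun i => ⟨i.1, hΨ i.1 i.2⟩
  have hidx : Function.Injective idx := by
    intro i j hij
    apply Subtype.ext
    exact congrArg (fun x => (x.1 : IrrCharacter H)) hij
  refine ⟨fun i => Fin (n (idx i)) → ResF M, fun i => inferInstance, fun i => inferInstance,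
    fun i => inferInstance, fun i => matRep (τ (idx i)), fun i => hirr (idx i), ?_, ?_, ?_⟩
  · intro i q hq
    exact matRep_eq_one _ (htriv (idx i) q hq)
  · intro i j hij f hf
    apply linearMap_eq_zero_of_matrix (τ (idx i)) (τ (idx j)) _ f hf
    intro Y hY
    exact hne (idx j) (idx i) (fun h => hij (hidx h.symm)) Y hY
  · intro i zR hz
    obtain ⟨ω, hω1, hω2⟩ := hcen (idx i) (fun h => zR.coeff h)
      (fun g h => coeff_conj_of_central' zR hz g h)
    refine ⟨ω, ?_, ?_⟩
    · have hdeg : ((i : IrrCharacter H) : H → ℂ) 1 ≠ 0 := by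
        have hc := Cfsg.Agent.Lib.Helper78.IsIrrCharacter.isCharacter (i : IrrCharacter H).2
        rw [Cfsg.Agent.Lib.Helper80.char_one_eq_charDegree hc]
        exact_mod_cast (Cfsg.Agent.Lib.Helper80.charDegree_pos_of_isIrr (i : IrrCharacter H).2).ne'
      rw [eq_div_iff hdeg]
      exact hω1
    · rw [matRep_asAlgebraHom]
      have h1 : ∑ g : H, (bc (ResF M) zR).coeff g • τ (idx i) g =
          algebraMap (localSubring M) (ResF M) ω • (1 : Matrix _ _ (ResF M)) := by
        rw [← hω2]
        refine Finset.sum_congr rfl fun g _ => ?_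
        rw [coeff_bc]
      rw [h1, map_smul, Matrix.toLin'_one]

end Cfsg.Agent.Lib.Helper80.DefOneGen
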