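import Mathlib
import Cfsg.Agent.Lib.Helper13.SU3GDefs

/-!
helper13's project S2283, module S2283-[BOREL]: an element of `GJ σ` fixing the isotropic point `⟨e₀⟩`
conjugates `uS σ a b` to `uS σ (κ a) b'` with `κ = μ² / σ μ`, `μ` its eigenvalue on `e₀`.
-/

set_option autoImplicit false

namespace Cfsg.Agent.Lib.Helper80.SU3G

open Matrix Cfsg.Agent.Lib.Helper13.SU3G

variable {F : Type*} [Field F]

local notation "SL3" => Matrix.SpecialLinearGroup (Fin 3) F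

theorem borel_mat (σ : F →+* F) (hσ2 : ∀ x, σ (σ x) = x) (m n t s01 s02 s12 a b : F)
    (h1 : σ m * t = 1) (h2 : m * n * t = 1) :
    (!![m, s01, s02; 0, n, s12; 0, 0, t] : Matrix (Fin 3) (Fin 3) F) * uM σ a b =
      uM σ (m ^ 2 / σ m * a) ((m * b - s01 * σ a - m ^ 2 / σ m * a * s12) / t) *
        !![m, s01, s02; 0, n, s12; 0, 0, t] := by
  have hσm : σ m ≠ 0 := left_ne_zero_of_mul_eq_one h1
  have ht : t ≠ 0 := right_ne_zero_of_mul_eq_one h1
  have hm : m ≠ 0 := by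
    intro h; rw [h, zero_mul, zero_mul] at h2; exact zero_ne_one h2
  have hn : n = σ m / m := by
    field_simp
    have : m * n * t = σ m * t := by rw [h1, h2]
    have h3 : (m * n - σ m) * t = 0 := by linear_combination this
    rcases mul_eq_zero.mp h3 with h4 | h4
    · linear_combination h4
    · exact absurd h4 ht
  have ht' : t = (σ m)⁻¹ := eq_inv_of_mul_eq_one_right h1
  have hσκ : σ (m ^ 2 / σ m * a) = (σ m) ^ 2 / m * σ a := by
    rw [map_mul, map_div₀, map_pow, hσ2]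
  ext i j
  fin_cases i <;> fin_cases j <;>
    simp [uM, Matrix.mul_apply, Fin.sum_univ_three, hσκ]
  · rw [hn]; field_simp; ring
  · field_simp; ring
  · rw [hn, ht']; field_simp; ring

theorem borel_conj (σ : F →+* F) (hσ2 : ∀ x, σ (σ x) = x) {s : SL3} (hs : s ∈ GJ σ)
    (h10 : (s : Matrix (Fin 3) (Fin 3) F) 1 0 = 0) (h20 : (s : Matrix (Fin 3) (Fin 3) F) 2 0 = 0)
    (a b : F) :
    ∃ b' : F, s * uS σ a b * s⁻¹ =
      uS σ ((s : Matrix (Fin 3) (Fin 3) F) 0 0 ^ 2 / σ ((s : Matrix (Fin 3) (Fin 3) F) 0 0) * a) b' := by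
  rw [mem_GJ_iff] at hs
  -- the relations coming from the form
  have e02 := hs ![1, 0, 0] ![0, 0, 1]
  have e01 := hs ![1, 0, 0] ![0, 1, 0]
  simp [hJ, Matrix.mulVec, dotProduct, Fin.sum_univ_three, h10, h20] at e02 e01
  have hμ : (s : Matrix (Fin 3) (Fin 3) F) 0 0 ≠ 0 := left_ne_zero_of_mul_eq_one e02
  have h21 : (s : Matrix (Fin 3) (Fin 3) F) 2 1 = 0 := by
    rcases e01 with h | h
    · exact absurd h hμ
    · exact h
  have h1 : σ ((s : Matrix (Fin 3) (Fin 3) F) 0 0) * (s : Matrix (Fin 3) (Fin 3) F) 2 2 = 1 := by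
    have := congrArg σ e02
    rwa [map_mul, hσ2, map_one] at this
  have h2 : (s : Matrix (Fin 3) (Fin 3) F) 0 0 * (s : Matrix (Fin 3) (Fin 3) F) 1 1 *
      (s : Matrix (Fin 3) (Fin 3) F) 2 2 = 1 := by
    have hd := s.2
    rw [Matrix.det_fin_three] at hd
    simp only [h10, h20, h21] at hd
    linear_combination hd
  have hsmat : (s : Matrix (Fin 3) (Fin 3) F) =
      !![(s : Matrix (Fin 3) (Fin 3) F) 0 0, (s : Matrix (Fin 3) (Fin 3) F) 0 1,
        (s : Matrix (Fin 3) (Fin 3) F) 0 2; 0, (s : Matrix (Fin 3) (Fin 3) F) 1 1,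
        (s : Matrix (Fin 3) (Fin 3) F) 1 2; 0, 0, (s : Matrix (Fin 3) (Fin 3) F) 2 2] := by
    ext i j
    fin_cases i <;> fin_cases j <;> simp [h10, h20, h21]
  refine ⟨((s : Matrix (Fin 3) (Fin 3) F) 0 0 * b - (s : Matrix (Fin 3) (Fin 3) F) 0 1 * σ a -
      (s : Matrix (Fin 3) (Fin 3) F) 0 0 ^ 2 / σ ((s : Matrix (Fin 3) (Fin 3) F) 0 0) * a *
        (s : Matrix (Fin 3) (Fin 3) F) 1 2) / (s : Matrix (Fin 3) (Fin 3) F) 2 2, ?_⟩
  rw [mul_inv_eq_iff_eq_mul]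
  apply Subtype.ext
  rw [Matrix.SpecialLinearGroup.coe_mul, Matrix.SpecialLinearGroup.coe_mul, coe_uS, coe_uS]
  have key := borel_mat σ hσ2 _ _ _ ((s : Matrix (Fin 3) (Fin 3) F) 0 1)
    ((s : Matrix (Fin 3) (Fin 3) F) 0 2) ((s : Matrix (Fin 3) (Fin 3) F) 1 2) a b h1 h2
  rw [← hsmat] at key
  exact key

end Cfsg.Agent.Lib.Helper80.SU3G
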