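import Mathlib
import Cfsg.Agent.Lib.Helper13.SU3GDefs

/-!
helper13's project S2283, module S2283-[MEM]: membership of the unitriangular elements in `GJ σ`.
-/

set_option autoImplicit false

namespace Cfsg.Agent.Lib.Helper80.SU3G

open Matrix Cfsg.Agent.Lib.Helper13.SU3G

variable {F : Type*} [Field F]

local notation "SL3" => Matrix.SpecialLinearGroup (Fin 3) F

theorem hJ_uM (σ : F →+* F) (hσ2 : ∀ x, σ (σ x) = x) (a b : F) (x y : Fin 3 → F) :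
    hJ σ (uM σ a b *ᵥ x) (uM σ a b *ᵥ y) =
      hJ σ x y + (b + σ b + a * σ a) * (x 2 * σ (y 2)) := by
  simp only [hJ, uM, Matrix.mulVec, dotProduct, Fin.sum_univ_three]
  simp [map_add, map_mul, map_neg, hσ2]
  ring

theorem hJ_lM (σ : F →+* F) (hσ2 : ∀ x, σ (σ x) = x) (c d : F) (x y : Fin 3 → F) :
    hJ σ (lM σ c d *ᵥ x) (lM σ c d *ᵥ y) =
      hJ σ x y + (d + σ d + c * σ c) * (x 0 * σ (y 0)) := by
  simp only [hJ, lM, Matrix.mulVec, dotProduct, Fin.sum_univ_three]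
  simp [map_add, map_mul, map_neg, hσ2]
  ring

theorem uS_mem (σ : F →+* F) (hσ2 : ∀ x, σ (σ x) = x) {a b : F} (h : b + σ b + a * σ a = 0) :
    uS σ a b ∈ GJ σ := by
  rw [mem_GJ_iff]
  intro x y
  rw [coe_uS, hJ_uM σ hσ2, h, zero_mul, add_zero]

theorem lS_mem (σ : F →+* F) (hσ2 : ∀ x, σ (σ x) = x) {c d : F} (h : d + σ d + c * σ c = 0) :
    lS σ c d ∈ GJ σ := by
  rw [mem_GJ_iff]
  intro x y
  rw [coe_lS, hJ_lM σ hσ2, h, zero_mul, add_zero]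

theorem uS_cond (σ : F →+* F) (hσ2 : ∀ x, σ (σ x) = x) {a b : F} (h : uS σ a b ∈ GJ σ) :
    b + σ b + a * σ a = 0 := by
  rw [mem_GJ_iff] at h
  have h1 := h ![0, 0, 1] ![0, 0, 1]
  rw [coe_uS, hJ_uM σ hσ2] at h1
  simpa [hJ] using h1

end Cfsg.Agent.Lib.Helper80.SU3G
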