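import Mathlib
import Cfsg.Agent.Lib.Helper13.SU3GDefs

/-!
helper13's project S2283, module S2283-[MUL]: product formulas for the unitriangular elements.
-/

set_option autoImplicit false

namespace Cfsg.Agent.Lib.Helper80.SU3G

open Matrix Cfsg.Agent.Lib.Helper13.SU3G

variable {F : Type*} [Field F]

local notation "SL3" => Matrix.SpecialLinearGroup (Fin 3) F

theorem uS_mul (σ : F →+* F) (a b a' b' : F) :
    uS σ a b * uS σ a' b' = uS σ (a + a') (b + b' - a * σ a') := by
  apply Subtype.ext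
  rw [Matrix.SpecialLinearGroup.coe_mul, coe_uS, coe_uS, coe_uS]
  ext i j
  fin_cases i <;> fin_cases j <;>
    simp [uM, Matrix.mul_apply, Fin.sum_univ_three] <;> ring

theorem uS_zero (σ : F →+* F) : uS σ 0 0 = 1 := by
  apply Subtype.ext
  rw [coe_uS, Matrix.SpecialLinearGroup.coe_one]
  ext i j
  fin_cases i <;> fin_cases j <;> simp [uM]

theorem uS_inv (σ : F →+* F) (a b : F) : (uS σ a b)⁻¹ = uS σ (-a) (-b - a * σ a) := by
  apply inv_eq_of_mul_eq_one_right
  rw [uS_mul, ← uS_zero σ]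
  congr 1
  · ring
  · simp only [map_neg]; ring

theorem lS_mul (σ : F →+* F) (c d c' d' : F) :
    lS σ c d * lS σ c' d' = lS σ (c + c') (d + d' - c * σ c') := by
  apply Subtype.ext
  rw [Matrix.SpecialLinearGroup.coe_mul, coe_lS, coe_lS, coe_lS]
  ext i j
  fin_cases i <;> fin_cases j <;>
    simp [lM, Matrix.mul_apply, Fin.sum_univ_three] <;> ring

theorem lS_zero (σ : F →+* F) : lS σ 0 0 = 1 := by
  apply Subtype.ext
  rw [coe_lS, Matrix.SpecialLinearGroup.coe_one]
  ext i j
  fin_cases i <;> fin_cases j <;> simp [lM]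

theorem lS_inv (σ : F →+* F) (c d : F) : (lS σ c d)⁻¹ = lS σ (-c) (-d - c * σ c) := by
  apply inv_eq_of_mul_eq_one_right
  rw [lS_mul, ← lS_zero σ]
  congr 1
  · ring
  · simp only [map_neg]; ring

end Cfsg.Agent.Lib.Helper80.SU3G
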