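import Mathlib
import Cfsg.Prelude.Def_GeometricClasses
import Cfsg.Agent.Lib.Helper99.AschDefs
import Cfsg.Agent.Lib.Helper66.AschSS
import Cfsg.Agent.Lib.Helper1.AschC2

/-!
PROJECT ASCH (helper99's sheet, S5630), module ASCH-[ISO]: Clifford's theorem for a subgroup `N`
normalised by an irreducible group `H` of matrices: either `F^n` is isotypic over the algebra
generated by `N`, or the isotypic components form a system of imprimitivity for `H`.

Generic part (`generic_main`): an arbitrary finite-dimensional space `V`, a subalgebra `A` of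
`End_F(V)`, and a group `𝓗` of linear automorphisms normalising `A`.
-/

set_option autoImplicit false

namespace Cfsg.Agent.Lib.Helper80.AschIso

section Twist
variable {F V : Type*} [Field F] [AddCommGroup V] [Module F V]
variable (A : Subalgebra F (Module.End F V))

/-- conjugation by `φ` maps `A` into itself -/
def NormA (φ : V ≃ₗ[F] V) : Prop :=
  ∀ a ∈ A, (φ : V →ₗ[F] V) ∘ₗ a ∘ₗ (φ.symm : V →ₗ[F] V) ∈ A

variable {A}

theorem smul_def' (a : A) (v : V) : a • v = (a : Module.End F V) v := rfl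

/-- the `A`-submodule `φ⁻¹(m)` -/
def pull (φ : V ≃ₗ[F] V) (hφ : NormA A φ) (m : Submodule A V) : Submodule A V where
  carrier := {w | φ w ∈ m}
  add_mem' := by
    intro a b ha hb
    simp only [Set.mem_ofPred_eq] at ha hb ⊢
    rw [map_add]; exact m.add_mem ha hb
  zero_mem' := by simp
  smul_mem' := by
    intro a w hw
    simp only [Set.mem_ofPred_eq] at hw ⊢
    have h1 : φ (a • w) = (⟨_, hφ a a.2⟩ : A) • φ w := by
      rw [smul_def', smul_def']
      simp
    rw [h1]
    exact m.smul_mem _ hw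

theorem mem_pull {φ : V ≃ₗ[F] V} {hφ : NormA A φ} {m : Submodule A V} {w : V} :
    w ∈ pull φ hφ m ↔ φ w ∈ m := Iff.rfl

theorem pull_mono (φ : V ≃ₗ[F] V) (hφ : NormA A φ) {m m' : Submodule A V} (h : m ≤ m') :
    pull φ hφ m ≤ pull φ hφ m' := fun _ hw => h hw

theorem pull_pull_symm (φ : V ≃ₗ[F] V) (hφ : NormA A φ) (hφ' : NormA A φ.symm)
    (m : Submodule A V) : pull φ hφ (pull φ.symm hφ' m) = m := by
  ext w
  rw [mem_pull, mem_pull, LinearEquiv.symm_apply_apply]

theorem pull_symm_pull (φ : V ≃ₗ[F] V) (hφ : NormA A φ) (hφ' : NormA A φ.symm)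
    (m : Submodule A V) : pull φ.symm hφ' (pull φ hφ m) = m := by
  ext w
  rw [mem_pull, mem_pull, LinearEquiv.apply_symm_apply]

/-- `pull φ` as an order isomorphism -/
def pullIso (φ : V ≃ₗ[F] V) (hφ : NormA A φ) (hφ' : NormA A φ.symm) :
    Submodule A V ≃o Submodule A V where
  toFun := pull φ hφ
  invFun := pull φ.symm hφ'
  left_inv := pull_symm_pull φ hφ hφ'
  right_inv := pull_pull_symm φ hφ hφ'
  map_rel_iff' := by
    intro m m'
    show pull φ hφ m ≤ pull φ hφ m' ↔ m ≤ m'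
    constructor
    · intro h
      have := pull_mono φ.symm hφ' h
      rwa [pull_symm_pull, pull_symm_pull] at this
    · exact pull_mono φ hφ

/-- transport of an `A`-linear map between submodules -/
def pullMap (φ : V ≃ₗ[F] V) (hφ : NormA A φ) {m m' : Submodule A V} (e : m →ₗ[A] m') :
    pull φ hφ m →ₗ[A] pull φ hφ m' where
  toFun w := ⟨φ.symm (e ⟨φ w, w.2⟩ : V), by
    rw [mem_pull, LinearEquiv.apply_symm_apply]; exact (e _).2⟩
  map_add' := by
    intro w₁ w₂
    have h1 : (⟨φ ((w₁ + w₂ : pull φ hφ m) : V), (w₁ + w₂).2⟩ : m) =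
        ⟨φ w₁, w₁.2⟩ + ⟨φ w₂, w₂.2⟩ := by
      apply Subtype.ext; simp
    apply Subtype.ext
    show φ.symm (e ⟨φ ((w₁ + w₂ : pull φ hφ m) : V), (w₁ + w₂).2⟩ : V) =
      φ.symm (e ⟨φ w₁, w₁.2⟩ : V) + φ.symm (e ⟨φ w₂, w₂.2⟩ : V)
    rw [h1, map_add, Submodule.coe_add, map_add]
  map_smul' := by
    intro a w
    have h1 : (⟨φ ((a • w : pull φ hφ m) : V), (a • w).2⟩ : m) =
        (⟨_, hφ a a.2⟩ : A) • (⟨φ w, w.2⟩ : m) := by
      apply Subtype.ext
      show φ (a • (w : V)) = (⟨_, hφ a a.2⟩ : A) • φ (w : V)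
      rw [smul_def', smul_def']
      simp
    apply Subtype.ext
    show φ.symm (e ⟨φ ((a • w : pull φ hφ m) : V), (a • w).2⟩ : V) =
      a • φ.symm (e ⟨φ w, w.2⟩ : V)
    rw [h1, map_smul, Submodule.coe_smul, smul_def', smul_def']
    simp

theorem pullMap_apply (φ : V ≃ₗ[F] V) (hφ : NormA A φ) {m m' : Submodule A V} (e : m →ₗ[A] m')
    (w : pull φ hφ m) : ((pullMap φ hφ e w : pull φ hφ m') : V) = φ.symm (e ⟨φ w, w.2⟩ : V) := rfl

/-- transport of an `A`-linear equivalence -/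
theorem nonempty_pull_equiv (φ : V ≃ₗ[F] V) (hφ : NormA A φ) {m m' : Submodule A V}
    (e : Nonempty (m ≃ₗ[A] m')) : Nonempty (pull φ hφ m ≃ₗ[A] pull φ hφ m') := by
  obtain ⟨e⟩ := e
  refine ⟨LinearEquiv.ofLinearMap (pullMap φ hφ e.toLinearMap) (pullMap φ hφ e.symm.toLinearMap) ?_ ?_⟩
  · ext w
    simp [pullMap_apply]
  · ext w
    simp [pullMap_apply]

theorem pull_isSimple (φ : V ≃ₗ[F] V) (hφ : NormA A φ) (hφ' : NormA A φ.symm)
    (S : Submodule A V) [hS : IsSimpleModule A S] : IsSimpleModule A (pull φ hφ S) := by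
  rw [isSimpleModule_iff_isAtom] at hS ⊢
  exact (OrderIso.isAtom_iff (pullIso φ hφ hφ') S).mpr hS

theorem pull_isotypicComponent (φ : V ≃ₗ[F] V) (hφ : NormA A φ) (hφ' : NormA A φ.symm)
    (S : Submodule A V) :
    pull φ hφ (isotypicComponent A V S) = isotypicComponent A V (pull φ hφ S) := by
  unfold isotypicComponent
  have h1 := (pullIso φ hφ hφ').map_sSup {m : Submodule A V | Nonempty (m ≃ₗ[A] S)}
  have h1' : pull φ hφ (sSup {m : Submodule A V | Nonempty (m ≃ₗ[A] S)}) =
      ⨆ a ∈ {m : Submodule A V | Nonempty (m ≃ₗ[A] S)}, pull φ hφ a := h1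
  rw [h1']
  apply le_antisymm
  · apply iSup₂_le
    intro m hm
    exact le_sSup (nonempty_pull_equiv φ hφ hm)
  · apply sSup_le
    intro y hy
    have hy' : Nonempty (pull φ.symm hφ' y ≃ₗ[A] S) := by
      have := nonempty_pull_equiv φ.symm hφ' hy
      rwa [pull_symm_pull] at this
    have h2 : y = pull φ hφ (pull φ.symm hφ' y) := (pull_pull_symm φ hφ hφ' y).symm
    rw [h2]
    exact le_iSup₂ (f := fun a (_ : a ∈ {m : Submodule A V | Nonempty (m ≃ₗ[A] S)}) => pull φ hφ a)
      (pull φ.symm hφ' y) hy'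

theorem pull_mem_isotypicComponents (φ : V ≃ₗ[F] V) (hφ : NormA A φ) (hφ' : NormA A φ.symm)
    {c : Submodule A V} (hc : c ∈ isotypicComponents A V) :
    pull φ hφ c ∈ isotypicComponents A V := by
  obtain ⟨S, hS, rfl⟩ := hc
  exact ⟨pull φ hφ S, pull_isSimple φ hφ hφ' S, pull_isotypicComponent φ hφ hφ' S⟩

/-- the image of an `A`-submodule under `φ` is `pull` along `φ⁻¹` -/
theorem map_eq_pull (φ : V ≃ₗ[F] V) (hφ' : NormA A φ.symm) (m : Submodule A V) :
    (m.restrictScalars F).map (φ : V →ₗ[F] V) = (pull φ.symm hφ' m).restrictScalars F := by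
  ext w
  rw [Submodule.mem_map, Submodule.restrictScalars_mem, mem_pull]
  constructor
  · rintro ⟨v, hv, rfl⟩
    rw [LinearEquiv.coe_coe, LinearEquiv.symm_apply_apply]
    exact hv
  · intro hw
    exact ⟨φ.symm w, hw, by rw [LinearEquiv.coe_coe, LinearEquiv.apply_symm_apply]⟩

/-- elements of `A` preserve every `A`-submodule -/
theorem map_le_of_mem {f : V →ₗ[F] V} (hf : f ∈ A) (m : Submodule A V) :
    (m.restrictScalars F).map f ≤ m.restrictScalars F := by
  rintro _ ⟨v, hv, rfl⟩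
  rw [Submodule.restrictScalars_mem]
  have : f v = (⟨f, hf⟩ : A) • v := rfl
  rw [this]
  exact m.smul_mem _ hv

/-- the `A`-linear endomorphism given by an `F`-endomorphism commuting with `A` -/
def centEnd (f : V →ₗ[F] V) (hf : ∀ a ∈ A, f ∘ₗ a = a ∘ₗ f) : V →ₗ[A] V where
  toFun := f
  map_add' := map_add _
  map_smul' := by
    intro a v
    show f ((a : Module.End F V) v) = (a : Module.End F V) (f v)
    have := congrArg (fun g => g v) (hf a a.2)
    simpa using this

theorem map_le_of_commute {f : V →ₗ[F] V} (hf : ∀ a ∈ A, f ∘ₗ a = a ∘ₗ f)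
    {c : Submodule A V} (hc : c ∈ isotypicComponents A V) :
    (c.restrictScalars F).map f ≤ c.restrictScalars F := by
  rintro _ ⟨v, hv, rfl⟩
  rw [Submodule.restrictScalars_mem]
  have hfi := Submodule.IsFullyInvariant.of_mem_isotypicComponents hc (centEnd f hf)
  exact hfi hv

theorem isIsotypic_of_subsingleton [IsSemisimpleModule A V]
    (hsub : Subsingleton (isotypicComponents A V)) : IsIsotypic A V := by
  intro m hm m' hm'
  have c1 : isotypicComponent A V m ∈ isotypicComponents A V := ⟨m, hm, rfl⟩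
  have c2 : isotypicComponent A V m' ∈ isotypicComponents A V := ⟨m', hm', rfl⟩
  have heq : isotypicComponent A V m' = isotypicComponent A V m := by
    have := hsub.elim ⟨_, c2⟩ ⟨_, c1⟩
    exact congrArg Subtype.val this
  have hle : m' ≤ isotypicComponent A V m := heq ▸ m'.le_isotypicComponent
  exact (isIsotypicOfType_submodule_iff.mp (IsIsotypicOfType.isotypicComponent A V m)) m' hle

theorem iSupIndep_restrictScalars {κ : Type*} {c : κ → Submodule A V} (h : iSupIndep c) :
    iSupIndep (fun i => (c i).restrictScalars F) := by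
  intro i
  have h1 := h i
  rw [disjoint_iff] at h1 ⊢
  simp_rw [← Submodule.restrictScalars_iSup, ← Submodule.restrictScalars_inf]
  rw [Submodule.restrictScalars_eq_bot_iff]
  exact h1

/-- generic Clifford decomposition: either `V` is `A`-isotypic or the isotypic components form a
system of imprimitivity for the group `𝓗` -/
theorem generic_main [FiniteDimensional F V] (𝓗 : Set (V ≃ₗ[F] V))
    (hrefl : LinearEquiv.refl F V ∈ 𝓗)
    (hsymm : ∀ φ ∈ 𝓗, φ.symm ∈ 𝓗) (htrans : ∀ φ ∈ 𝓗, ∀ ψ ∈ 𝓗, φ.trans ψ ∈ 𝓗)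
    (hnorm : ∀ φ ∈ 𝓗, NormA A φ)
    (hirr : ∀ W : Submodule F V, (∀ φ ∈ 𝓗, W.map (φ : V →ₗ[F] V) ≤ W) → W = ⊥ ∨ W = ⊤)
    [IsSemisimpleModule A V] :
    IsIsotypic A V ∨
    ∃ (t : ℕ) (D : Fin t → Submodule F V), 2 ≤ t ∧ (∀ i, D i ≠ ⊥) ∧ iSupIndep D ∧ iSup D = ⊤ ∧
      (∀ φ ∈ 𝓗, ∃ σ : Equiv.Perm (Fin t), ∀ i, (D i).map (φ : V →ₗ[F] V) = D (σ i)) ∧
      (∀ i j, ∃ φ ∈ 𝓗, (D i).map (φ : V →ₗ[F] V) = D j) ∧
      (∀ f : V →ₗ[F] V, (f ∈ A ∨ ∀ a ∈ A, f ∘ₗ a = a ∘ₗ f) → ∀ i, (D i).map f ≤ D i) := by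
  classical
  have hnoeth : IsNoetherian A V := isNoetherian_of_tower F inferInstance
  have hfin : Finite (isotypicComponents A V) := inferInstance
  by_cases hcard : Nat.card (isotypicComponents A V) ≤ 1
  · left
    exact isIsotypic_of_subsingleton (Finite.card_le_one_iff_subsingleton.mp hcard)
  · right
    let e : isotypicComponents A V ≃ Fin (Nat.card (isotypicComponents A V)) := Finite.equivFin _
    have hc : ∀ i, ((e.symm i : isotypicComponents A V) : Submodule A V) ∈ isotypicComponents A V :=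
      fun i => (e.symm i).2
    have hsymmN : ∀ φ ∈ 𝓗, NormA A φ.symm := fun φ hφ => hnorm _ (hsymm φ hφ)
    have hnorm' : ∀ φ ∈ 𝓗, NormA A φ.symm.symm := fun φ hφ => by
      rw [LinearEquiv.symm_symm]; exact hnorm φ hφ
    -- the action on the set of components
    let act : ∀ φ ∈ 𝓗, isotypicComponents A V → isotypicComponents A V := fun φ hφ c =>
      ⟨pull φ.symm (hsymmN φ hφ) c,
        pull_mem_isotypicComponents φ.symm (hsymmN φ hφ) (hnorm' φ hφ) c.2⟩
    have hact_inj : ∀ φ (hφ : φ ∈ 𝓗), Function.Injective (act φ hφ) := by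
      intro φ hφ c c' hcc
      have h1 : pull φ.symm (hsymmN φ hφ) c = pull φ.symm (hsymmN φ hφ) c' :=
        congrArg Subtype.val hcc
      exact Subtype.ext ((pullIso φ.symm (hsymmN φ hφ) (hnorm' φ hφ)).injective h1)
    refine ⟨Nat.card (isotypicComponents A V),
      fun i => ((e.symm i : isotypicComponents A V) : Submodule A V).restrictScalars F,
      by omega, ?_, ?_, ?_, ?_, ?_, ?_⟩
    · intro i
      rw [Ne, Submodule.restrictScalars_eq_bot_iff]
      exact (bot_lt_isotypicComponents (hc i)).ne'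
    · apply iSupIndep_restrictScalars
      have h1 := (sSupIndep_iff _).mp (sSupIndep_isotypicComponents A V)
      exact h1.comp e.symm.injective
    · rw [← Submodule.restrictScalars_iSup, Submodule.restrictScalars_eq_top_iff]
      rw [Equiv.iSup_comp (g := fun x : isotypicComponents A V => (x : Submodule A V)) e.symm,
        ← sSup_eq_iSup', sSup_isotypicComponents]
    · intro φ hφ
      have hb : Function.Bijective (act φ hφ) := Finite.injective_iff_bijective.mp (hact_inj φ hφ)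
      refine ⟨(e.symm.trans (Equiv.ofBijective _ hb)).trans e, ?_⟩
      intro i
      rw [map_eq_pull φ (hsymmN φ hφ)]
      simp only [Equiv.trans_apply, Equiv.ofBijective_apply, Equiv.symm_apply_apply]
      rfl
    · intro i j
      by_contra hcon
      push Not at hcon
      set ci : Submodule A V := ((e.symm i : isotypicComponents A V) : Submodule A V) with hci
      set cj : Submodule A V := ((e.symm j : isotypicComponents A V) : Submodule A V) with hcj
      -- the orbit sum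
      let U : Submodule F V := ⨆ φ : 𝓗, (ci.restrictScalars F).map ((φ : V ≃ₗ[F] V) : V →ₗ[F] V)
      have hUinv : ∀ ψ ∈ 𝓗, U.map (ψ : V →ₗ[F] V) ≤ U := by
        intro ψ hψ
        rw [Submodule.map_iSup]
        apply iSup_le
        intro φ
        rw [← Submodule.map_comp]
        have h1 : ((ψ : V →ₗ[F] V) ∘ₗ ((φ : V ≃ₗ[F] V) : V →ₗ[F] V)) =
            (((φ : V ≃ₗ[F] V).trans ψ : V ≃ₗ[F] V) : V →ₗ[F] V) := by
          ext v; simp
        rw [h1]
        exact le_iSup (fun φ : 𝓗 => (ci.restrictScalars F).map ((φ : V ≃ₗ[F] V) : V →ₗ[F] V))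
          ⟨_, htrans _ φ.2 _ hψ⟩
      have hUne : U ≠ ⊥ := by
        intro hU
        have h1 : ci.restrictScalars F ≤ U := by
          have := le_iSup (fun φ : 𝓗 => (ci.restrictScalars F).map ((φ : V ≃ₗ[F] V) : V →ₗ[F] V))
            ⟨_, hrefl⟩
          simpa using this
        rw [hU, le_bot_iff, Submodule.restrictScalars_eq_bot_iff] at h1
        exact (bot_lt_isotypicComponents (hc i)).ne' h1
      have hUtop : U = ⊤ := (hirr U hUinv).resolve_left hUne
      -- every translate of `ci` is a component different from `cj`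
      have hle : U ≤ (sSup (isotypicComponents A V \ {cj})).restrictScalars F := by
        apply iSup_le
        intro φ
        rw [map_eq_pull _ (hsymmN φ.1 φ.2)]
        apply Submodule.restrictScalars_mono
        apply le_sSup
        refine ⟨(act φ.1 φ.2 (e.symm i)).2, ?_⟩
        intro hmem
        apply hcon φ.1 φ.2
        rw [map_eq_pull _ (hsymmN φ.1 φ.2)]
        exact congrArg (Submodule.restrictScalars F) hmem
      have hcjle : cj ≤ sSup (isotypicComponents A V \ {cj}) := by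
        rw [← Submodule.restrictScalars_le (S := F)]
        refine le_trans ?_ hle
        rw [hUtop]
        exact le_top
      have hdisj := (sSupIndep_isotypicComponents A V) (hc j)
      have := hdisj.eq_bot_of_le hcjle
      exact (bot_lt_isotypicComponents (hc j)).ne' this
    · intro f hf i
      rcases hf with hf | hf
      · exact map_le_of_mem hf _
      · exact map_le_of_commute hf (hc i)

end Twist

section Mat
open Cfsg Cfsg.Geo Cfsg.Agent.Lib.Helper99.Asch
open scoped MatrixGroups Matrix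

variable {ι : Type} [Fintype ι] [DecidableEq ι] {F : Type*} [Field F]

/-- the linear automorphism of `F^ι` given by `g` -/
def Lg (g : GL ι F) : (ι → F) ≃ₗ[F] (ι → F) :=
  LinearEquiv.ofLinearMap (Matrix.toLin' (g : Matrix ι ι F))
    (Matrix.toLin' ((g⁻¹ : GL ι F) : Matrix ι ι F))
    (by rw [← Matrix.toLin'_mul, ← Units.val_mul, mul_inv_cancel, Units.val_one, Matrix.toLin'_one])
    (by rw [← Matrix.toLin'_mul, ← Units.val_mul, inv_mul_cancel, Units.val_one, Matrix.toLin'_one])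

theorem Lg_coe (g : GL ι F) :
    ((Lg g : (ι → F) ≃ₗ[F] (ι → F)) : (ι → F) →ₗ[F] (ι → F)) = Matrix.toLin' (g : Matrix ι ι F) := rfl

theorem Lg_apply (g : GL ι F) (v : ι → F) : Lg g v = Matrix.toLin' (g : Matrix ι ι F) v := rfl

theorem Lg_symm (g : GL ι F) : (Lg g).symm = Lg g⁻¹ := by
  ext v
  rfl

theorem Lg_symm_coe (g : GL ι F) :
    (((Lg g).symm : (ι → F) ≃ₗ[F] (ι → F)) : (ι → F) →ₗ[F] (ι → F)) =
      Matrix.toLin' ((g⁻¹ : GL ι F) : Matrix ι ι F) := rfl

theorem Lg_one : Lg (1 : GL ι F) = LinearEquiv.refl F (ι → F) := by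
  ext v
  simp [Lg_apply]

theorem Lg_trans (g h : GL ι F) : (Lg g).trans (Lg h) = Lg (h * g) := by
  ext v
  simp [Lg_apply, Matrix.toLin'_mul]

theorem toLin_mem_endAlg {N : Subgroup (GL ι F)} {x : GL ι F} (hx : x ∈ N) :
    Matrix.toLin' (x : Matrix ι ι F) ∈ endAlg N :=
  Algebra.subset_adjoin ⟨x, hx, rfl⟩

theorem normA_of_nrm {N : Subgroup (GL ι F)} {h : GL ι F} (hh : ∀ x ∈ N, h * x * h⁻¹ ∈ N) :
    NormA (endAlg N) (Lg h) := by
  intro a ha
  rw [Lg_coe, Lg_symm_coe]
  induction ha using Algebra.adjoin_induction with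
  | mem a ha =>
    obtain ⟨x, hx, rfl⟩ := ha
    have : Matrix.toLin' (h : Matrix ι ι F) ∘ₗ Matrix.toLin' (x : Matrix ι ι F) ∘ₗ
        Matrix.toLin' ((h⁻¹ : GL ι F) : Matrix ι ι F) =
        Matrix.toLin' ((h * x * h⁻¹ : GL ι F) : Matrix ι ι F) := by
      rw [Units.val_mul, Units.val_mul, Matrix.toLin'_mul, Matrix.toLin'_mul, LinearMap.comp_assoc]
    rw [this]
    exact toLin_mem_endAlg (hh x hx)
  | algebraMap r =>
    have : Matrix.toLin' (h : Matrix ι ι F) ∘ₗ (algebraMap F (Module.End F (ι → F)) r) ∘ₗ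
        Matrix.toLin' ((h⁻¹ : GL ι F) : Matrix ι ι F) = algebraMap F (Module.End F (ι → F)) r := by
      ext v i
      simp only [LinearMap.comp_apply, Module.algebraMap_end_apply, map_smul]
      rw [← LinearMap.comp_apply, ← Matrix.toLin'_mul, ← Units.val_mul, mul_inv_cancel,
        Units.val_one, Matrix.toLin'_one]
      rfl
    rw [this]
    exact Subalgebra.algebraMap_mem _ r
  | add a b _ _ iha ihb =>
    rw [LinearMap.add_comp, LinearMap.comp_add]
    exact Subalgebra.add_mem _ iha ihb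
  | mul a b _ _ iha ihb =>
    have : Matrix.toLin' (h : Matrix ι ι F) ∘ₗ (a * b) ∘ₗ
        Matrix.toLin' ((h⁻¹ : GL ι F) : Matrix ι ι F) =
        (Matrix.toLin' (h : Matrix ι ι F) ∘ₗ a ∘ₗ Matrix.toLin' ((h⁻¹ : GL ι F) : Matrix ι ι F)) *
        (Matrix.toLin' (h : Matrix ι ι F) ∘ₗ b ∘ₗ
          Matrix.toLin' ((h⁻¹ : GL ι F) : Matrix ι ι F)) := by
      have hQP : ∀ w : ι → F, Matrix.toLin' ((h⁻¹ : GL ι F) : Matrix ι ι F)
          (Matrix.toLin' (h : Matrix ι ι F) w) = w := fun w => (Lg h).symm_apply_apply w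
      apply LinearMap.ext
      intro v
      simp only [LinearMap.comp_apply, Module.End.mul_apply, hQP]
    rw [this]
    exact Subalgebra.mul_mem _ iha ihb

/-- a subspace mapped into itself by `g` and `g⁻¹` is mapped onto itself -/
theorem map_eq_of_le (g : GL ι F) (W : Submodule F (ι → F))
    (h1 : W.map (Matrix.toLin' (g : Matrix ι ι F)) ≤ W)
    (h2 : W.map (Matrix.toLin' ((g⁻¹ : GL ι F) : Matrix ι ι F)) ≤ W) :
    W.map (Matrix.toLin' (g : Matrix ι ι F)) = W := by
  apply le_antisymm h1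
  intro w hw
  refine ⟨Matrix.toLin' ((g⁻¹ : GL ι F) : Matrix ι ι F) w, h2 ⟨w, hw, rfl⟩, ?_⟩
  exact (Lg g).apply_symm_apply w

/-- an element centralising `N` commutes with `endAlg N` -/
theorem commute_endAlg {N : Subgroup (GL ι F)} {g : GL ι F} (hg : ∀ x ∈ N, g * x = x * g)
    (a : Module.End F (ι → F)) (ha : a ∈ endAlg N) :
    Matrix.toLin' (g : Matrix ι ι F) ∘ₗ a = a ∘ₗ Matrix.toLin' (g : Matrix ι ι F) := by
  induction ha using Algebra.adjoin_induction with
  | mem a ha =>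
    obtain ⟨x, hx, rfl⟩ := ha
    show Matrix.toLin' (g : Matrix ι ι F) ∘ₗ Matrix.toLin' (x : Matrix ι ι F) =
      Matrix.toLin' (x : Matrix ι ι F) ∘ₗ Matrix.toLin' (g : Matrix ι ι F)
    rw [← Matrix.toLin'_mul, ← Matrix.toLin'_mul, ← Units.val_mul, ← Units.val_mul, hg x hx]
  | algebraMap r =>
    apply LinearMap.ext
    intro v
    simp only [LinearMap.comp_apply, Module.algebraMap_end_apply, map_smul]
  | add a b _ _ iha ihb =>
    rw [LinearMap.comp_add, LinearMap.add_comp, iha, ihb]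
  | mul a b _ _ iha ihb =>
    show Matrix.toLin' (g : Matrix ι ι F) ∘ₗ (a ∘ₗ b) = (a ∘ₗ b) ∘ₗ Matrix.toLin' (g : Matrix ι ι F)
    rw [← LinearMap.comp_assoc, iha, LinearMap.comp_assoc, ihb, LinearMap.comp_assoc]

/-- ASCH-[ISO], with [SS] as a hypothesis, for any finite index type -/
theorem isotypic_or_decomposition_of (H N : Subgroup (GL ι F))
    (hirr : ActsIrreducibly (matrixSet H)) (hnrm : Nrm H N)
    (hss : IsSemisimpleModule (endAlg N) (ι → F)) :
    IsIsotypic (endAlg N) (ι → F) ∨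
    ∃ (t : ℕ) (D : Fin t → Submodule F (ι → F)), 2 ≤ t ∧ (∀ i, D i ≠ ⊥) ∧ iSupIndep D ∧ iSup D = ⊤ ∧
      (∀ h ∈ H, ∃ σ : Equiv.Perm (Fin t), ∀ i,
        (D i).map (Matrix.toLin' (h : Matrix ι ι F)) = D (σ i)) ∧
      (∀ i j, ∃ h ∈ H, (D i).map (Matrix.toLin' (h : Matrix ι ι F)) = D j) ∧
      (∀ g : GL ι F, (g ∈ N ∨ ∀ x ∈ N, g * x = x * g) → ∀ i,
        (D i).map (Matrix.toLin' (g : Matrix ι ι F)) = D i) := by
  have key := generic_main (A := endAlg N) {φ | ∃ h ∈ H, φ = Lg h}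
    ⟨1, H.one_mem, Lg_one.symm⟩
    (by rintro _ ⟨h, hh, rfl⟩; exact ⟨h⁻¹, H.inv_mem hh, Lg_symm h⟩)
    (by rintro _ ⟨h, hh, rfl⟩ _ ⟨h', hh', rfl⟩; exact ⟨h' * h, H.mul_mem hh' hh, Lg_trans h h'⟩)
    (by rintro _ ⟨h, hh, rfl⟩; exact normA_of_nrm (hnrm h hh))
    (by
      intro W hW
      apply hirr W
      rintro _ ⟨h, hh, rfl⟩
      exact hW (Lg h) ⟨h, hh, rfl⟩)
  rcases key with h | ⟨t, D, ht, hne, hind, htop, hperm, htrans, hfix⟩
  · left; exact h
  · right
    refine ⟨t, D, ht, hne, hind, htop, ?_, ?_, ?_⟩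
    · intro h hh
      obtain ⟨σ, hσ⟩ := hperm (Lg h) ⟨h, hh, rfl⟩
      exact ⟨σ, hσ⟩
    · intro i j
      obtain ⟨_, ⟨h, hh, rfl⟩, hφ⟩ := htrans i j
      exact ⟨h, hh, hφ⟩
    · intro g hg i
      apply map_eq_of_le
      · apply hfix _ _ i
        rcases hg with hg | hg
        · exact Or.inl (toLin_mem_endAlg hg)
        · exact Or.inr (commute_endAlg hg)
      · apply hfix _ _ i
        rcases hg with hg | hg
        · exact Or.inl (toLin_mem_endAlg (N.inv_mem hg))
        · refine Or.inr (commute_endAlg ?_)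
          intro x hx
          have := hg x hx
          calc g⁻¹ * x = g⁻¹ * (x * g) * g⁻¹ := by group
            _ = g⁻¹ * (g * x) * g⁻¹ := by rw [this]
            _ = x * g⁻¹ := by group

end Mat
end Cfsg.Agent.Lib.Helper80.AschIso

namespace Cfsg.Agent.Lib.Helper99.Asch

open Cfsg Cfsg.Geo
open scoped MatrixGroups Matrix Kronecker

variable {n : ℕ} {F : Type*} [Field F] [Fintype F]

/-- ASCH-[ISO] -/
theorem isotypic_or_decomposition (H N : Subgroup (GL (Fin n) F))
    (hirr : ActsIrreducibly (matrixSet H)) (hnrm : Nrm H N) :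
    IsIsotypic (endAlg N) (Fin n → F) ∨
    ∃ (t : ℕ) (D : Fin t → Submodule F (Fin n → F)), 2 ≤ t ∧ (∀ i, D i ≠ ⊥) ∧ iSupIndep D ∧ iSup D = ⊤ ∧
      (∀ h ∈ H, ∃ σ : Equiv.Perm (Fin t), ∀ i,
        (D i).map (Matrix.toLin' (h : Matrix (Fin n) (Fin n) F)) = D (σ i)) ∧
      (∀ i j, ∃ h ∈ H, (D i).map (Matrix.toLin' (h : Matrix (Fin n) (Fin n) F)) = D j) ∧
      (∀ g : GL (Fin n) F, (g ∈ N ∨ ∀ x ∈ N, g * x = x * g) → ∀ i,
        (D i).map (Matrix.toLin' (g : Matrix (Fin n) (Fin n) F)) = D i) :=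
  Cfsg.Agent.Lib.Helper80.AschIso.isotypic_or_decomposition_of H N hirr hnrm
    (semisimple_of_normalized H N hirr hnrm)

/-- ASCH-[ISO] -/
theorem geo_or_isotypic (H N : Subgroup (GL (Fin n) F))
    (hirr : ActsIrreducibly (matrixSet H)) (hnrm : Nrm H N) :
    Geo H ∨ IsIsotypic (endAlg N) (Fin n → F) := by
  rcases isotypic_or_decomposition H N hirr hnrm with h | ⟨t, D, ht, hne, hind, htop, hperm, htrans, _⟩
  · exact Or.inr h
  · exact Or.inl (geo_of_permuted_decomposition H t ht D hne hind htop hperm htrans)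

end Cfsg.Agent.Lib.Helper99.Asch
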