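import Cfsg.Agent.Lib.Helper80.CharBasic
import Cfsg.Agent.Lib.Helper77.Deflation
import Cfsg.Agent.Lib.Helper78.CharMore
import Cfsg.Agent.Lib.Helper79.Integrality

/-!
# Codegrees of irreducible characters (helper80)

The statements S4794-S4801, S4808 write the codegree of `χ` as
`Nat.card G / (Nat.card {g // χ g = χ 1} * charDegree χ)`.  Here we show that the division is exact.
-/

set_option autoImplicit false

namespace Cfsg.Agent.Lib.Helper80

open Cfsg

universe u

section codegree

variable {G : Type u} [Group G] [Finite G]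

/-- The codegree `[G : ker χ] / χ(1)` in the shape used by the frozen statements. -/
noncomputable def codeg (χ : G → ℂ) : ℕ :=
  Nat.card G / (Nat.card {g : G // χ g = χ 1} * charDegree χ)

omit [Finite G] in
theorem codeg_def (χ : G → ℂ) :
    codeg χ = Nat.card G / (Nat.card {g : G // χ g = χ 1} * charDegree χ) := rfl

theorem card_ker_set_eq {χ : G → ℂ} (h : IsCharacter G χ) :
    Nat.card {g : G // χ g = χ 1} = Nat.card (charKer χ h) := rfl

/-- The degree of an irreducible character divides the index of its kernel. -/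
theorem charDegree_dvd_index_charKer (χ : IrrCharacter G) :
    charDegree (χ : G → ℂ) ∣ (charKer (χ : G → ℂ) (isCharacter_of_isIrr χ.2)).index := by
  set K := charKer (χ : G → ℂ) (isCharacter_of_isIrr χ.2) with hK
  have hker : ∀ n ∈ K, (χ : G → ℂ) n = (χ : G → ℂ) 1 := fun n hn => hn
  have h1 := Helper79.irr_charDegree_dvd_card (Helper77.deflate K χ hker)
  have hdeg : charDegree ((Helper77.deflate K χ hker : IrrCharacter (G ⧸ K)) : G ⧸ K → ℂ) =
      charDegree (χ : G → ℂ) := by
    unfold charDegree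
    have := Helper77.deflate_mk K χ hker 1
    rw [QuotientGroup.mk_one] at this
    rw [this]
  rw [hdeg] at h1
  rw [Subgroup.index_eq_card]
  exact h1

/-- `|ker χ| * χ(1)` divides `|G|`. -/
theorem card_ker_mul_charDegree_dvd (χ : IrrCharacter G) :
    Nat.card {g : G // (χ : G → ℂ) g = (χ : G → ℂ) 1} * charDegree (χ : G → ℂ) ∣ Nat.card G := by
  rw [card_ker_set_eq (isCharacter_of_isIrr χ.2)]
  rw [← Subgroup.card_mul_index (charKer (χ : G → ℂ) (isCharacter_of_isIrr χ.2))]
  exact Nat.mul_dvd_mul_left _ (charDegree_dvd_index_charKer χ)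

theorem codeg_mul (χ : IrrCharacter G) :
    codeg (χ : G → ℂ) * (Nat.card {g : G // (χ : G → ℂ) g = (χ : G → ℂ) 1} *
      charDegree (χ : G → ℂ)) = Nat.card G :=
  Nat.div_mul_cancel (card_ker_mul_charDegree_dvd χ)

theorem codeg_dvd_card (χ : IrrCharacter G) : codeg (χ : G → ℂ) ∣ Nat.card G :=
  Dvd.intro _ (codeg_mul χ)

/-- `cod χ * χ(1) = [G : ker χ]`. -/
theorem codeg_mul_charDegree (χ : IrrCharacter G) :
    codeg (χ : G → ℂ) * charDegree (χ : G → ℂ) =
      (charKer (χ : G → ℂ) (isCharacter_of_isIrr χ.2)).index := by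
  have h := codeg_mul χ
  rw [card_ker_set_eq (isCharacter_of_isIrr χ.2),
    ← Subgroup.card_mul_index (charKer (χ : G → ℂ) (isCharacter_of_isIrr χ.2))] at h
  have hpos : 0 < Nat.card (charKer (χ : G → ℂ) (isCharacter_of_isIrr χ.2)) := Nat.card_pos
  apply Nat.eq_of_mul_eq_mul_left hpos
  rw [← h]
  ring

theorem codeg_pos (χ : IrrCharacter G) : 0 < codeg (χ : G → ℂ) := by
  have h := codeg_mul χ
  have : 0 < Nat.card G := Nat.card_pos
  by_contra h0
  have h0 : codeg (χ : G → ℂ) = 0 := by omega
  rw [h0, zero_mul] at h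
  omega

end codegree

end Cfsg.Agent.Lib.Helper80
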