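import Cfsg.Agent.Lib.Helper80.TwoClasses
import Cfsg.Agent.Lib.Helper75.Clifford2
import Cfsg.Agent.Lib.Helper81.BrauerPerm
import Cfsg.Agent.S4802

/-!
# Gagola's lemmas 2.2 and 2.3 on characters vanishing off two classes (helper80)
-/

set_option autoImplicit false
set_option linter.unusedSectionVars false

namespace Cfsg.Agent.Lib.Helper80

open Cfsg
open Cfsg.Agent.Lib
open scoped ComplexConjugate

universe u

section general

variable {G : Type u} [Group G] [Finite G]

/-- A subgroup all of whose elements of prime order have order `p` is a `p`-group. -/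
theorem isPGroup_of_prime_orders (p : ℕ) [Fact p.Prime] (T : Subgroup G)
    (h : ∀ z ∈ T, ∀ q : ℕ, q.Prime → orderOf z = q → q = p) : IsPGroup p T := by
  have hcard : ∀ q : ℕ, q.Prime → q ∣ Nat.card T → q = p := by
    intro q hq hqd
    have : Fact q.Prime := ⟨hq⟩
    obtain ⟨z, hz⟩ := exists_prime_orderOf_dvd_card' q hqd
    have := h (z : G) z.2 q hq (by rw [Subgroup.orderOf_coe]; exact hz)
    exact this
  have hpos : Nat.card T ≠ 0 := Nat.card_pos.ne'
  obtain ⟨k, hk⟩ : ∃ k, Nat.card T = p ^ k := by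
    exact ⟨_, Nat.eq_prime_pow_of_unique_prime_dvd hpos (fun {q} hq hqd => hcard q hq hqd)⟩
  exact IsPGroup.of_card hk

/-- A `p`-subgroup of index prime to `p` is a Sylow subgroup. -/
theorem exists_sylow_eq_of_isPGroup (p : ℕ) [Fact p.Prime] (T : Subgroup G) (hT : IsPGroup p T)
    (hidx : ¬ p ∣ T.index) : ∃ P : Sylow p G, T = P :=
  ⟨hT.toSylow hidx, (hT.toSylow_coe hidx).symm⟩

end general

section gagola

variable {G : Type u} [Group G] [Finite G]

/-- The standing hypotheses of Gagola's lemmas, packaged. -/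
structure GagolaData (χ : IrrCharacter G) (N : Subgroup G) (g₀ : G) : Prop where
  card_gt : 2 < Nat.card G
  ne_one : g₀ ≠ 1
  mem_iff : ∀ x : G, x ∈ N ↔ x = 1 ∨ IsConj g₀ x
  supp : ∀ x : G, (χ : G → ℂ) x ≠ 0 ↔ x ∈ N
  other : ∀ ψ : IrrCharacter G, ψ ≠ χ → ∀ x ∈ N, (ψ : G → ℂ) x = (ψ : G → ℂ) 1
  faithful : ∀ x : G, (χ : G → ℂ) x = (χ : G → ℂ) 1 → x = 1
  minimal : ∀ K : Subgroup G, K.Normal → K ≠ ⊥ → N ≤ K
  comm : ∀ a ∈ N, ∀ b ∈ N, a * b = b * a

theorem gagolaData_of (hG : 2 < Nat.card G) (χ : IrrCharacter G)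
    (hχ : Nat.card {C : ConjClasses G // ∃ g ∈ C.carrier, (χ : G → ℂ) g ≠ 0} = 2)
    (N : Subgroup G) (hN : ∀ g : G, g ∈ N ↔ (χ : G → ℂ) g ≠ 0) :
    ∃ g₀ : G, GagolaData χ N g₀ := by
  obtain ⟨g, hg, hsupp, hmem, hfaith⟩ := twoClasses_main hG χ hχ
  obtain ⟨-, hmin, ⟨p', -, hcomm', -⟩, -⟩ := twoClasses_group χ g hg hmem hfaith
  have hNeq : N = otherKer χ := by
    ext x
    rw [hN x, hsupp x, hmem x]
  refine ⟨g, hG, hg, ?_, ?_, ?_, hfaith, ?_, ?_⟩
  · intro x; rw [hN x, hsupp x]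
  · intro x; rw [hN x]
  · intro ψ hψ x hx
    rw [hNeq] at hx
    exact (mem_otherKer χ x).1 hx ψ hψ
  · rw [hNeq]; exact hmin
  · rw [hNeq]
    intro a ha b hb
    have := hcomm'.is_comm.comm (⟨a, ha⟩ : otherKer χ) ⟨b, hb⟩
    exact congrArg Subtype.val this

variable {χ : IrrCharacter G} {N : Subgroup G} {g₀ : G}

theorem GagolaData.g₀_mem (h : GagolaData χ N g₀) : g₀ ∈ N :=
  (h.mem_iff g₀).2 (Or.inr (IsConj.refl g₀))

theorem GagolaData.ne_bot (h : GagolaData χ N g₀) : N ≠ ⊥ := by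
  intro hb
  have := h.g₀_mem
  rw [hb, Subgroup.mem_bot] at this
  exact h.ne_one this

/-- The class of a nonidentity element of `N` is `N ∖ {1}`. -/
theorem GagolaData.isConj_iff (h : GagolaData χ N g₀) {x : G} (hx : x ∈ N) (hx1 : x ≠ 1) (y : G) :
    IsConj x y ↔ y ∈ N ∧ y ≠ 1 := by
  have hgx : IsConj g₀ x := ((h.mem_iff x).1 hx).resolve_left hx1
  constructor
  · intro hxy
    have hgy : IsConj g₀ y := hgx.trans hxy
    refine ⟨(h.mem_iff y).2 (Or.inr hgy), ?_⟩
    rintro rfl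
    exact h.ne_one (isConj_one_left.1 hgy)
  · rintro ⟨hy, hy1⟩
    exact hgx.symm.trans (((h.mem_iff y).1 hy).resolve_left hy1)

/-- The class of a nonidentity element of `N` has `|N| - 1` elements. -/
theorem GagolaData.ncard_class (h : GagolaData χ N g₀) {x : G} (hx : x ∈ N) (hx1 : x ≠ 1) :
    Set.ncard {y : G | IsConj x y} + 1 = Nat.card N := by
  have hset : {y : G | IsConj x y} = (N : Set G) \ {1} := by
    ext y
    simp only [Set.mem_ofPred_eq, Set.mem_sdiff, SetLike.mem_coe, Set.mem_singleton_iff]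
    exact h.isConj_iff hx hx1 y
  rw [hset, Set.ncard_sdiff_singleton_add_one (N.one_mem) (Set.toFinite _)]
  rfl

/-- `|C_G(x)| * (|N| - 1) = |G|` for a nonidentity element of `N`. -/
theorem GagolaData.card_centralizer_mul (h : GagolaData χ N g₀) {x : G} (hx : x ∈ N)
    (hx1 : x ≠ 1) :
    Nat.card (Subgroup.centralizer ({x} : Set G)) * (Nat.card N - 1) = Nat.card G := by
  have h1 := ncard_isConj_mul_card_centralizer x
  have h2 := h.ncard_class hx hx1
  have : Set.ncard {y : G | IsConj x y} = Nat.card N - 1 := by omega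
  rw [this] at h1
  rw [mul_comm]; exact h1

/-- Camina property: for `y ∉ N`, every element of the coset `yN` is conjugate to `y`. -/
theorem GagolaData.camina (h : GagolaData χ N g₀) [N.Normal] {y : G} (hy : y ∉ N) {n : G}
    (hn : n ∈ N) : IsConj y (y * n) := by
  have hiff := Cfsg.Agent.S4802.class_eq_preimage_iff N y
  have hR : ∀ ψ : IrrCharacter G, (∃ x ∈ N, (ψ : G → ℂ) x ≠ (ψ : G → ℂ) 1) →
      (ψ : G → ℂ) y = 0 := by
    rintro ψ ⟨x, hxN, hx⟩
    have hψ : ψ = χ := by
      by_contra hne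
      exact hx (h.other ψ hne x hxN)
    rw [hψ]
    by_contra h0
    exact hy ((h.supp y).1 h0)
  have hset := hiff.2 hR
  have hmem : y * n ∈ {h : G | IsConj (y : G ⧸ N) (h : G ⧸ N)} := by
    show IsConj (y : G ⧸ N) ((y * n : G) : G ⧸ N)
    have : ((y * n : G) : G ⧸ N) = (y : G ⧸ N) := by
      rw [QuotientGroup.mk_mul, (QuotientGroup.eq_one_iff n).2 hn, mul_one]
    rw [this]
  rw [← hset] at hmem
  exact hmem

/-- centralizers of elements outside `N`: same order as in the quotient -/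
theorem GagolaData.card_centralizer_quot (h : GagolaData χ N g₀) [N.Normal] {y : G} (hy : y ∉ N) :
    Nat.card (Subgroup.centralizer ({y} : Set G)) =
      Nat.card (Subgroup.centralizer ({(y : G ⧸ N)} : Set (G ⧸ N))) := by
  have hiff := Cfsg.Agent.S4802.class_eq_preimage_iff N y
  have hR : ∀ ψ : IrrCharacter G, (∃ x ∈ N, (ψ : G → ℂ) x ≠ (ψ : G → ℂ) 1) →
      (ψ : G → ℂ) y = 0 := by
    rintro ψ ⟨x, hxN, hx⟩
    have hψ : ψ = χ := by
      by_contra hne
      exact hx (h.other ψ hne x hxN)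
    rw [hψ]
    by_contra h0
    exact hy ((h.supp y).1 h0)
  have hset := hiff.2 hR
  have hpre : Set.ncard {h : G | IsConj (y : G ⧸ N) (h : G ⧸ N)} =
      Nat.card N * Set.ncard {q : G ⧸ N | IsConj (y : G ⧸ N) q} := by
    rw [← Nat.card_coe_set_eq, ← Nat.card_coe_set_eq]
    exact QuotientGroup.card_preimage_mk N {q : G ⧸ N | IsConj (y : G ⧸ N) q}
  have hG := ncard_isConj_mul_card_centralizer y
  have hQ := ncard_isConj_mul_card_centralizer (y : G ⧸ N)
  have hNQ : Nat.card N * Nat.card (G ⧸ N) = Nat.card G := by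
    rw [← Subgroup.index_eq_card, Subgroup.card_mul_index]
  rw [hset, hpre] at hG
  set cG := Nat.card (Subgroup.centralizer ({y} : Set G)) with hcG
  set cQ := Nat.card (Subgroup.centralizer ({(y : G ⧸ N)} : Set (G ⧸ N))) with hcQ
  set k := Set.ncard {q : G ⧸ N | IsConj (y : G ⧸ N) q} with hk
  have hpos : 0 < Nat.card N * k := by
    by_contra h0
    have h0 : Nat.card N * k = 0 := by omega
    rw [h0, zero_mul] at hG
    have : 0 < Nat.card G := Nat.card_pos
    omega
  have : Nat.card N * k * cG = Nat.card N * k * cQ := by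
    rw [hG, ← hNQ, ← hQ]; ring
  exact Nat.eq_of_mul_eq_mul_left hpos this

end gagola

section gagola2

variable {G : Type u} [Group G] [Finite G] {χ : IrrCharacter G} {N : Subgroup G} {g₀ : G}

/-- Centralizers of nonidentity elements of `N` are `p`-groups. -/
theorem GagolaData.isPGroup_centralizer (h : GagolaData χ N g₀) [N.Normal] (p : ℕ)
    [hp : Fact p.Prime] (hNp : IsPGroup p N) {x : G} (hx : x ∈ N) (hx1 : x ≠ 1) :
    IsPGroup p (Subgroup.centralizer ({x} : Set G)) := by
  apply isPGroup_of_prime_orders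
  intro z hz q hq hzq
  by_contra hqp
  have hzN : z ∉ N := by
    intro hzN
    obtain ⟨k, hk⟩ := hNp ⟨z, hzN⟩
    have hzk : z ^ (p ^ k) = 1 := by
      have := congrArg Subtype.val hk
      simpa using this
    have hdvd : q ∣ p ^ k := hzq ▸ orderOf_dvd_of_pow_eq_one hzk
    exact hqp ((Nat.prime_dvd_prime_iff_eq hq hp.out).1 (hq.dvd_of_dvd_pow hdvd))
  obtain ⟨k, hk⟩ := hNp ⟨x, hx⟩
  have hxk : x ^ (p ^ k) = 1 := by
    have := congrArg Subtype.val hk
    simpa using this
  have hxord : orderOf x ∣ p ^ k := orderOf_dvd_of_pow_eq_one hxk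
  have hcomm : Commute z x := by
    rw [Subgroup.mem_centralizer_iff] at hz
    exact (hz x (Set.mem_singleton x)).symm
  have hcop : (orderOf z).Coprime (orderOf x) := by
    rw [hzq]
    apply Nat.Coprime.coprime_dvd_right hxord
    exact Nat.Coprime.pow_right k ((Nat.coprime_primes hq hp.out).2 hqp)
  have hord : orderOf (z * x) = orderOf z * orderOf x :=
    hcomm.orderOf_mul_eq_mul_orderOf_of_coprime hcop
  have hconj : IsConj z (z * x) := h.camina hzN hx
  obtain ⟨c, hc⟩ := _root_.isConj_iff.1 hconj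
  have hsame : orderOf (z * x) = orderOf z := by
    rw [← hc]
    exact (MulAut.conj c).orderOf_eq z
  rw [hsame, hzq] at hord
  have hq0 : 0 < q := hq.pos
  have : orderOf x = 1 := by
    have h2 : q * 1 = q * orderOf x := by rw [mul_one]; exact hord
    exact (Nat.eq_of_mul_eq_mul_left hq0 h2).symm
  exact hx1 (orderOf_eq_one_iff.1 this)

/-- `p` does not divide `|N| - 1`. -/
theorem GagolaData.not_dvd_card_sub_one (h : GagolaData χ N g₀) (p : ℕ) [hp : Fact p.Prime]
    (hNp : IsPGroup p N) : ¬ p ∣ Nat.card N - 1 := by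
  obtain ⟨k, hk⟩ := IsPGroup.iff_card.1 hNp
  have hk0 : k ≠ 0 := by
    rintro rfl
    rw [pow_zero] at hk
    exact h.ne_bot (Subgroup.card_eq_one.1 hk)
  have hpN : p ∣ Nat.card N := by rw [hk]; exact dvd_pow_self p hk0
  intro hd
  have hpos : 0 < Nat.card N := Nat.card_pos
  have : p ∣ 1 := by
    have h1 : Nat.card N = (Nat.card N - 1) + 1 := by omega
    rw [h1] at hpN
    exact (Nat.dvd_add_right hd).1 hpN
  exact hp.out.one_lt.ne' (Nat.dvd_one.1 this)

/-- **Gagola, Lemma 2.2(a)**: centralizers of nonidentity elements of `N` are Sylow. -/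
theorem GagolaData.centralizer_sylow (h : GagolaData χ N g₀) [N.Normal] (p : ℕ)
    [hp : Fact p.Prime] (hNp : IsPGroup p N) {x : G} (hx : x ∈ N) (hx1 : x ≠ 1) :
    ∃ P : Sylow p G, Subgroup.centralizer ({x} : Set G) = P := by
  apply exists_sylow_eq_of_isPGroup p _ (h.isPGroup_centralizer p hNp hx hx1)
  have h1 := h.card_centralizer_mul hx hx1
  have h2 := (Subgroup.centralizer ({x} : Set G)).card_mul_index
  have hpos : 0 < Nat.card (Subgroup.centralizer ({x} : Set G)) := Nat.card_pos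
  have h3 : (Subgroup.centralizer ({x} : Set G)).index = Nat.card N - 1 :=
    Nat.eq_of_mul_eq_mul_left hpos (h2.trans h1.symm)
  rw [h3]
  exact h.not_dvd_card_sub_one p hNp

/-- `χ(1)² |N| = |G| (|N| - 1)`. -/
theorem GagolaData.sq_degree (h : GagolaData χ N g₀) :
    charDegree (χ : G → ℂ) ^ 2 * Nat.card N = Nat.card G * (Nat.card N - 1) := by
  classical
  let _ : Fintype G := Fintype.ofFinite G
  have hsupp : ∀ x : G, (χ : G → ℂ) x ≠ 0 → x = 1 ∨ IsConj g₀ x :=
    fun x hx => (h.mem_iff x).1 ((h.supp x).1 hx)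
  have hne1 := twoClasses_ne_one h.card_gt χ g₀ h.ne_one hsupp
  have hcf := Helper78.isClassFunction_irr χ
  set c := Set.ncard {y : G | IsConj g₀ y} with hc
  have hcN : c + 1 = Nat.card N := h.ncard_class h.g₀_mem h.ne_one
  have hd : (χ : G → ℂ) 1 = (charDegree (χ : G → ℂ) : ℂ) :=
    char_one_eq_charDegree (isCharacter_of_isIrr χ.2)
  set d := charDegree (χ : G → ℂ) with hdd
  -- ⟨χ, 1⟩ = 0
  have h1 : (d : ℂ) + (c : ℂ) * (χ : G → ℂ) g₀ = 0 := by
    have h0 : classInner (χ : G → ℂ) (fun _ => (1 : ℂ)) = 0 :=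
      classInner_irr_ne χ.2 isIrrCharacter_one hne1
    rw [classInner_def] at h0
    have h2 : ∑ x : G, (χ : G → ℂ) x * conj ((fun _ => (1 : ℂ)) x) = 0 := by
      rcases mul_eq_zero.1 h0 with h | h
      · exact absurd (inv_eq_zero.1 h) card_ne_zero_complex
      · exact h
    simp only [map_one, mul_one] at h2
    rw [sum_supported_two_classes (f := (χ : G → ℂ)) hcf g₀ h.ne_one hsupp, hd] at h2
    exact h2
  -- ⟨χ, χ⟩ = 1
  have h2 : (d : ℂ) * (d : ℂ) + (c : ℂ) * ((χ : G → ℂ) g₀ * conj ((χ : G → ℂ) g₀)) =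
      (Nat.card G : ℂ) := by
    have h0 : classInner (χ : G → ℂ) (χ : G → ℂ) = 1 := Helper78.classInner_irr_self χ.2
    rw [classInner_def] at h0
    have h3 : ∑ x : G, (χ : G → ℂ) x * conj ((χ : G → ℂ) x) = (Nat.card G : ℂ) := by
      have hne := card_ne_zero_complex (G := G)
      field_simp at h0
      exact h0
    rw [sum_supported_two_classes (f := fun x => (χ : G → ℂ) x * conj ((χ : G → ℂ) x)) ?_ g₀
      h.ne_one ?_] at h3
    · simp only [hd, Complex.conj_natCast] at h3
      exact h3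
    · intro a b
      show (χ : G → ℂ) (b * a * b⁻¹) * conj ((χ : G → ℂ) (b * a * b⁻¹)) = _
      rw [hcf a b]
    · intro x hx
      apply hsupp
      intro h0
      apply hx
      show (χ : G → ℂ) x * conj ((χ : G → ℂ) x) = 0
      rw [h0]; simp
  -- combine
  have h3 : (c : ℂ) * (χ : G → ℂ) g₀ = -(d : ℂ) := by linear_combination h1
  have h4 : conj ((c : ℂ) * (χ : G → ℂ) g₀) = -(d : ℂ) := by
    rw [h3]; simp
  have h5 : (c : ℂ) * conj ((χ : G → ℂ) g₀) = -(d : ℂ) := by
    rw [map_mul, Complex.conj_natCast] at h4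
    exact h4
  have h6 : (d : ℂ) ^ 2 * ((c : ℂ) + 1) = (Nat.card G : ℂ) * (c : ℂ) := by
    have : (c : ℂ) * ((d : ℂ) * (d : ℂ) + (c : ℂ) * ((χ : G → ℂ) g₀ * conj ((χ : G → ℂ) g₀))) =
        (c : ℂ) * (d : ℂ) ^ 2 + ((c : ℂ) * (χ : G → ℂ) g₀) * ((c : ℂ) * conj ((χ : G → ℂ) g₀)) := by
      ring
    rw [h2, h3, h5] at this
    linear_combination -this
  have h7 : d ^ 2 * (c + 1) = Nat.card G * c := by exact_mod_cast h6
  rw [← hcN]
  simpa using h7

end gagola2

section inertia

variable {G : Type u} [Group G]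

/-- The inertia subgroup of a function on a normal subgroup. -/
def inertiaSubgroup (N : Subgroup G) [N.Normal] (θ : N → ℂ) : Subgroup G where
  carrier := {g | Helper75.conjFun N g θ = θ}
  one_mem' := Helper75.conjFun_one N θ
  mul_mem' := by
    intro a b ha hb
    rw [Set.mem_ofPred_eq] at ha hb ⊢
    rw [Helper75.conjFun_mul, ha, hb]
  inv_mem' := by
    intro a ha
    rw [Set.mem_ofPred_eq] at ha ⊢
    have := Helper75.conjFun_inv_conjFun N a θ
    rwa [ha] at this

theorem mem_inertiaSubgroup (N : Subgroup G) [N.Normal] (θ : N → ℂ) (g : G) :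
    g ∈ inertiaSubgroup N θ ↔ Helper75.conjFun N g θ = θ := Iff.rfl

theorem mem_inertiaSubgroup_iff (N : Subgroup G) [hN : N.Normal] (θ : N → ℂ) (g : G) :
    g ∈ inertiaSubgroup N θ ↔ ∀ n n' : N, (n' : G) = g * n * g⁻¹ → θ n' = θ n := by
  rw [mem_inertiaSubgroup]
  constructor
  · intro h n n' hn'
    have := congrFun h n
    rw [Helper75.conjFun_apply] at this
    rw [← this]
    congr 1
    exact Subtype.ext hn'
  · intro h
    funext n
    rw [Helper75.conjFun_apply]
    exact h n ⟨g * n * g⁻¹, hN.conj_mem n n.2 g⟩ rfl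

variable [Finite G] {χ : IrrCharacter G} {N : Subgroup G} {g₀ : G}

/-- The order of the inertia group of a nontrivial irreducible character of `N`. -/
theorem GagolaData.card_inertia (h : GagolaData χ N g₀) [N.Normal] (μ : IrrCharacter N)
    (hμ : (μ : N → ℂ) ≠ fun _ => (1 : ℂ)) :
    Nat.card (inertiaSubgroup N (μ : N → ℂ)) * (Nat.card N - 1) =
      Nat.card G * charDegree (μ : N → ℂ) ^ 2 := by
  classical
  let _ : Fintype G := Fintype.ofFinite G
  let _ : Fintype N := Fintype.ofFinite N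
  let _ : Fintype (inertiaSubgroup N (μ : N → ℂ)) := Fintype.ofFinite _
  set I : G → ℂ := indFun N (μ : N → ℂ) with hI
  have hIcf : IsClassFunction G I := Helper75.isClassFunction_indFun N _
  -- multiplicities of ψ ≠ χ vanish
  have hI0 : ∀ ψ : IrrCharacter G, ψ ≠ χ → classInner I (ψ : G → ℂ) = 0 := by
    intro ψ hψ
    rw [hI, Helper75.frobenius_reciprocity N (μ : N → ℂ) (Helper78.isClassFunction_irr ψ)]
    have hres : (fun n : N => (ψ : G → ℂ) n) = ((ψ : G → ℂ) 1) • (fun _ : N => (1 : ℂ)) := by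
      funext n
      rw [Pi.smul_apply, smul_eq_mul, mul_one]
      exact h.other ψ hψ n n.2
    rw [hres, Helper78.classInner_smul_right,
      classInner_irr_ne μ.2 (isIrrCharacter_one (G := N)) hμ, mul_zero]
  set a := classInner I (χ : G → ℂ) with ha
  have hIa : I = a • (χ : G → ℂ) := by
    conv_lhs => rw [Helper78.classFunction_eq_sum_irr hIcf]
    rw [Finset.sum_eq_single χ]
    · intro ψ _ hψ
      rw [hI0 ψ hψ, zero_smul]
    · intro hh; exact absurd (Finset.mem_univ χ) hh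
  have hd : (χ : G → ℂ) 1 = (charDegree (χ : G → ℂ) : ℂ) :=
    char_one_eq_charDegree (isCharacter_of_isIrr χ.2)
  have hm : (μ : N → ℂ) 1 = (charDegree (μ : N → ℂ) : ℂ) :=
    char_one_eq_charDegree (isCharacter_of_isIrr μ.2)
  set d := charDegree (χ : G → ℂ) with hdd
  set m := charDegree (μ : N → ℂ) with hmm
  have hdpos : (d : ℂ) ≠ 0 := by
    have : 0 < d := Helper79.irr_charDegree_pos χ
    exact_mod_cast this.ne'
  -- r1
  have r1 : a * (d : ℂ) = (N.index : ℂ) * (m : ℂ) := by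
    have h1 := congrFun hIa 1
    rw [hI, Helper75.indFun_one, Pi.smul_apply, smul_eq_mul, hd, hm] at h1
    exact h1.symm
  -- r2
  have r2 := Helper75.classInner_indFun_self N (inertiaSubgroup N (μ : N → ℂ)) μ.2
    (fun g => mem_inertiaSubgroup N _ g)
  rw [← hI, hIa, Helper78.classInner_smul_left, Helper78.classInner_smul_right,
    Helper78.classInner_irr_self χ.2, mul_one] at r2
  have haconj : conj a = a := by
    have : a = (N.index : ℂ) * (m : ℂ) / (d : ℂ) := by
      field_simp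
      exact r1
    rw [this]
    simp [map_div₀]
  rw [haconj] at r2
  have hNpos : (Nat.card N : ℂ) ≠ 0 := by
    have : 0 < Nat.card N := Nat.card_pos
    exact_mod_cast this.ne'
  have hT : (Nat.card (inertiaSubgroup N (μ : N → ℂ)) : ℂ) = (Nat.card N : ℂ) * a ^ 2 := by
    field_simp at r2
    linear_combination -r2
  -- r3, r4
  have r3 : (d : ℂ) ^ 2 * (Nat.card N : ℂ) = (Nat.card G : ℂ) * ((Nat.card N : ℂ) - 1) := by
    have := h.sq_degree
    have hpos : 1 ≤ Nat.card N := Nat.card_pos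
    have h2 : ((d ^ 2 * Nat.card N : ℕ) : ℂ) = ((Nat.card G * (Nat.card N - 1) : ℕ) : ℂ) := by
      rw [this]
    push_cast [Nat.cast_sub hpos] at h2
    exact h2
  have r4 : (Nat.card N : ℂ) * (N.index : ℂ) = (Nat.card G : ℂ) := by
    exact_mod_cast N.card_mul_index
  have key : (Nat.card N : ℂ) * (d : ℂ) ^ 2 *
      ((Nat.card (inertiaSubgroup N (μ : N → ℂ)) : ℂ) * ((Nat.card N : ℂ) - 1)) =
      (Nat.card N : ℂ) * (d : ℂ) ^ 2 * ((Nat.card G : ℂ) * (m : ℂ) ^ 2) := by
    linear_combination ((Nat.card N : ℂ) * (d : ℂ) ^ 2 * ((Nat.card N : ℂ) - 1)) * hT +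
      ((Nat.card N : ℂ) ^ 2 * ((Nat.card N : ℂ) - 1) * (a * (d : ℂ) + (N.index : ℂ) * (m : ℂ))) * r1 +
      (((Nat.card N : ℂ) - 1) * (m : ℂ) ^ 2 * ((Nat.card N : ℂ) * (N.index : ℂ) + (Nat.card G : ℂ))) * r4 -
      ((Nat.card G : ℂ) * (m : ℂ) ^ 2) * r3
  have key2 := mul_left_cancel₀ (mul_ne_zero hNpos (pow_ne_zero 2 hdpos)) key
  have hpos : 1 ≤ Nat.card N := Nat.card_pos
  have : ((Nat.card (inertiaSubgroup N (μ : N → ℂ)) * (Nat.card N - 1) : ℕ) : ℂ) =
      ((Nat.card G * m ^ 2 : ℕ) : ℂ) := by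
    push_cast [Nat.cast_sub hpos]
    exact key2
  exact_mod_cast this

end inertia

section inertia2

variable {G : Type u} [Group G] [Finite G] {χ : IrrCharacter G} {N : Subgroup G} {g₀ : G}

/-- Brauer's permutation lemma for an abelian normal subgroup: an element fixing two distinct
irreducible characters of `N` centralizes a nonidentity element of `N`. -/
theorem exists_fixed_of_fixes_two (N : Subgroup G) [hN : N.Normal]
    (hcomm : ∀ a ∈ N, ∀ b ∈ N, a * b = b * a) (z : G) (μ ν : IrrCharacter N) (hμν : μ ≠ ν)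
    (hμ : Helper75.conjFun N z⁻¹ (μ : N → ℂ) = μ) (hν : Helper75.conjFun N z⁻¹ (ν : N → ℂ) = ν) :
    ∃ y ∈ N, y ≠ 1 ∧ z * y * z⁻¹ = y := by
  classical
  let _ : Fintype N := Fintype.ofFinite N
  let a : IrrCharacter N → IrrCharacter N := fun φ =>
    ⟨Helper75.conjFun N z⁻¹ (φ : N → ℂ), Helper75.isIrrCharacter_conjFun N φ.2 z⁻¹⟩
  let b : N → N := fun n => ⟨z * n * z⁻¹, hN.conj_mem n n.2 z⟩
  have hb : Function.Bijective b := by
    refine Function.bijective_iff_has_inverse.2
      ⟨fun n => ⟨z⁻¹ * n * z, by simpa using hN.conj_mem n n.2 z⁻¹⟩, ?_, ?_⟩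
    · intro n; apply Subtype.ext; show z⁻¹ * (z * n * z⁻¹) * z = n; group
    · intro n; apply Subtype.ext; show z * (z⁻¹ * n * z) * z⁻¹ = n; group
  have hab : ∀ (φ : IrrCharacter N) (y : N), (a φ : N → ℂ) (b y) = (φ : N → ℂ) y := by
    intro φ y
    show Helper75.conjFun N z⁻¹ (φ : N → ℂ) (b y) = _
    rw [Helper75.conjFun_apply]
    have hy : (⟨z⁻¹ * ((b y : N) : G) * z⁻¹⁻¹, hN.conj_mem _ (b y).2 z⁻¹⟩ : N) = y := by
      apply Subtype.ext
      show z⁻¹ * (z * y * z⁻¹) * z⁻¹⁻¹ = y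
      group
    rw [hy]
  have hcount := Helper81.brauer_perm_count a b hb hab
  -- the right side
  have hR : Nat.card {q : N × N // q.2 * q.1 * q.2⁻¹ = b q.1} =
      Nat.card {y : N // b y = y} * Nat.card N := by
    rw [← Nat.card_prod]
    apply Nat.card_congr
    refine ⟨fun q => (⟨q.1.1, ?_⟩, q.1.2), fun r => ⟨(r.1.1, r.2), ?_⟩, ?_, ?_⟩
    · have h1 := q.2
      have h2 : q.1.2 * q.1.1 * q.1.2⁻¹ = q.1.1 := by
        apply Subtype.ext
        have := hcomm q.1.2 q.1.2.2 q.1.1 q.1.1.2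
        show (q.1.2 : G) * q.1.1 * (q.1.2 : G)⁻¹ = q.1.1
        rw [this]; group
      rw [h2] at h1
      exact h1.symm
    · show r.2 * r.1.1 * r.2⁻¹ = b r.1.1
      rw [r.1.2]
      apply Subtype.ext
      have := hcomm r.2 r.2.2 r.1.1 r.1.1.2
      show (r.2 : G) * r.1.1 * (r.2 : G)⁻¹ = r.1.1
      rw [this]; group
    · intro q; rfl
    · intro r; rfl
  have hNpos : (Nat.card N : ℂ) ≠ 0 := by
    have : 0 < Nat.card N := Nat.card_pos
    exact_mod_cast this.ne'
  have hfix : Nat.card {φ : IrrCharacter N // a φ = φ} = Nat.card {y : N // b y = y} := by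
    rw [hR] at hcount
    push_cast at hcount
    have := mul_right_cancel₀ hNpos hcount
    exact_mod_cast this
  -- at least two fixed characters
  have h2 : 2 ≤ Nat.card {φ : IrrCharacter N // a φ = φ} := by
    have hμa : a μ = μ := Subtype.ext hμ
    have hνa : a ν = ν := Subtype.ext hν
    have hinj : Function.Injective
        (fun i : Fin 2 => if i = 0 then (⟨μ, hμa⟩ : {φ : IrrCharacter N // a φ = φ})
          else ⟨ν, hνa⟩) := by
      intro i j hij
      fin_cases i <;> fin_cases j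
      · rfl
      · exfalso
        simp at hij
        exact hμν hij
      · exfalso
        simp at hij
        exact hμν hij.symm
      · rfl
    have := Nat.card_le_card_of_injective _ hinj
    simpa using this
  rw [hfix] at h2
  by_contra hcon
  push Not at hcon
  have hsub : Subsingleton {y : N // b y = y} := by
    constructor
    intro y₁ y₂
    have h1 : (y₁ : N) = 1 := by
      by_contra hne
      have hne' : ((y₁ : N) : G) ≠ 1 := fun h0 => hne (Subtype.ext h0)
      exact hcon _ (y₁ : N).2 hne' (congrArg Subtype.val y₁.2)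
    have h2' : (y₂ : N) = 1 := by
      by_contra hne
      have hne' : ((y₂ : N) : G) ≠ 1 := fun h0 => hne (Subtype.ext h0)
      exact hcon _ (y₂ : N).2 hne' (congrArg Subtype.val y₂.2)
    apply Subtype.ext
    rw [h1, h2']
  have : Nat.card {y : N // b y = y} ≤ 1 := Finite.card_le_one_iff_subsingleton.2 hsub
  omega

/-- The inertia group of a nontrivial irreducible character of `N` is a `p`-group. -/
theorem GagolaData.isPGroup_inertia (h : GagolaData χ N g₀) [N.Normal] (p : ℕ)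
    [hp : Fact p.Prime] (hNp : IsPGroup p N) (μ : IrrCharacter N)
    (hμ : (μ : N → ℂ) ≠ fun _ => (1 : ℂ)) : IsPGroup p (inertiaSubgroup N (μ : N → ℂ)) := by
  apply isPGroup_of_prime_orders
  intro z hz q hq hzq
  have hz' : z⁻¹ ∈ inertiaSubgroup N (μ : N → ℂ) := Subgroup.inv_mem _ hz
  rw [mem_inertiaSubgroup] at hz'
  set t : IrrCharacter N := ⟨fun _ => (1 : ℂ), isIrrCharacter_one⟩ with ht
  have htfix : Helper75.conjFun N z⁻¹ (t : N → ℂ) = t := by
    funext n; rfl
  have hne : μ ≠ t := by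
    intro h0
    exact hμ (congrArg Subtype.val h0)
  obtain ⟨y, hyN, hy1, hzy⟩ := exists_fixed_of_fixes_two N h.comm z μ t hne hz' htfix
  have hzc : z ∈ Subgroup.centralizer ({y} : Set G) := by
    rw [Subgroup.mem_centralizer_iff]
    intro w hw
    rw [Set.mem_singleton_iff] at hw
    subst hw
    calc w * z = (z * w * z⁻¹) * z := by rw [hzy]
      _ = z * w := by group
  have hpg := h.isPGroup_centralizer p hNp hyN hy1
  obtain ⟨k, hk⟩ := hpg ⟨z, hzc⟩
  have hzk : z ^ (p ^ k) = 1 := by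
    have := congrArg Subtype.val hk
    simpa using this
  have hdvd : q ∣ p ^ k := hzq ▸ orderOf_dvd_of_pow_eq_one hzk
  exact (Nat.prime_dvd_prime_iff_eq hq hp.out).1 (hq.dvd_of_dvd_pow hdvd)

/-- **Gagola, Lemma 2.2(b)**: inertia groups of nontrivial characters of `N` are Sylow. -/
theorem GagolaData.inertia_sylow (h : GagolaData χ N g₀) [N.Normal] (p : ℕ)
    [hp : Fact p.Prime] (hNp : IsPGroup p N) (μ : IrrCharacter N)
    (hμ : (μ : N → ℂ) ≠ fun _ => (1 : ℂ)) :
    ∃ P : Sylow p G, inertiaSubgroup N (μ : N → ℂ) = P := by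
  apply exists_sylow_eq_of_isPGroup p _ (h.isPGroup_inertia p hNp μ hμ)
  have h1 := h.card_inertia μ hμ
  have h2 := (inertiaSubgroup N (μ : N → ℂ)).card_mul_index
  have hpos : 0 < Nat.card (inertiaSubgroup N (μ : N → ℂ)) := Nat.card_pos
  have h3 : (inertiaSubgroup N (μ : N → ℂ)).index * charDegree (μ : N → ℂ) ^ 2 =
      Nat.card N - 1 := by
    apply Nat.eq_of_mul_eq_mul_left hpos
    rw [← mul_assoc, h2, h1]
  intro hd
  apply h.not_dvd_card_sub_one p hNp
  rw [← h3]
  exact Dvd.dvd.mul_right hd _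

end inertia2

end Cfsg.Agent.Lib.Helper80
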