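import Mathlib
import Cfsg.Agent.Lib.Helper92.BPDefs

/-!
PROJECT BP (helper92's sheet), module BP-[L0-UNIT]: elements congruent to `1` modulo `𝔪Λ` are units
(Nakayama), the corner version, and: an idempotent in `𝔪Λ` is zero.
-/

set_option autoImplicit false

namespace Cfsg.Agent.Lib.Helper80.BP

open Polynomial Cfsg.Agent.Lib.Helper92.BP

section L0
variable {R : Type*} [CommRing R] [IsDomain R] [IsLocalRing R]
variable {Λ : Type*} [Ring Λ] [Algebra R Λ]

omit [IsDomain R] in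
/-- `𝔪Λ` is closed under right multiplication. -/
theorem mΛ_mul_right {a : Λ} (ha : a ∈ (IsLocalRing.maximalIdeal R • ⊤ : Submodule R Λ)) (y : Λ) :
    a * y ∈ (IsLocalRing.maximalIdeal R • ⊤ : Submodule R Λ) := by
  refine Submodule.smul_induction_on ha ?_ ?_
  · intro r hr n _
    rw [smul_mul_assoc]
    exact Submodule.smul_mem_smul hr trivial
  · intro a b ha hb
    rw [add_mul]; exact add_mem ha hb

omit [IsDomain R] in
/-- `𝔪Λ` is closed under left multiplication. -/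
theorem mΛ_mul_left {a : Λ} (ha : a ∈ (IsLocalRing.maximalIdeal R • ⊤ : Submodule R Λ)) (y : Λ) :
    y * a ∈ (IsLocalRing.maximalIdeal R • ⊤ : Submodule R Λ) := by
  refine Submodule.smul_induction_on ha ?_ ?_
  · intro r hr n _
    rw [mul_smul_comm]
    exact Submodule.smul_mem_smul hr trivial
  · intro a b ha hb
    rw [mul_add]; exact add_mem ha hb

omit [IsDomain R] in
/-- An element congruent to `1` modulo `𝔪Λ` has a right inverse (Nakayama). -/
theorem exists_mul_eq_one_of_sub_one_mem [Module.Finite R Λ] (x : Λ)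
    (hx : x - 1 ∈ (IsLocalRing.maximalIdeal R • ⊤ : Submodule R Λ)) : ∃ y : Λ, x * y = 1 := by
  let L : Λ →ₗ[R] Λ := LinearMap.mulLeft R x
  have htop : (⊤ : Submodule R Λ) ≤ LinearMap.range L := by
    apply Submodule.le_of_le_smul_of_le_jacobson_bot (I := IsLocalRing.maximalIdeal R)
      (Module.Finite.fg_top)
    · rw [IsLocalRing.jacobson_eq_maximalIdeal ⊥ bot_ne_top]
    · intro y _
      have h1 : y = x * y + (-(x - 1)) * y := by noncomm_ring
      rw [h1]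
      apply Submodule.add_mem_sup
      · exact ⟨y, rfl⟩
      · exact mΛ_mul_right (neg_mem hx) y
  obtain ⟨y, hy⟩ := htop (Submodule.mem_top : (1 : Λ) ∈ ⊤)
  exact ⟨y, hy⟩

omit [IsDomain R] in
/-- BP-[L0-UNIT] -/
theorem isUnit_of_sub_one_mem [Module.Finite R Λ] (x : Λ)
    (hx : x - 1 ∈ (IsLocalRing.maximalIdeal R • ⊤ : Submodule R Λ)) : IsUnit x := by
  obtain ⟨y, hy⟩ := exists_mul_eq_one_of_sub_one_mem x hx
  have hy1 : y - 1 ∈ (IsLocalRing.maximalIdeal R • ⊤ : Submodule R Λ) := by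
    have h1 : y - 1 = (-(x - 1)) * y := by
      have : (-(x - 1)) * y = y - x * y := by noncomm_ring
      rw [this, hy]
    rw [h1]
    exact mΛ_mul_right (neg_mem hx) y
  obtain ⟨w, hw⟩ := exists_mul_eq_one_of_sub_one_mem y hy1
  have hxw : x = w := by
    calc x = x * (y * w) := by rw [hw, mul_one]
      _ = (x * y) * w := by rw [mul_assoc]
      _ = w := by rw [hy, one_mul]
  have hyx : y * x = 1 := by rw [hxw]; exact hw
  exact ⟨⟨x, y, hy, hyx⟩, rfl⟩

omit [IsDomain R] in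
/-- BP-[L0-UNIT] (corner version) -/
theorem cornerUnit_of_sub_mem [Module.Finite R Λ] {e : Λ} (he : IsIdempotentElem e) (x : Λ)
    (hx : InCorner e x) (hxe : x - e ∈ (IsLocalRing.maximalIdeal R • ⊤ : Submodule R Λ)) :
    CornerUnit e x := by
  obtain ⟨hex, hxe'⟩ := hx
  have he2 : e * e = e := he
  have hu : IsUnit (x + (1 - e)) := by
    apply isUnit_of_sub_one_mem (R := R)
    have : x + (1 - e) - 1 = x - e := by abel
    rw [this]; exact hxe
  obtain ⟨u, hu⟩ := hu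
  have h1 : (x + (1 - e)) * (↑u⁻¹ : Λ) = 1 := by rw [← hu]; exact u.mul_inv
  have h2 : (↑u⁻¹ : Λ) * (x + (1 - e)) = 1 := by rw [← hu]; exact u.inv_mul
  -- `e` commutes with `x + (1 - e)`
  have hc1 : e * (x + (1 - e)) = x := by
    rw [mul_add, hex, mul_sub, mul_one, he2, sub_self, add_zero]
  have hc2 : (x + (1 - e)) * e = x := by
    rw [add_mul, hxe', sub_mul, one_mul, he2, sub_self, add_zero]
  -- hence with the inverse
  have hc3 : e * (↑u⁻¹ : Λ) = (↑u⁻¹ : Λ) * e := by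
    calc e * (↑u⁻¹ : Λ) = ((↑u⁻¹ : Λ) * (x + (1 - e))) * (e * (↑u⁻¹ : Λ)) := by rw [h2, one_mul]
      _ = (↑u⁻¹ : Λ) * (((x + (1 - e)) * e) * (↑u⁻¹ : Λ)) := by noncomm_ring
      _ = (↑u⁻¹ : Λ) * ((e * (x + (1 - e))) * (↑u⁻¹ : Λ)) := by rw [hc1, hc2]
      _ = (↑u⁻¹ : Λ) * e * ((x + (1 - e)) * (↑u⁻¹ : Λ)) := by noncomm_ring
      _ = (↑u⁻¹ : Λ) * e := by rw [h1, mul_one]
  refine ⟨⟨hex, hxe'⟩, e * (↑u⁻¹ : Λ), ⟨?_, ?_⟩, ?_, ?_⟩
  · rw [← mul_assoc, he2]
  · rw [hc3, mul_assoc, he2]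
  · calc x * (e * (↑u⁻¹ : Λ)) = (x * e) * (↑u⁻¹ : Λ) := by rw [mul_assoc]
      _ = (e * (x + (1 - e))) * (↑u⁻¹ : Λ) := by rw [hxe', hc1]
      _ = e * ((x + (1 - e)) * (↑u⁻¹ : Λ)) := by rw [mul_assoc]
      _ = e := by rw [h1, mul_one]
  · calc e * (↑u⁻¹ : Λ) * x = (↑u⁻¹ : Λ) * (e * x) := by rw [hc3, mul_assoc]
      _ = (↑u⁻¹ : Λ) * ((x + (1 - e)) * e) := by rw [hex, hc2]
      _ = ((↑u⁻¹ : Λ) * (x + (1 - e))) * e := by rw [mul_assoc]
      _ = e := by rw [h2, one_mul]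

omit [IsDomain R] in
/-- BP-[L0-NAK] : an idempotent in `𝔪 Λ` is zero -/
theorem idem_eq_zero_of_mem [Module.Finite R Λ] (e : Λ) (he : IsIdempotentElem e)
    (hx : e ∈ (IsLocalRing.maximalIdeal R • ⊤ : Submodule R Λ)) : e = 0 := by
  have hu : IsUnit (1 - e) := by
    apply isUnit_of_sub_one_mem (R := R)
    have : (1 - e) - 1 = -e := by abel
    rw [this]; exact neg_mem hx
  have h0 : e * (1 - e) = 0 := by
    rw [mul_sub, mul_one, he.eq, sub_self]
  obtain ⟨u, hu⟩ := hu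
  have : e = e * (1 - e) * (↑u⁻¹ : Λ) := by
    rw [mul_assoc, ← hu, u.mul_inv, mul_one]
  rw [this, h0, zero_mul]

end L0

end Cfsg.Agent.Lib.Helper80.BP
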