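import Mathlib
import Cfsg.Agent.Lib.Helper92.BPDefs
import Cfsg.Agent.Lib.Helper80.BPUnit

/-!
PROJECT BP (helper92's sheet), module BP-[L1-CRT]: spectral decomposition of a corner element by the
residue classes of the roots of a monic polynomial killing it.
-/

set_option autoImplicit false

namespace Cfsg.Agent.Lib.Helper80.BP

open Polynomial Cfsg.Agent.Lib.Helper92.BP

section Cev
variable {R : Type*} [CommRing R]
variable {Λ : Type*} [Ring Λ] [Algebra R Λ]

theorem commute_aeval {e x : Λ} (h : Commute e x) (q : R[X]) : Commute e (aeval x q) := by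
  induction q using Polynomial.induction_on' with
  | add p q hp hq => rw [map_add]; exact hp.add_right hq
  | monomial n r =>
    rw [aeval_monomial]
    exact (Algebra.commute_algebraMap_right r e).mul_right (h.pow_right n)

/-- evaluation of a polynomial at `x` inside the corner `e Λ e` (constant term times `e`) -/
noncomputable def cev (e x : Λ) (q : R[X]) : Λ := e * aeval x q

theorem cev_add (e x : Λ) (p q : R[X]) : cev e x (p + q) = cev e x p + cev e x q := by
  simp [cev, mul_add]

theorem cev_sum {ι : Type*} (e x : Λ) (s : Finset ι) (p : ι → R[X]) :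
    cev e x (∑ i ∈ s, p i) = ∑ i ∈ s, cev e x (p i) := by
  simp [cev, Finset.mul_sum]

theorem cev_one (e x : Λ) : cev (R := R) e x 1 = e := by
  simp [cev]

theorem cev_mul {e x : Λ} (he : e * e = e) (h : Commute e x) (p q : R[X]) :
    cev e x (p * q) = cev e x p * cev e x q := by
  have hp : Commute e (aeval x p) := commute_aeval h p
  simp only [cev, map_mul]
  calc e * (aeval x p * aeval x q) = (e * e) * (aeval x p * aeval x q) := by rw [he]
    _ = e * (e * aeval x p) * aeval x q := by noncomm_ring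
    _ = e * (aeval x p * e) * aeval x q := by rw [hp.eq]
    _ = e * aeval x p * (e * aeval x q) := by noncomm_ring

theorem cev_of_dvd {e x : Λ} {F q : R[X]} (hF : aeval x F = 0) (h : F ∣ q) : cev e x q = 0 := by
  obtain ⟨w, rfl⟩ := h
  simp [cev, hF]

theorem cev_left {e x : Λ} (he : e * e = e) (q : R[X]) : e * cev e x q = cev e x q := by
  simp [cev, ← mul_assoc, he]

theorem cev_right {e x : Λ} (he : e * e = e) (h : Commute e x) (q : R[X]) :
    cev e x q * e = cev e x q := by
  have hq : Commute e (aeval x q) := commute_aeval h q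
  simp only [cev]
  rw [mul_assoc, ← hq.eq, ← mul_assoc, he]

theorem cev_commute {e x y : Λ} (hyx : y * x = x * y) (hye : y * e = e * y) (q : R[X]) :
    y * cev e x q = cev e x q * y := by
  have hq : Commute y (aeval x q) := commute_aeval hyx q
  simp only [cev]
  rw [← mul_assoc, hye, mul_assoc, hq.eq, mul_assoc]

theorem cev_pow_succ {e x : Λ} (he : e * e = e) (h : Commute e x) (q : R[X]) (m : ℕ) :
    cev e x (q ^ (m + 1)) = cev e x q ^ (m + 1) := by
  induction m with
  | zero => simp
  | succ m ih => rw [pow_succ, cev_mul he h, ih, ← pow_succ]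

theorem cev_X_sub_C {e x : Λ} (hex : e * x = x) (a : R) :
    cev e x (X - C a) = x - a • e := by
  simp [cev, mul_sub, hex, Algebra.smul_def, Algebra.commutes]

theorem cev_X_mul {e x : Λ} (hex : e * x = x) (q : R[X]) :
    cev e x (X * q) = x * aeval x q := by
  simp [cev, ← mul_assoc, hex]

end Cev


section Main
variable {R : Type*} [CommRing R] [IsDomain R] [IsLocalRing R]
variable {Λ : Type*} [Ring Λ] [Algebra R Λ]

omit [IsDomain R] in
theorem isCoprime_X_sub_C_of_residue_ne {a b : R}
    (h : IsLocalRing.residue R a ≠ IsLocalRing.residue R b) :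
    IsCoprime (X - C a : R[X]) (X - C b) := by
  have hu : IsUnit (a - b) := by
    rw [← IsLocalRing.notMem_maximalIdeal, ← IsLocalRing.residue_eq_zero_iff, map_sub, sub_eq_zero]
    exact h
  obtain ⟨u, hu⟩ := hu
  refine ⟨-C (↑u⁻¹ : R), C (↑u⁻¹ : R), ?_⟩
  have h1 : (↑u⁻¹ : R) * (a - b) = 1 := by rw [← hu]; exact u.inv_mul
  calc -C (↑u⁻¹ : R) * (X - C a) + C (↑u⁻¹ : R) * (X - C b)
      = C (↑u⁻¹ : R) * (C a - C b) := by ring
    _ = C ((↑u⁻¹ : R) * (a - b)) := by rw [← C_sub, ← C_mul]
    _ = 1 := by rw [h1, C_1]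

omit [IsDomain R] in
/-- a polynomial all of whose coefficients lie in `𝔪` evaluates into `𝔪Λ` -/
theorem aeval_mem_of_map_residue_eq_zero (x : Λ) (P : R[X])
    (hP : P.map (IsLocalRing.residue R) = 0) :
    aeval x P ∈ (IsLocalRing.maximalIdeal R • ⊤ : Submodule R Λ) := by
  rw [aeval_eq_sum_range]
  apply Submodule.sum_mem
  intro i _
  have hc : P.coeff i ∈ IsLocalRing.maximalIdeal R := by
    rw [← IsLocalRing.residue_eq_zero_iff]
    have := congrArg (fun q => q.coeff i) hP
    simpa using this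
  exact Submodule.smul_mem_smul hc Submodule.mem_top

/-- BP-[L1-CRT] : spectral decomposition of a corner element by residue classes -/
theorem corner_crt (hR : MonicSplits R) [Module.Finite R Λ] {e : Λ}
    (he : IsIdempotentElem e) (x : Λ) (hx : InCorner e x) :
    ∃ (n : ℕ) (ε : Fin n → Λ) (α : Fin n → R),
      (∀ i, IdemLE (ε i) e) ∧ (∀ i j, i ≠ j → Orth (ε i) (ε j)) ∧ ∑ i, ε i = e ∧
      (∀ i, ∀ y : Λ, y * x = x * y → y * e = e * y → y * ε i = ε i * y) ∧
      (∀ i j, i ≠ j → α i - α j ∉ IsLocalRing.maximalIdeal R) ∧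
      (∀ i, α i ∉ IsLocalRing.maximalIdeal R → ∃ y : Λ, ε i = x * y) ∧
      (∀ i, ∃ m : ℕ, ((x - α i • e) * ε i) ^ m ∈
        (IsLocalRing.maximalIdeal R • ⊤ : Submodule R Λ)) := by
  classical
  obtain ⟨hex, hxe⟩ := hx
  have he2 : e * e = e := he
  have hcomm : Commute e x := by
    show e * x = x * e
    rw [hex, hxe]
  -- a monic polynomial killing `x`, with `0` among its roots
  obtain ⟨f, hfm, hf0⟩ := IsIntegral.of_finite R x
  have hf0' : aeval x f = 0 := hf0
  have hFm : (X * f : R[X]).Monic := monic_X.mul hfm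
  have hF0 : aeval x (X * f : R[X]) = 0 := by simp [hf0']
  obtain ⟨s, hs⟩ := hR _ hFm
  have hFprod : (X * f : R[X]) = ∏ a ∈ s.toFinset, (X - C a) ^ s.count a := by
    rw [hs, Finset.prod_multiset_map_count]
  have h0s : (0 : R) ∈ s.toFinset := by
    have h1 : (X * f : R[X]).eval 0 = 0 := by simp
    rw [hFprod, eval_prod] at h1
    obtain ⟨a, ha, ha0⟩ := Finset.prod_eq_zero_iff.mp h1
    simp only [eval_pow, eval_sub, eval_X, eval_C, zero_sub] at ha0
    have : a = 0 := by
      have := pow_eq_zero_iff (Multiset.count_ne_zero.mpr (Multiset.mem_toFinset.mp ha)) |>.mp ha0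
      simpa using this
    rw [← this]; exact ha
  -- the residue classes
  set res := IsLocalRing.residue R with hres
  set A := s.toFinset with hA
  set T := A.image res with hT
  set Ft : IsLocalRing.ResidueField R → R[X] :=
    fun t => ∏ a ∈ A.filter (fun a => res a = t), (X - C a) ^ s.count a with hFt
  have hFT : (X * f : R[X]) = ∏ t ∈ T, Ft t := by
    rw [hFprod]
    exact (Finset.prod_fiberwise_of_maps_to (fun a ha => Finset.mem_image_of_mem res ha) _).symm
  have hcop : ∀ t t', t ≠ t' → IsCoprime (Ft t) (Ft t') := by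
    intro t t' htt
    apply IsCoprime.prod_left
    intro a ha
    apply IsCoprime.prod_right
    intro b hb
    apply IsCoprime.pow
    apply isCoprime_X_sub_C_of_residue_ne
    rw [(Finset.mem_filter.mp ha).2, (Finset.mem_filter.mp hb).2]
    exact htt
  have hTne : T.Nonempty := ⟨res 0, Finset.mem_image_of_mem res h0s⟩
  have hpw : Pairwise (Function.onFun IsCoprime fun i : T => Ft i) := by
    intro i j hij
    exact hcop _ _ (fun h => hij (Subtype.ext h))
  obtain ⟨μ, hμ⟩ := (exists_sum_eq_one_iff_pairwise_coprime hTne).mpr hpw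
  set g : IsLocalRing.ResidueField R → R[X] := fun t => μ t * ∏ j ∈ T \ {t}, Ft j with hg
  have hgsum : ∑ t ∈ T, g t = 1 := hμ
  have hFsplit : ∀ t ∈ T, (X * f : R[X]) = Ft t * ∏ j ∈ T \ {t}, Ft j := by
    intro t ht
    rw [hFT, Finset.sdiff_singleton_eq_erase, Finset.mul_prod_erase T Ft ht]
  have hFg : ∀ t ∈ T, (X * f : R[X]) ∣ Ft t * g t := by
    intro t ht
    refine ⟨μ t, ?_⟩
    rw [hFsplit t ht]; simp only [hg]; ring
  have hgg : ∀ t ∈ T, ∀ t' ∈ T, t ≠ t' → (X * f : R[X]) ∣ g t * g t' := by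
    intro t ht t' ht' htt
    have h1 : Ft t' ∣ ∏ j ∈ T \ {t}, Ft j := by
      apply Finset.dvd_prod_of_mem
      rw [Finset.mem_sdiff, Finset.mem_singleton]
      exact ⟨ht', fun h => htt h.symm⟩
    obtain ⟨w, hw⟩ := h1
    refine ⟨μ t * μ t' * w, ?_⟩
    rw [hFsplit t' ht']; simp only [hg]; rw [hw]; ring
  -- the idempotents
  set ε' : IsLocalRing.ResidueField R → Λ := fun t => cev e x (g t) with hε'
  have hε'sum : ∑ t ∈ T, ε' t = e := by
    simp only [hε']
    rw [← cev_sum, hgsum, cev_one]
  have hε'orth : ∀ t ∈ T, ∀ t' ∈ T, t ≠ t' → ε' t * ε' t' = 0 := by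
    intro t ht t' ht' htt
    simp only [hε']
    rw [← cev_mul he2 hcomm]
    exact cev_of_dvd hF0 (hgg t ht t' ht' htt)
  have hε'idem : ∀ t ∈ T, ε' t * ε' t = ε' t := by
    intro t ht
    have h1 : ε' t * e = ε' t := cev_right he2 hcomm _
    calc ε' t * ε' t = ε' t * (e - ∑ t' ∈ T.erase t, ε' t') := by
          rw [← hε'sum, ← Finset.add_sum_erase T ε' ht]; abel_nf
      _ = ε' t := by
          rw [mul_sub, h1, Finset.mul_sum, Finset.sum_eq_zero, sub_zero]
          intro t' ht'
          exact hε'orth t ht t' (Finset.mem_of_mem_erase ht') (Finset.ne_of_mem_erase ht').symm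
  -- representatives
  have hrep : ∀ t : T, ∃ a ∈ A, res a = t.1 := fun t => Finset.mem_image.mp t.2
  choose rep hrepA hrepres using hrep
  -- indexing by `Fin n`
  let φ : Fin T.card ≃ T := T.equivFin.symm
  refine ⟨T.card, fun i => ε' (φ i).1, fun i => rep (φ i), ?_, ?_, ?_, ?_, ?_, ?_, ?_⟩
  · intro i
    exact ⟨hε'idem _ (φ i).2, cev_left he2 _, cev_right he2 hcomm _⟩
  · intro i j hij
    have hne : (φ i).1 ≠ (φ j).1 := fun h => hij (φ.injective (Subtype.ext h))
    exact ⟨hε'orth _ (φ i).2 _ (φ j).2 hne, hε'orth _ (φ j).2 _ (φ i).2 hne.symm⟩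
  · rw [Equiv.sum_comp φ (fun t : T => ε' t.1), Finset.sum_coe_sort T ε']
    exact hε'sum
  · intro i y hyx hye
    exact cev_commute hyx hye _
  · intro i j hij
    have hne : (φ i).1 ≠ (φ j).1 := fun h => hij (φ.injective (Subtype.ext h))
    rw [← IsLocalRing.residue_eq_zero_iff, map_sub, sub_eq_zero]
    show res (rep (φ i)) ≠ res (rep (φ j))
    rw [hrepres, hrepres]
    exact hne
  · intro i hαi
    -- `0` lies in another class, so `X ∣ g`
    have ht0 : res 0 ∈ T := Finset.mem_image_of_mem res h0s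
    have hne : res 0 ≠ (φ i).1 := by
      intro h
      apply hαi
      rw [← IsLocalRing.residue_eq_zero_iff]
      show res (rep (φ i)) = 0
      rw [hrepres, ← h, map_zero]
    have hX : (X : R[X]) ∣ Ft (res 0) := by
      have h1 : (X - C (0 : R)) ^ s.count 0 ∣ Ft (res 0) := by
        apply Finset.dvd_prod_of_mem (fun a => (X - C a) ^ s.count a)
        exact Finset.mem_filter.mpr ⟨h0s, rfl⟩
      refine dvd_trans ?_ h1
      rw [C_0, sub_zero]
      exact dvd_pow_self X (Multiset.count_ne_zero.mpr (Multiset.mem_toFinset.mp h0s))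
    have hXg : (X : R[X]) ∣ g (φ i).1 := by
      simp only [hg]
      apply dvd_mul_of_dvd_right
      refine dvd_trans hX ?_
      apply Finset.dvd_prod_of_mem
      rw [Finset.mem_sdiff, Finset.mem_singleton]
      exact ⟨ht0, hne⟩
    obtain ⟨w, hw⟩ := hXg
    refine ⟨aeval x w, ?_⟩
    show cev e x (g (φ i).1) = _
    rw [hw, cev_X_mul hex]
  · intro i
    set t := (φ i).1 with htdef
    have ht : t ∈ T := (φ i).2
    set a₀ := rep (φ i) with ha₀
    have ha₀res : res a₀ = t := hrepres (φ i)
    set m := ∑ a ∈ A.filter (fun a => res a = t), s.count a with hm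
    -- `(X - a₀)^m ≡ F_t` modulo `𝔪`
    have hP : ((X - C a₀) ^ m - Ft t).map res = 0 := by
      rw [Polynomial.map_sub, Polynomial.map_pow, Polynomial.map_sub, map_X, map_C, sub_eq_zero]
      simp only [hFt]
      rw [Polynomial.map_prod, hm, ← Finset.prod_pow_eq_pow_sum]
      apply Finset.prod_congr rfl
      intro a ha
      rw [Polynomial.map_pow, Polynomial.map_sub, map_X, map_C, (Finset.mem_filter.mp ha).2,
        ha₀res]
    refine ⟨m + 1, ?_⟩
    have h1 : (x - a₀ • e) * ε' t = cev e x ((X - C a₀) * g t) := by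
      rw [cev_mul he2 hcomm, cev_X_sub_C hex]
    rw [h1, ← cev_pow_succ he2 hcomm]
    have h2 : ((X - C a₀) * g t) ^ (m + 1) =
        ((X - C a₀) ^ m - Ft t) * ((X - C a₀) * g t ^ (m + 1)) +
          (Ft t * g t) * ((X - C a₀) * g t ^ m) := by
      rw [mul_pow, pow_succ (X - C a₀) m, pow_succ (g t) m]
      generalize (X - C a₀) ^ m = P1
      generalize g t ^ m = P2
      ring
    rw [h2, cev_add, cev_mul he2 hcomm, cev_of_dvd hF0 (Dvd.dvd.mul_right (hFg t ht) _), add_zero]
    apply mΛ_mul_right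
    simp only [cev]
    apply mΛ_mul_left
    exact aeval_mem_of_map_residue_eq_zero x _ hP

end Main

end Cfsg.Agent.Lib.Helper80.BP
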