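import Mathlib
import Cfsg.Prelude.Def_Solvable
import Cfsg.Agent.Lib.Helper75.Monomial
import Cfsg.Agent.Lib.Helper76.CliffordGen
import Cfsg.Agent.Lib.Helper15.Dade2
import Cfsg.Agent.Lib.Helper76.Central
import Cfsg.Agent.Lib.Helper80.CharBasic

/-!
# Products of a character with a Galois conjugate (helper80)

If `χ` is a faithful irreducible character and `g ↦ χ g * χ (g ^ k)` is irreducible
(`k` prime to `|G|`), then every normal nilpotent subgroup of `G` is central.
-/

set_option autoImplicit false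

namespace Cfsg.Agent.Lib.Helper80GP

open Cfsg Cfsg.Agent.Lib.Helper75 Cfsg.Agent.Lib.Helper78
open scoped ComplexConjugate commutatorElement

universe u

section Parseval

variable {G : Type u} [Group G] [Fintype G]

/-- Parseval with natural coefficients for two characters. -/
theorem exists_nat_coeffs {Φ Ψ : G → ℂ} (hΦ : IsCharacter G Φ) (hΨ : IsCharacter G Ψ) :
    ∃ a b : IrrCharacter G → ℕ, (∀ ζ : IrrCharacter G, classInner Φ (ζ : G → ℂ) = a ζ) ∧
      (∀ ζ : IrrCharacter G, classInner Ψ (ζ : G → ℂ) = b ζ) ∧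
      classInner Φ Ψ = ((∑ ζ : IrrCharacter G, a ζ * b ζ : ℕ) : ℂ) := by
  choose a ha using fun ζ => IsCharacter.exists_nat_classInner hΦ ζ
  choose b hb using fun ζ => IsCharacter.exists_nat_classInner hΨ ζ
  refine ⟨a, b, ha, hb, ?_⟩
  rw [classInner_eq_sum_mul_conj Ψ (IsCharacter.isClassFunction hΦ)]
  push_cast
  apply Finset.sum_congr rfl
  intro ζ _
  rw [ha ζ, hb ζ, Complex.conj_natCast]

theorem classInner_ne_zero_of_common {Φ Ψ : G → ℂ} (hΦ : IsCharacter G Φ) (hΨ : IsCharacter G Ψ)
    (ζ : IrrCharacter G) (h1 : classInner Φ (ζ : G → ℂ) ≠ 0)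
    (h2 : classInner Ψ (ζ : G → ℂ) ≠ 0) : classInner Φ Ψ ≠ 0 := by
  obtain ⟨a, b, ha, hb, hab⟩ := exists_nat_coeffs hΦ hΨ
  rw [hab]
  have ha' : a ζ ≠ 0 := by
    intro h; apply h1; rw [ha ζ, h]; simp
  have hb' : b ζ ≠ 0 := by
    intro h; apply h2; rw [hb ζ, h]; simp
  have hle : a ζ * b ζ ≤ ∑ ζ : IrrCharacter G, a ζ * b ζ :=
    Finset.single_le_sum (f := fun ζ => a ζ * b ζ) (fun _ _ => Nat.zero_le _) (Finset.mem_univ ζ)
  have hpos : 0 < a ζ * b ζ := Nat.mul_pos (Nat.pos_of_ne_zero ha') (Nat.pos_of_ne_zero hb')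
  have : (∑ ζ : IrrCharacter G, a ζ * b ζ) ≠ 0 := by omega
  exact_mod_cast this

theorem classInner_ne_one_of_common_two {Φ Ψ : G → ℂ} (hΦ : IsCharacter G Φ)
    (hΨ : IsCharacter G Ψ) (ζ₁ ζ₂ : IrrCharacter G) (hne : ζ₁ ≠ ζ₂)
    (h1 : classInner Φ (ζ₁ : G → ℂ) ≠ 0) (h2 : classInner Ψ (ζ₁ : G → ℂ) ≠ 0)
    (h3 : classInner Φ (ζ₂ : G → ℂ) ≠ 0) (h4 : classInner Ψ (ζ₂ : G → ℂ) ≠ 0) :
    classInner Φ Ψ ≠ 1 := by
  classical
  obtain ⟨a, b, ha, hb, hab⟩ := exists_nat_coeffs hΦ hΨ
  rw [hab]
  have hnz : ∀ ζ : IrrCharacter G, classInner Φ (ζ : G → ℂ) ≠ 0 →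
      classInner Ψ (ζ : G → ℂ) ≠ 0 → 0 < a ζ * b ζ := by
    intro ζ h1 h2
    have ha' : a ζ ≠ 0 := by
      intro h; apply h1; rw [ha ζ, h]; simp
    have hb' : b ζ ≠ 0 := by
      intro h; apply h2; rw [hb ζ, h]; simp
    exact Nat.mul_pos (Nat.pos_of_ne_zero ha') (Nat.pos_of_ne_zero hb')
  have hle : ∑ ζ ∈ ({ζ₁, ζ₂} : Finset (IrrCharacter G)), a ζ * b ζ ≤
      ∑ ζ : IrrCharacter G, a ζ * b ζ :=
    Finset.sum_le_sum_of_subset (Finset.subset_univ _)
  rw [Finset.sum_pair hne] at hle
  have p1 := hnz ζ₁ h1 h2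
  have p2 := hnz ζ₂ h3 h4
  have : (∑ ζ : IrrCharacter G, a ζ * b ζ) ≠ 1 := by omega
  exact_mod_cast this

end Parseval

section Core

variable {G : Type u} [Group G] [Fintype G]

/-- The standing hypotheses. -/
structure Hyp (χ : G → ℂ) (k : ℕ) : Prop where
  irr : IsIrrCharacter G χ
  faith : ∀ g : G, χ g = χ 1 → g = 1
  cop : k.Coprime (Nat.card G)
  prod : IsIrrCharacter G (fun g => χ g * χ (g ^ k))

/-- `χ \bar χ` -/
def dlt (χ : G → ℂ) : G → ℂ := fun g => χ g * conj (χ g)

theorem isCharacter_dlt {χ : G → ℂ} (hχ : IsCharacter G χ) : IsCharacter G (dlt χ) :=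
  Cfsg.Agent.Lib.Helper80.isCharacter_mul hχ (Cfsg.Agent.Lib.Helper80.isCharacter_conj hχ)

theorem classInner_dlt_one {χ : G → ℂ} (hχ : IsIrrCharacter G χ) :
    classInner (dlt χ) (fun _ : G => (1 : ℂ)) = 1 := by
  have h := classInner_irr_self hχ
  refine Eq.trans ?_ h
  unfold classInner
  congr 1
  apply Finset.sum_congr rfl
  intro g _
  simp [dlt]

theorem classInner_dlt_pow {χ : G → ℂ} {k : ℕ} (H : Hyp χ k) :
    classInner (dlt χ) (powFun k (dlt χ)) = 1 := by
  have h := classInner_irr_self H.prod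
  refine Eq.trans ?_ h
  unfold classInner
  congr 1
  apply Finset.sum_congr rfl
  intro g _
  simp only [dlt, powFun_apply, map_mul, Complex.conj_conj]
  ring

theorem isCharacter_powFun {χ : G → ℂ} {k : ℕ} (hk : k.Coprime (Nat.card G))
    (hχ : IsCharacter G χ) : IsCharacter G (powFun k χ) :=
  isCharacter_pow hχ k hk

theorem isIrrCharacter_powFun {χ : G → ℂ} {k : ℕ} (hk : k.Coprime (Nat.card G))
    (hχ : IsIrrCharacter G χ) : IsIrrCharacter G (powFun k χ) :=
  isIrrCharacter_pow hχ k hk

omit [Fintype G] in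
theorem powFun_one_fun (k : ℕ) : powFun k (fun _ : G => (1 : ℂ)) = fun _ : G => (1 : ℂ) := rfl

/-- No nonprincipal irreducible character is a common constituent of `χ\bar χ` and its Galois
conjugate. -/
theorem no_common {χ : G → ℂ} {k : ℕ} (H : Hyp χ k) {ξ : G → ℂ} (hξ : IsIrrCharacter G ξ)
    (hne : ξ ≠ fun _ : G => (1 : ℂ)) (h1 : classInner (dlt χ) ξ ≠ 0)
    (h2 : classInner (powFun k (dlt χ)) ξ ≠ 0) : False := by
  have hΔ := isCharacter_dlt (IsIrrCharacter.isCharacter H.irr)
  have hΔk := isCharacter_powFun H.cop hΔ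
  have h11 : classInner (dlt χ) (fun _ : G => (1 : ℂ)) ≠ 0 := by
    rw [classInner_dlt_one H.irr]; exact one_ne_zero
  have h12 : classInner (powFun k (dlt χ)) (fun _ : G => (1 : ℂ)) ≠ 0 := by
    rw [← powFun_one_fun k, classInner_powFun_powFun k H.cop, classInner_dlt_one H.irr]
    exact one_ne_zero
  refine classInner_ne_one_of_common_two hΔ hΔk ⟨_, isIrrCharacter_one⟩ ⟨ξ, hξ⟩ ?_ h11 h12 h1 h2
    (classInner_dlt_pow H)
  intro h
  exact hne (congrArg Subtype.val h).symm

/-- variant: `ξ` and its Galois conjugate are both constituents of `χ \bar χ`. -/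
theorem no_common' {χ : G → ℂ} {k : ℕ} (H : Hyp χ k) {ξ : G → ℂ} (hξ : IsIrrCharacter G ξ)
    (hne : ξ ≠ fun _ : G => (1 : ℂ)) (h1 : classInner (dlt χ) ξ ≠ 0)
    (h2 : classInner (dlt χ) (powFun k ξ) ≠ 0) : False := by
  have hξk := isIrrCharacter_powFun H.cop hξ
  refine no_common H hξk ?_ h2 ?_
  · intro h
    have h3 : classInner (powFun k ξ) (powFun k (fun _ : G => (1 : ℂ))) = 0 := by
      rw [classInner_powFun_powFun k H.cop]
      exact classInner_irr_ne hξ isIrrCharacter_one hne
    rw [powFun_one_fun, h, classInner_irr_self isIrrCharacter_one] at h3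
    exact one_ne_zero h3
  · rw [classInner_powFun_powFun k H.cop]
    exact h1

omit [Fintype G] in
/-- a power prime to the group order lies in a subgroup iff the element does -/
theorem pow_mem_iff_of_coprime [Finite G] (T : Subgroup G) {k : ℕ} (hk : k.Coprime (Nat.card G)) (h : G) :
    h ^ k ∈ T ↔ h ∈ T := by
  constructor
  · intro hh
    have hc : Nat.Coprime k (orderOf h) :=
      Nat.Coprime.coprime_dvd_right (orderOf_dvd_natCard h) hk
    obtain ⟨m, hm⟩ := exists_pow_eq_self_of_coprime hc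
    rw [← hm]
    exact T.pow_mem hh m
  · intro hh
    exact T.pow_mem hh k

/-- induction commutes with coprime power maps -/
theorem indFun_powFun (T : Subgroup G) (θ : T → ℂ) {k : ℕ} (hk : k.Coprime (Nat.card G)) :
    powFun k (indFun T θ) = indFun T (powFun k θ) := by
  funext g
  simp only [powFun_apply, indFun]
  congr 1
  apply Finset.sum_congr rfl
  intro x _
  have hx : x⁻¹ * g ^ k * x = (x⁻¹ * g * x) ^ k := by
    have := conj_pow (a := x⁻¹) (b := g) (i := k)
    simpa using this.symm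
  rw [hx]
  by_cases hm : x⁻¹ * g * x ∈ T
  · rw [extendByZero_of_mem T θ (T.pow_mem hm k), extendByZero_of_mem T (powFun k θ) hm,
      powFun_apply]
    rfl
  · rw [extendByZero_of_not_mem T (powFun k θ) hm,
      extendByZero_of_not_mem T θ (fun h => hm ((pow_mem_iff_of_coprime T hk _).mp h))]

omit [Fintype G] in
/-- restriction to a subgroup commutes with power maps -/
theorem res_powFun (T : Subgroup G) (ξ : G → ℂ) (k : ℕ) :
    (fun t : T => powFun k ξ t) = powFun k (fun t : T => ξ t) := by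
  funext t
  simp [powFun_apply]

omit [Fintype G] in
theorem coprime_card_subgroup [Finite G] (T : Subgroup G) {k : ℕ} (hk : k.Coprime (Nat.card G)) :
    k.Coprime (Nat.card T) :=
  Nat.Coprime.coprime_dvd_right (Subgroup.card_subgroup_dvd_card T) hk

/-- If `χ` is induced from `T` and `ξ|_T` contains the principal character then `ξ` is a
constituent of `χ \bar χ`. -/
theorem classInner_dlt_ne_zero_of_induced (T : Subgroup G) [Fintype T] {η : T → ℂ}
    (hη : IsCharacter T η) {χ : G → ℂ} (hχ : IsIrrCharacter G χ) (hind : indFun T η = χ)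
    {ξ : G → ℂ} (hξ : IsCharacter G ξ)
    (h1 : classInner (fun t : T => ξ t) (fun _ : T => (1 : ℂ)) ≠ 0) :
    classInner (dlt χ) ξ ≠ 0 := by
  have hχc := IsIrrCharacter.isCharacter hχ
  -- rewrite the inner product
  have e1 : classInner (dlt χ) ξ = classInner χ (fun g => χ g * ξ g) := by
    unfold classInner
    congr 1
    apply Finset.sum_congr rfl
    intro g _
    simp only [dlt, map_mul]
    ring
  have hcf : IsClassFunction G (fun g => χ g * ξ g) :=
    IsCharacter.isClassFunction (Cfsg.Agent.Lib.Helper80.isCharacter_mul hχc hξ)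
  have e2 : classInner χ (fun g => χ g * ξ g) =
      classInner η (fun t : T => χ t * ξ t) := by
    have h := frobenius_reciprocity T η hcf
    rw [hind] at h
    exact h
  let Φ : T → ℂ := fun t => η t * conj (χ t)
  have e3 : classInner η (fun t : T => χ t * ξ t) = classInner Φ (fun t : T => ξ t) := by
    unfold classInner
    congr 1
    apply Finset.sum_congr rfl
    intro t _
    simp only [Φ, map_mul]
    ring
  have hΦ : IsCharacter T Φ :=
    Cfsg.Agent.Lib.Helper80.isCharacter_mul hη
      (Cfsg.Agent.Lib.Helper80.isCharacter_conj (isCharacter_res T hχc))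
  have hΦ1 : classInner Φ (fun _ : T => (1 : ℂ)) ≠ 0 := by
    have e4 : classInner Φ (fun _ : T => (1 : ℂ)) = classInner η (fun t : T => χ t) := by
      unfold classInner
      congr 1
      apply Finset.sum_congr rfl
      intro t _
      simp [Φ]
    rw [e4, ← frobenius_reciprocity T η (IsCharacter.isClassFunction hχc), hind,
      classInner_irr_self hχ]
    exact one_ne_zero
  rw [e1, e2, e3]
  exact classInner_ne_zero_of_common hΦ (isCharacter_res T hξ) ⟨_, isIrrCharacter_one⟩ hΦ1 h1

/-- centrality from the norm of a faithful irreducible character -/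
theorem mem_center_of_norm_eq {χ : G → ℂ} (hχ : IsIrrCharacter G χ)
    (faith : ∀ g : G, χ g = χ 1 → g = 1) {b : G} (hb : ‖χ b‖ = ‖χ 1‖) :
    b ∈ Subgroup.center G := by
  let X : IrrCharacter G := ⟨χ, hχ⟩
  have h1 : b ∈ Cfsg.Agent.Lib.Helper77.irrCenter X :=
    (Cfsg.Agent.Lib.Helper77.mem_irrCenter X b).mpr hb
  rw [Cfsg.Agent.Lib.Helper77.mem_irrCenter_iff_commutator] at h1
  rw [Subgroup.mem_center_iff]
  intro g
  have h2 := h1 g
  rw [Cfsg.Agent.Lib.Helper77.mem_irrKer] at h2
  have h3 := faith _ h2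
  exact (commutatorElement_eq_one_iff_mul_comm.mp h3).symm

/-- Under the hypotheses, every abelian normal subgroup is central. -/
theorem abelian_normal_le_center {χ : G → ℂ} {k : ℕ} (H : Hyp χ k) (B : Subgroup G)
    [hB : B.Normal] (hab : ∀ x ∈ B, ∀ y ∈ B, x * y = y * x) : B ≤ Subgroup.center G := by
  classical
  have hcomm : IsMulCommutative ↥B := ⟨⟨fun x y => Subtype.ext (hab x x.2 y y.2)⟩⟩
  obtain ⟨θ, hθ⟩ := exists_constituent_res B H.irr
  set T := inertia B (θ : B → ℂ) with hT
  have hBT : B ≤ T := le_inertia B (isClassFunction_irr θ)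
  obtain ⟨η, hη, hind, -⟩ :=
    exists_indFun_eq_of_over B T hBT θ.2 (fun g => Iff.rfl) H.irr hθ
  have htop : T = ⊤ := by
    by_contra hne
    let π : G → ℂ := indFun T (fun _ : T => (1 : ℂ))
    have hπcf : IsClassFunction G π := isClassFunction_indFun T (fun _ : T => (1 : ℂ))
    have hex : ∃ ξ : IrrCharacter G, (ξ : G → ℂ) ≠ (fun _ => 1) ∧
        classInner π (ξ : G → ℂ) ≠ 0 := by
      by_contra hno
      push Not at hno
      have hexp := classFunction_eq_sum_irr hπcf
      rw [Finset.sum_eq_single (⟨_, isIrrCharacter_one⟩ : IrrCharacter G)] at hexp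
      · have h1 := congrFun hexp 1
        have hin : classInner π (fun _ : G => (1 : ℂ)) = 1 := by
          have := frobenius_reciprocity T (fun _ : T => (1 : ℂ))
            (isClassFunction_irr (⟨_, isIrrCharacter_one⟩ : IrrCharacter G))
          rw [this]
          exact classInner_irr_self isIrrCharacter_one
        simp only [Pi.smul_apply, smul_eq_mul, mul_one] at h1
        rw [hin] at h1
        have h2 : π 1 = (T.index : ℂ) * 1 := indFun_one T (fun _ : T => (1 : ℂ))
        rw [h1, mul_one] at h2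
        have h3 : T.index = 1 := by exact_mod_cast h2.symm
        exact hne (Subgroup.index_eq_one.mp h3)
      · intro ξ _ hξne
        by_cases hξ1 : (ξ : G → ℂ) = fun _ => 1
        · exact absurd (Subtype.ext hξ1) hξne
        · rw [hno ξ hξ1, zero_smul]
      · intro h; exact absurd (Finset.mem_univ _) h
    obtain ⟨ξ, hξne, hξπ⟩ := hex
    have hres : classInner (fun t : T => (ξ : G → ℂ) t) (fun _ : T => (1 : ℂ)) ≠ 0 := by
      have h := frobenius_reciprocity T (fun _ : T => (1 : ℂ)) (isClassFunction_irr ξ)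
      rw [h] at hξπ
      intro h0
      apply hξπ
      rw [← classInner_conj_symm, h0, map_zero]
    have h1 := classInner_dlt_ne_zero_of_induced T (IsIrrCharacter.isCharacter hη) H.irr hind
      (IsIrrCharacter.isCharacter ξ.2) hres
    have h2 : classInner (dlt χ) (powFun k (ξ : G → ℂ)) ≠ 0 := by
      apply classInner_dlt_ne_zero_of_induced T (IsIrrCharacter.isCharacter hη) H.irr hind
        (isCharacter_powFun H.cop (IsIrrCharacter.isCharacter ξ.2))
      rw [res_powFun, ← powFun_one_fun (G := T) k,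
        classInner_powFun_powFun k (coprime_card_subgroup T H.cop)]
      exact hres
    exact no_common' H ξ.2 hξne h1 h2
  have hinv : ∀ (g : G) (n : B),
      (θ : B → ℂ) ⟨g * n * g⁻¹, hB.conj_mem (n : G) n.2 g⟩ = (θ : B → ℂ) n := by
    intro g n
    have hg : g ∈ T := htop ▸ Subgroup.mem_top g
    exact congrFun ((mem_inertia B).mp hg) n
  have hres := Cfsg.Agent.Lib.Helper15.res_eq_smul_of_invariant B H.irr θ.2 hinv hθ
  intro b hb
  apply mem_center_of_norm_eq H.irr H.faith
  have e1 := congrFun hres ⟨b, hb⟩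
  have e2 := congrFun hres ⟨1, B.one_mem⟩
  simp only [Pi.smul_apply, smul_eq_mul] at e1 e2
  rw [e1, e2, norm_mul, norm_mul, IsIrrCharacter.norm_eq_one_of_comm θ.2,
    IsIrrCharacter.norm_eq_one_of_comm θ.2]

end Core

section ClassTwo

variable {G : Type u} [Group G]

/-- `g⁻¹ a⁻¹ g a` -/
def comA (a g : G) : G := g⁻¹ * a⁻¹ * g * a

theorem comA_one (a : G) : comA a 1 = 1 := by simp [comA]

theorem comA_mul (a g h : G) (hz : ∀ x : G, x * comA a g = comA a g * x) :
    comA a (g * h) = comA a g * comA a h := by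
  have h1 := hz h⁻¹
  unfold comA at *
  calc (g * h)⁻¹ * a⁻¹ * (g * h) * a
      = h⁻¹ * (g⁻¹ * a⁻¹ * g * a) * (a⁻¹ * h * a) := by group
    _ = (g⁻¹ * a⁻¹ * g * a) * h⁻¹ * (a⁻¹ * h * a) := by rw [h1]
    _ = g⁻¹ * a⁻¹ * g * a * (h⁻¹ * a⁻¹ * h * a) := by group

theorem comA_inv (a g : G) (hz : ∀ x : G, x * comA a g = comA a g * x) :
    comA a g⁻¹ = (comA a g)⁻¹ := by
  have h := comA_mul a g g⁻¹ hz
  rw [mul_inv_cancel, comA_one] at h
  exact eq_inv_of_mul_eq_one_right h.symm

theorem comA_eq_one_iff (a g : G) : comA a g = 1 ↔ a * g = g * a := by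
  unfold comA
  constructor
  · intro h
    have : g * a = a * g * (g⁻¹ * a⁻¹ * g * a) := by group
    rw [this, h, mul_one]
  · intro h
    have : g⁻¹ * a⁻¹ * g * a = g⁻¹ * a⁻¹ * (g * a) := by group
    rw [this, ← h]
    group

/-- the centralizer of `a` modulo the centre -/
def subT (a : G) : Subgroup G where
  carrier := {g | comA a g ∈ Subgroup.center G}
  one_mem' := by
    change comA a 1 ∈ Subgroup.center G
    rw [comA_one]; exact one_mem _
  mul_mem' := by
    intro g h hg hh
    change comA a g ∈ Subgroup.center G at hg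
    change comA a h ∈ Subgroup.center G at hh
    change comA a (g * h) ∈ Subgroup.center G
    rw [comA_mul a g h (fun x => Subgroup.mem_center_iff.mp hg x)]
    exact mul_mem hg hh
  inv_mem' := by
    intro g hg
    change comA a g ∈ Subgroup.center G at hg
    change comA a g⁻¹ ∈ Subgroup.center G
    rw [comA_inv a g (fun x => Subgroup.mem_center_iff.mp hg x)]
    exact inv_mem hg

theorem mem_subT (a g : G) : g ∈ subT a ↔ comA a g ∈ Subgroup.center G := Iff.rfl

/-- conjugating the argument -/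
theorem comA_conj (a g n : G) :
    comA a (g * n * g⁻¹) = g * comA (g⁻¹ * a * g) n * g⁻¹ := by
  unfold comA
  group

end ClassTwo

section ClassTwoMain

variable {G : Type u} [Group G] [Fintype G]

/-- positivity of a restricted inner product -/
theorem classInner_res_dlt_ne_zero (T : Subgroup G) [Fintype T] {χ : G → ℂ}
    (hχ1 : χ 1 ≠ 0) (μ : T → ℂ) (hμ : ∀ t : T, χ t = 0 ∨ μ t = 1) :
    classInner (fun t : T => dlt χ t) μ ≠ 0 := by
  unfold classInner
  apply mul_ne_zero
  · apply inv_ne_zero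
    exact_mod_cast (Nat.card_pos (α := T)).ne'
  · have h1 : ∀ t : T, dlt χ t * conj (μ t) = ((Complex.normSq (χ t) : ℝ) : ℂ) := by
      intro t
      rcases hμ t with h | h
      · simp [dlt, h]
      · rw [h, map_one, mul_one]
        simp only [dlt]
        rw [Complex.mul_conj]
    rw [Finset.sum_congr rfl (fun t _ => h1 t), ← Complex.ofReal_sum]
    have hpos : 0 < ∑ t : T, Complex.normSq (χ t) := by
      apply Finset.sum_pos' (fun t _ => Complex.normSq_nonneg _)
      exact ⟨1, Finset.mem_univ _, by simpa using Complex.normSq_pos.mpr hχ1⟩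
    exact_mod_cast hpos.ne'

/-- The class-two configuration is impossible. -/
theorem class_two_false {χ : G → ℂ} {k : ℕ} (H : Hyp χ k) (N : Subgroup G) [hN : N.Normal]
    {a : G} (haN : a ∈ N)
    (h1 : ∀ n ∈ N, comA a n ∈ Subgroup.center G)
    (h2 : ∀ x ∈ N, (∀ n ∈ N, x * n = n * x) → x ∈ Subgroup.center G)
    (hac : a ∉ Subgroup.center G) : False := by
  classical
  let X : IrrCharacter G := ⟨χ, H.irr⟩
  have hχc := IsIrrCharacter.isCharacter H.irr
  have hχ1 : χ 1 ≠ 0 := IsIrrCharacter.apply_one_ne_zero H.irr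
  have hZ : ∀ z : G, z ∈ Subgroup.center G → z ∈ Cfsg.Agent.Lib.Helper77.irrCenter X := by
    intro z hz
    rw [Cfsg.Agent.Lib.Helper77.mem_irrCenter_iff_commutator]
    intro h
    have : ⁅z, h⁆ = 1 :=
      commutatorElement_eq_one_iff_mul_comm.mpr (Subgroup.mem_center_iff.mp hz h).symm
    rw [this]
    exact one_mem _
  let ν := Cfsg.Agent.Lib.Helper77.irrCenterScalar X
  have hν1 : ∀ z : Cfsg.Agent.Lib.Helper77.irrCenter X, ν z = 1 → (z : G) = 1 := by
    intro z hz
    have hz' : χ (z : G) / χ 1 = 1 := by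
      rw [← hz]
      exact (Cfsg.Agent.Lib.Helper77.irrCenterScalar_apply X z).symm
    apply H.faith
    exact (div_eq_one_iff_eq hχ1).mp hz'
  let T := subT a
  have hNT : N ≤ T := fun n hn => h1 n hn
  let lam0 : T →* ℂ :=
    { toFun := fun t => ν ⟨comA a t, hZ _ t.2⟩
      map_one' := by
        have : (⟨comA a ((1 : T) : G), hZ _ (1 : T).2⟩ :
            Cfsg.Agent.Lib.Helper77.irrCenter X) = 1 := by
          apply Subtype.ext
          simp [comA_one]
        rw [this, map_one]
      map_mul' := by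
        intro t s
        have : (⟨comA a ((t * s : T) : G), hZ _ (t * s).2⟩ :
            Cfsg.Agent.Lib.Helper77.irrCenter X) =
            ⟨comA a t, hZ _ t.2⟩ * ⟨comA a s, hZ _ s.2⟩ := by
          apply Subtype.ext
          simp only [Subgroup.coe_mul]
          exact comA_mul a t s (fun x => Subgroup.mem_center_iff.mp t.2 x)
        rw [this, map_mul] }
  let lamU : T →* ℂˣ := lam0.toHomUnits
  let lam : T → ℂ := fun t => (lamU t : ℂ)
  have hlam_apply : ∀ t : T, lam t = ν ⟨comA a t, hZ _ t.2⟩ := fun t => rfl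
  have hlam_irr : IsIrrCharacter T lam := Cfsg.Agent.Lib.Helper80.isIrrCharacter_of_hom lamU
  have hlamχ : ∀ t : T, lam t * χ t = χ t := by
    intro t
    rw [hlam_apply, ← Cfsg.Agent.Lib.Helper77.irr_center_mul X ⟨comA a t, hZ _ t.2⟩ (t : G)]
    have hc : comA a t * (t : G) = a⁻¹ * t * a⁻¹⁻¹ := by
      rw [← Subgroup.mem_center_iff.mp t.2 (t : G)]
      unfold comA
      group
    change χ (comA a t * (t : G)) = χ t
    rw [hc]
    exact IsCharacter.conj_apply hχc (t : G) a⁻¹
  have hlam01 : ∀ t : T, χ t = 0 ∨ lam t = 1 := by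
    intro t
    by_cases h : χ (t : G) = 0
    · exact Or.inl h
    · right
      have := hlamχ t
      exact mul_right_cancel₀ h (by rw [this, one_mul])
  have hinj : ∀ t₁ t₂ : T, lam t₁ = lam t₂ → comA a t₁ = comA a t₂ := by
    intro t₁ t₂ he
    have hU : lamU t₁ = lamU t₂ := Units.ext he
    have h3 : lamU (t₁ * t₂⁻¹) = 1 := by
      rw [map_mul, map_inv, hU, mul_inv_cancel]
    have h4 : lam (t₁ * t₂⁻¹) = 1 := by
      change ((lamU (t₁ * t₂⁻¹) : ℂˣ) : ℂ) = 1
      rw [h3]; rfl
    have h5 := hν1 _ h4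
    change comA a ((t₁ * t₂⁻¹ : T) : G) = 1 at h5
    rw [Subgroup.coe_mul, Subgroup.coe_inv,
      comA_mul a t₁ _ (fun x => Subgroup.mem_center_iff.mp t₁.2 x),
      comA_inv a t₂ (fun x => Subgroup.mem_center_iff.mp t₂.2 x)] at h5
    exact mul_inv_eq_one.mp h5
  let θ : N → ℂ := resNT N T hNT lam
  have hθ_irr : IsIrrCharacter N θ :=
    Cfsg.Agent.Lib.Helper80.isIrrCharacter_of_hom (lamU.comp (Subgroup.inclusion hNT))
  have hTin : ∀ g : G, Cfsg.Agent.Lib.Helper75.conjFun N g θ = θ → g ∈ T := by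
    intro g hg
    have ha'N : g⁻¹ * a * g ∈ N := by
      have := hN.conj_mem a haN g⁻¹
      simpa using this
    have hxN : g⁻¹ * a * g * a⁻¹ ∈ N := N.mul_mem ha'N (N.inv_mem haN)
    have hxc : ∀ n ∈ N, g⁻¹ * a * g * a⁻¹ * n = n * (g⁻¹ * a * g * a⁻¹) := by
      intro n hn
      have hgn : g * n * g⁻¹ ∈ N := hN.conj_mem n hn g
      have e1 : lam ⟨g * n * g⁻¹, hNT hgn⟩ = lam ⟨n, hNT hn⟩ := congrFun hg ⟨n, hn⟩
      have e3 : comA a (g * n * g⁻¹) = comA a n := hinj _ _ e1
      have e4 : comA (g⁻¹ * a * g) n = comA a n := by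
        rw [← e3]
        have hcen : comA a (g * n * g⁻¹) ∈ Subgroup.center G := h1 _ hgn
        have e5 := comA_conj a g n
        have e6 : comA (g⁻¹ * a * g) n = g⁻¹ * comA a (g * n * g⁻¹) * g := by
          rw [e5]; group
        rw [e6, Subgroup.mem_center_iff.mp hcen g⁻¹]
        group
      have key : a⁻¹ * n * a = (g⁻¹ * a * g)⁻¹ * n * (g⁻¹ * a * g) := by
        have k1 : (g⁻¹ * a * g)⁻¹ * n * (g⁻¹ * a * g) = n * comA (g⁻¹ * a * g) n := by
          unfold comA; group
        have k2 : a⁻¹ * n * a = n * comA a n := by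
          unfold comA; group
        rw [k1, k2, e4]
      calc g⁻¹ * a * g * a⁻¹ * n = g⁻¹ * a * g * (a⁻¹ * n * a) * a⁻¹ := by group
        _ = g⁻¹ * a * g * ((g⁻¹ * a * g)⁻¹ * n * (g⁻¹ * a * g)) * a⁻¹ := by rw [key]
        _ = n * (g⁻¹ * a * g * a⁻¹) := by group
    have hxcen : g⁻¹ * a * g * a⁻¹ ∈ Subgroup.center G := h2 _ hxN hxc
    have hxi : (g⁻¹ * a * g * a⁻¹)⁻¹ ∈ Subgroup.center G := inv_mem hxcen
    change comA a g ∈ Subgroup.center G
    have e7 : comA a g = a⁻¹ * (g⁻¹ * a * g * a⁻¹)⁻¹ * a := by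
      unfold comA; group
    rw [e7, Subgroup.mem_center_iff.mp hxi a⁻¹, mul_assoc, inv_mul_cancel, mul_one]
    exact hxi
  have hover : classInner (resNT N T hNT lam) θ ≠ 0 := by
    change classInner θ θ ≠ 0
    rw [classInner_irr_self hθ_irr]
    exact one_ne_zero
  have hξ_irr : IsIrrCharacter G (indFun T lam) :=
    Cfsg.Agent.Lib.Helper76.isIrrCharacter_indFun_of_over' N T hNT hθ_irr hTin hlam_irr hover
  have hξne : indFun T lam ≠ fun _ : G => (1 : ℂ) := by
    intro heq
    have e1 : classInner (indFun T lam) (fun _ : G => (1 : ℂ)) =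
        classInner lam (fun _ : T => (1 : ℂ)) :=
      frobenius_reciprocity T lam
        (IsCharacter.isClassFunction (IsIrrCharacter.isCharacter isIrrCharacter_one))
    rw [heq, classInner_irr_self isIrrCharacter_one] at e1
    have hne : lam ≠ fun _ : T => (1 : ℂ) := by
      intro hl
      apply hac
      apply h2 a haN
      intro n hn
      have h3 : lam ⟨n, hNT hn⟩ = 1 := congrFun hl ⟨n, hNT hn⟩
      have h4 := hν1 _ h3
      exact (comA_eq_one_iff a n).mp h4
    rw [classInner_irr_ne hlam_irr isIrrCharacter_one hne] at e1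
    exact one_ne_zero e1
  have hΔcf : IsClassFunction G (dlt χ) := IsCharacter.isClassFunction (isCharacter_dlt hχc)
  have c1 : classInner (dlt χ) (indFun T lam) ≠ 0 := by
    rw [frobenius_reciprocity' T lam hΔcf]
    exact classInner_res_dlt_ne_zero T hχ1 lam hlam01
  have c2 : classInner (dlt χ) (powFun k (indFun T lam)) ≠ 0 := by
    rw [indFun_powFun T lam H.cop, frobenius_reciprocity' T (powFun k lam) hΔcf]
    apply classInner_res_dlt_ne_zero T hχ1
    intro t
    rcases hlam01 t with h | h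
    · exact Or.inl h
    · right
      rw [powFun_apply]
      change ((lamU (t ^ k) : ℂˣ) : ℂ) = 1
      have hU : lamU t = 1 := Units.ext h
      rw [map_pow, hU, one_pow]
      rfl
  exact no_common' H hξ_irr hξne c1 c2

end ClassTwoMain

section Final

variable {G : Type u} [Group G] [Fintype G]

theorem card_commutator_lt (N : Subgroup G) (hnil : Group.IsNilpotent N) (hne : N ≠ ⊥) :
    Nat.card ↥(⁅N, N⁆ : Subgroup G) < Nat.card N := by
  by_contra hlt
  push Not at hlt
  have hle : ⁅N, N⁆ ≤ N := by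
    rw [← Subgroup.map_subtype_commutator]
    exact Subgroup.map_subtype_le _
  have heq : ⁅N, N⁆ = N := Subgroup.eq_of_le_of_card_ge hle hlt
  have htop : _root_.commutator N = ⊤ := by
    apply Subgroup.map_injective N.subtype_injective
    rw [Subgroup.map_subtype_commutator, heq, ← MonoidHom.range_eq_map, Subgroup.range_subtype]
  have hnt : Nontrivial N := (Subgroup.nontrivial_iff_ne_bot N).mpr hne
  have h := Group.IsSolvable.commutator_lt_top_of_nontrivial (G := N)
  rw [htop] at h
  exact lt_irrefl _ h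

/-- Under the hypotheses, every nilpotent normal subgroup is central. -/
theorem nilpotent_normal_le_center {χ : G → ℂ} {k : ℕ} (H : Hyp χ k) :
    ∀ (n : ℕ) (N : Subgroup G), N.Normal → Group.IsNilpotent N → Nat.card N = n →
      N ≤ Subgroup.center G := by
  intro n
  induction n using Nat.strong_induction_on with
  | _ n ih =>
    intro N hN hnil hcard
    by_cases hab : ∀ x ∈ N, ∀ y ∈ N, x * y = y * x
    · exact abelian_normal_le_center H N hab
    · exfalso
      push Not at hab
      obtain ⟨x, hx, y, hy, hxy⟩ := hab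
      have hNne : N ≠ ⊥ := by
        intro h
        rw [h, Subgroup.mem_bot] at hx hy
        exact hxy (by rw [hx, hy])
      have hMn : (⁅N, N⁆ : Subgroup G).Normal := Subgroup.commutator_normal N N
      have hMle : ⁅N, N⁆ ≤ N := Subgroup.commutator_le_left N N
      have hMnil : Group.IsNilpotent ↥(⁅N, N⁆ : Subgroup G) := by
        have h1 : Group.IsNilpotent ↥((⁅N, N⁆ : Subgroup G).subgroupOf N) := inferInstance
        exact Group.nilpotent_of_mulEquiv (Subgroup.subgroupOfEquivOfLe hMle)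
      have hMlt : Nat.card ↥(⁅N, N⁆ : Subgroup G) < n := hcard ▸ card_commutator_lt N hnil hNne
      have hMc : ⁅N, N⁆ ≤ Subgroup.center G := ih _ hMlt _ hMn hMnil rfl
      have hZN : N ⊓ Subgroup.centralizer (N : Set G) ≤ Subgroup.center G := by
        have hcn : (Subgroup.centralizer (N : Set G)).Normal := Subgroup.normal_centralizer
        have hn : (N ⊓ Subgroup.centralizer (N : Set G)).Normal := inferInstance
        apply abelian_normal_le_center H
        intro u hu v hv
        have hv2 := (Subgroup.mem_inf.mp hv).2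
        rw [Subgroup.mem_centralizer_iff] at hv2
        exact hv2 u (Subgroup.mem_inf.mp hu).1
      apply class_two_false H N hx (a := x)
      · intro m hm
        apply hMc
        have e : comA x m = ⁅m⁻¹, x⁻¹⁆ := by
          unfold comA
          rw [commutatorElement_def]
          group
        rw [e]
        exact Subgroup.commutator_mem_commutator (N.inv_mem hm) (N.inv_mem hx)
      · intro u hu hun
        apply hZN
        refine Subgroup.mem_inf.mpr ⟨hu, ?_⟩
        rw [Subgroup.mem_centralizer_iff]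
        intro m hm
        exact (hun m hm).symm
      · intro hxc
        exact hxy (Subgroup.mem_center_iff.mp hxc y).symm

/-- **Main theorem**: `F(G) = Z(G)`. -/
theorem fitting_eq_center {χ : G → ℂ} {k : ℕ} (H : Hyp χ k) :
    Cfsg.fittingSubgroup G = Subgroup.center G := by
  apply le_antisymm
  · apply sSup_le
    rintro N ⟨hN, hnil⟩
    exact nilpotent_normal_le_center H _ N hN hnil rfl
  · apply le_sSup
    refine ⟨inferInstance, ?_⟩
    open scoped IsMulCommutative in
    infer_instance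

end Final

end Cfsg.Agent.Lib.Helper80GP
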