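import Mathlib
import Cfsg.Prelude.Def_GeometricClasses
import Cfsg.Agent.Lib.Helper99.AschDefs
import Cfsg.Agent.Lib.Helper66.AschSS
import Cfsg.Agent.Lib.Helper80.AschIso
import Cfsg.Agent.Lib.Helper23.AschSpDefs

/-!
PROJECT ASCHSP (helper23, S5662), module ASCHSP-[PAIR]: `isotypic_or_paired_decomposition`.

Generic part (`Cfsg.Agent.Lib.Helper80.AschPair`, any field, any finite-dimensional `V`, any subalgebra
`A` of `End V` closed under adjoints for a bilinear form `B`):
* `kernels_of_simple`, `exists_repr`, `nonempty_equiv_of_paired` (simple submodules paired nontrivially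
  with isomorphic simple submodules are isomorphic), `component_unique`,
* `generic_main_comp` (`AschIso.generic_main` with the isotypic components exposed), `generic_pair`.
Matrix part: `bilinOf`, `adjClosed_endAlg`, `isotypic_or_paired_of` (any finite index type, [SS] as a
hypothesis).
-/

set_option autoImplicit false

namespace Cfsg.Agent.Lib.Helper80.AschPair

open Cfsg.Agent.Lib.Helper80.AschIso

section Generic
variable {F V : Type*} [Field F] [AddCommGroup V] [Module F V]
variable {A : Subalgebra F (Module.End F V)}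

/-- `A` is closed under left and right adjoints for the bilinear form `B` -/
def AdjClosed (A : Subalgebra F (Module.End F V)) (B : LinearMap.BilinForm F V) : Prop :=
  (∀ a ∈ A, ∃ a' ∈ A, ∀ u v, B (a u) v = B u (a' v)) ∧
    (∀ a ∈ A, ∃ a' ∈ A, ∀ u v, B u (a v) = B (a' u) v)

variable {B : LinearMap.BilinForm F V}

/-- for simple submodules that are not orthogonal the left and right kernels of the pairing vanish -/
theorem kernels_of_simple (hadj : AdjClosed A B) {T S : Submodule A V}
    [IsSimpleModule A T] [IsSimpleModule A S] (hTS : ∃ t ∈ T, ∃ s ∈ S, B t s ≠ 0) :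
    (∀ t ∈ T, (∀ s ∈ S, B t s = 0) → t = 0) ∧ (∀ s ∈ S, (∀ t ∈ T, B t s = 0) → s = 0) := by
  obtain ⟨hadjR, hadjL⟩ := hadj
  obtain ⟨t₀, ht₀, s₀, hs₀, hne⟩ := hTS
  constructor
  · let KL : Submodule A T :=
      { carrier := {t | ∀ s ∈ S, B (t : V) s = 0}
        add_mem' := by
          intro a b ha hb s hs
          have h1 : B (a : V) s = 0 := ha s hs
          have h2 : B (b : V) s = 0 := hb s hs
          simp [h1, h2]
        zero_mem' := by intro s hs; simp
        smul_mem' := by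
          intro a t ht s hs
          obtain ⟨a', ha', h⟩ := hadjR a a.2
          have h1 : ((a • t : T) : V) = (a : Module.End F V) (t : V) := rfl
          rw [h1, h]
          exact ht _ (S.smul_mem ⟨a', ha'⟩ hs) }
    have hKL : KL = ⊥ := by
      have := (inferInstance : IsSimpleModule A T).toIsSimpleOrder
      rcases eq_bot_or_eq_top KL with h | h
      · exact h
      · exfalso
        have hmem : (⟨t₀, ht₀⟩ : T) ∈ KL := by rw [h]; trivial
        exact hne (hmem s₀ hs₀)
    intro t ht h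
    have hmem : (⟨t, ht⟩ : T) ∈ KL := h
    rw [hKL] at hmem
    exact congrArg Subtype.val ((Submodule.mem_bot A).mp hmem)
  · let KR : Submodule A S :=
      { carrier := {s | ∀ t ∈ T, B t (s : V) = 0}
        add_mem' := by
          intro a b ha hb t ht
          have h1 : B t (a : V) = 0 := ha t ht
          have h2 : B t (b : V) = 0 := hb t ht
          simp [h1, h2]
        zero_mem' := by intro t ht; simp
        smul_mem' := by
          intro a s hs t ht
          obtain ⟨a', ha', h⟩ := hadjL a a.2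
          have h1 : ((a • s : S) : V) = (a : Module.End F V) (s : V) := rfl
          rw [h1, h]
          exact hs _ (T.smul_mem ⟨a', ha'⟩ ht) }
    have hKR : KR = ⊥ := by
      have := (inferInstance : IsSimpleModule A S).toIsSimpleOrder
      rcases eq_bot_or_eq_top KR with h | h
      · exact h
      · exfalso
        have hmem : (⟨s₀, hs₀⟩ : S) ∈ KR := by rw [h]; trivial
        exact hne (hmem t₀ ht₀)
    intro s hs h
    have hmem : (⟨s, hs⟩ : S) ∈ KR := h
    rw [hKR] at hmem
    exact congrArg Subtype.val ((Submodule.mem_bot A).mp hmem)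

/-- representation of functionals by a pairing with trivial kernels -/
theorem exists_repr [FiniteDimensional F V] (X Y : Submodule F V)
    (hL : ∀ t ∈ X, (∀ s ∈ Y, B t s = 0) → t = 0) (hR : ∀ s ∈ Y, (∀ t ∈ X, B t s = 0) → s = 0)
    (l : Module.Dual F X) : ∃ s ∈ Y, ∀ (t : V) (ht : t ∈ X), B t s = l ⟨t, ht⟩ := by
  let p : X →ₗ[F] Y →ₗ[F] F := B.domRestrict₁₂ X Y
  have hp : ∀ x y, p x y = B (x : V) (y : V) := fun x y => rfl
  have hpinj : Function.Injective p := by
    rw [injective_iff_map_eq_zero]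
    intro x hx
    apply Subtype.ext
    apply hL x.1 x.2
    intro s hs
    have := congrArg (fun g => g ⟨s, hs⟩) hx
    simpa [hp] using this
  have hpfinj : Function.Injective p.flip := by
    rw [injective_iff_map_eq_zero]
    intro y hy
    apply Subtype.ext
    apply hR y.1 y.2
    intro t ht
    have := congrArg (fun g => g ⟨t, ht⟩) hy
    simpa [hp] using this
  haveI hPP : p.IsPerfPair := LinearMap.IsPerfPair.of_injective hpinj hpfinj
  refine ⟨(p.flip.toPerfPair.symm l : Y), (p.flip.toPerfPair.symm l).2, ?_⟩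
  intro t ht
  have h1 : p.flip (p.flip.toPerfPair.symm l) = l := p.flip.apply_symm_toPerfPair_self l
  have h2 : p.flip (p.flip.toPerfPair.symm l) ⟨t, ht⟩ = l ⟨t, ht⟩ := by rw [h1]
  exact h2

/-- KEY: simple submodules paired nontrivially with isomorphic simple submodules are isomorphic -/
theorem nonempty_equiv_of_paired [FiniteDimensional F V] (hadj : AdjClosed A B)
    {T T' S S' : Submodule A V}
    [IsSimpleModule A T] [IsSimpleModule A T'] [IsSimpleModule A S] [IsSimpleModule A S']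
    (ψ : T ≃ₗ[A] T') (hTS : ∃ t ∈ T, ∃ s ∈ S, B t s ≠ 0) (hTS' : ∃ t ∈ T', ∃ s ∈ S', B t s ≠ 0) :
    Nonempty (S ≃ₗ[A] S') := by
  classical
  obtain ⟨hL, hR⟩ := kernels_of_simple hadj hTS'
  obtain ⟨hadjR, hadjL⟩ := hadj
  have hψF : ∀ (c : F) (t : T'), ψ.symm (c • t) = c • ψ.symm t := by
    intro c t
    rw [← algebraMap_smul A c t, map_smul, algebraMap_smul]
  have hex : ∀ s : S, ∃ s' : S', ∀ t : T, B ((ψ t : T') : V) (s' : V) = B (t : V) (s : V) := by
    intro s
    let l : Module.Dual F (T'.restrictScalars F) :=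
      { toFun := fun x => B ((ψ.symm ⟨x.1, x.2⟩ : T) : V) (s : V)
        map_add' := by
          intro x y
          have : (⟨(x + y).1, (x + y).2⟩ : T') = ⟨x.1, x.2⟩ + ⟨y.1, y.2⟩ := rfl
          rw [this, map_add]; simp
        map_smul' := by
          intro c x
          have : (⟨(c • x).1, (c • x).2⟩ : T') = c • (⟨x.1, x.2⟩ : T') := rfl
          rw [this, hψF]; simp }
    obtain ⟨s', hs', h⟩ := exists_repr (B := B) (T'.restrictScalars F) (S'.restrictScalars F) hL hR l
    refine ⟨⟨s', hs'⟩, ?_⟩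
    intro t
    have := h (ψ t).1 (ψ t).2
    rw [this]
    show B ((ψ.symm ⟨(ψ t).1, (ψ t).2⟩ : T) : V) (s : V) = _
    simp
  choose φ hφ using hex
  have huniq : ∀ x y : S',
      (∀ t : T, B ((ψ t : T') : V) (x : V) = B ((ψ t : T') : V) (y : V)) → x = y := by
    intro x y h
    have h0 : ((x - y : S') : V) = 0 := by
      apply hR _ (x - y).2
      intro t' ht'
      have := h (ψ.symm ⟨t', ht'⟩)
      rw [LinearEquiv.apply_symm_apply] at this
      simp [this]
    have : x - y = 0 := Subtype.ext h0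
    exact sub_eq_zero.mp this
  let φA : S →ₗ[A] S' :=
    { toFun := φ
      map_add' := by
        intro x y
        apply huniq
        intro t
        rw [hφ]
        simp [hφ]
      map_smul' := by
        intro a s
        apply huniq
        intro t
        obtain ⟨a', ha', h⟩ := hadjL a a.2
        rw [hφ]
        have h1 : ((a • s : S) : V) = (a : Module.End F V) (s : V) := rfl
        have h2 : (((RingHom.id A) a • φ s : S') : V) = (a : Module.End F V) (φ s : V) := rfl
        rw [h1, h2, h, h]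
        have h3 := hφ s ((⟨a', ha'⟩ : A) • t)
        rw [map_smul] at h3
        exact h3.symm }
  have hne : φA ≠ 0 := by
    obtain ⟨t, ht, s, hs, hne⟩ := hTS
    intro h0
    have h1 := hφ ⟨s, hs⟩ ⟨t, ht⟩
    have h2 : φ ⟨s, hs⟩ = 0 := LinearMap.congr_fun h0 ⟨s, hs⟩
    rw [h2] at h1
    simp at h1
    exact hne h1.symm
  have hbij : Function.Bijective φA := LinearMap.bijective_of_ne_zero (R := A) (M := S) (N := S') (f := φA) hne
  exact ⟨LinearEquiv.ofBijective φA hbij⟩

/-- non-orthogonal isotypic components contain non-orthogonal simple submodules -/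
theorem exists_simple_of_not_orth (m m' : Submodule A V) {u v : V}
    (hu : u ∈ isotypicComponent A V m) (hv : v ∈ isotypicComponent A V m') (h : B u v ≠ 0) :
    ∃ T S : Submodule A V, Nonempty (T ≃ₗ[A] m) ∧ Nonempty (S ≃ₗ[A] m') ∧
      ∃ t ∈ T, ∃ s ∈ S, B t s ≠ 0 := by
  by_contra hcon
  push Not at hcon
  apply h
  rw [isotypicComponent, sSup_eq_iSup'] at hu hv
  refine Submodule.iSup_induction _ (motive := fun x => B x v = 0) hu ?_ (by simp)
    (by intro x y hx hy; simp [hx, hy])
  intro T x hx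
  refine Submodule.iSup_induction _ (motive := fun y => B x y = 0) hv ?_ (by simp)
    (by intro a b ha hb; simp [ha, hb])
  intro S y hy
  exact hcon T.1 S.1 T.2 S.2 x hx y hy

/-- an isotypic component is non-orthogonal to at most one isotypic component -/
theorem component_unique [FiniteDimensional F V] (hadj : AdjClosed A B) {c c₁ c₂ : Submodule A V}
    (hc : c ∈ isotypicComponents A V) (hc₁ : c₁ ∈ isotypicComponents A V)
    (hc₂ : c₂ ∈ isotypicComponents A V)
    (h₁ : ∃ u ∈ c, ∃ v ∈ c₁, B u v ≠ 0) (h₂ : ∃ u ∈ c, ∃ v ∈ c₂, B u v ≠ 0) : c₁ = c₂ := by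
  obtain ⟨m, hm, rfl⟩ := hc
  obtain ⟨m₁, hm₁, rfl⟩ := hc₁
  obtain ⟨m₂, hm₂, rfl⟩ := hc₂
  obtain ⟨u, hu, v, hv, huv⟩ := h₁
  obtain ⟨u', hu', v', hv', huv'⟩ := h₂
  obtain ⟨T, S, ⟨eT⟩, ⟨eS⟩, hTS⟩ := exists_simple_of_not_orth m m₁ hu hv huv
  obtain ⟨T', S', ⟨eT'⟩, ⟨eS'⟩, hTS'⟩ := exists_simple_of_not_orth m m₂ hu' hv' huv'
  haveI : IsSimpleModule A T := IsSimpleModule.congr (R := A) (M := T) (N := m) eT
  haveI : IsSimpleModule A T' := IsSimpleModule.congr (R := A) (M := T') (N := m) eT'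
  haveI : IsSimpleModule A S := IsSimpleModule.congr (R := A) (M := S) (N := m₁) eS
  haveI : IsSimpleModule A S' := IsSimpleModule.congr (R := A) (M := S') (N := m₂) eS'
  obtain ⟨e⟩ := nonempty_equiv_of_paired hadj (eT.trans eT'.symm) hTS hTS'
  exact (eS.symm.trans (e.trans eS')).isotypicComponent_eq

/-- `generic_main` of `AschIso`, with the isotypic components exposed -/
theorem generic_main_comp [FiniteDimensional F V] (𝓗 : Set (V ≃ₗ[F] V))
    (hrefl : LinearEquiv.refl F V ∈ 𝓗)
    (hsymm : ∀ φ ∈ 𝓗, φ.symm ∈ 𝓗) (htrans : ∀ φ ∈ 𝓗, ∀ ψ ∈ 𝓗, φ.trans ψ ∈ 𝓗)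
    (hnorm : ∀ φ ∈ 𝓗, NormA A φ)
    (hirr : ∀ W : Submodule F V, (∀ φ ∈ 𝓗, W.map (φ : V →ₗ[F] V) ≤ W) → W = ⊥ ∨ W = ⊤)
    [IsSemisimpleModule A V] :
    IsIsotypic A V ∨
    ∃ (t : ℕ) (c : Fin t → Submodule A V), 2 ≤ t ∧ (∀ i, c i ∈ isotypicComponents A V) ∧
      Function.Injective c ∧
      iSupIndep (fun i => (c i).restrictScalars F) ∧ (⨆ i, (c i).restrictScalars F) = ⊤ ∧
      (∀ φ ∈ 𝓗, ∃ σ : Equiv.Perm (Fin t), ∀ i,
        ((c i).restrictScalars F).map (φ : V →ₗ[F] V) = (c (σ i)).restrictScalars F) ∧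
      (∀ i j, ∃ φ ∈ 𝓗, ((c i).restrictScalars F).map (φ : V →ₗ[F] V) = (c j).restrictScalars F) := by
  classical
  have hnoeth : IsNoetherian A V := isNoetherian_of_tower F inferInstance
  have hfin : Finite (isotypicComponents A V) := inferInstance
  by_cases hcard : Nat.card (isotypicComponents A V) ≤ 1
  · left
    exact isIsotypic_of_subsingleton (Finite.card_le_one_iff_subsingleton.mp hcard)
  · right
    let e : isotypicComponents A V ≃ Fin (Nat.card (isotypicComponents A V)) := Finite.equivFin _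
    have hc : ∀ i, ((e.symm i : isotypicComponents A V) : Submodule A V) ∈ isotypicComponents A V :=
      fun i => (e.symm i).2
    have hsymmN : ∀ φ ∈ 𝓗, NormA A φ.symm := fun φ hφ => hnorm _ (hsymm φ hφ)
    have hnorm' : ∀ φ ∈ 𝓗, NormA A φ.symm.symm := fun φ hφ => by
      rw [LinearEquiv.symm_symm]; exact hnorm φ hφ
    let act : ∀ φ ∈ 𝓗, isotypicComponents A V → isotypicComponents A V := fun φ hφ c =>
      ⟨pull φ.symm (hsymmN φ hφ) c,
        pull_mem_isotypicComponents φ.symm (hsymmN φ hφ) (hnorm' φ hφ) c.2⟩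
    have hact_inj : ∀ φ (hφ : φ ∈ 𝓗), Function.Injective (act φ hφ) := by
      intro φ hφ c c' hcc
      have h1 : pull φ.symm (hsymmN φ hφ) c = pull φ.symm (hsymmN φ hφ) c' :=
        congrArg Subtype.val hcc
      exact Subtype.ext ((pullIso φ.symm (hsymmN φ hφ) (hnorm' φ hφ)).injective h1)
    refine ⟨Nat.card (isotypicComponents A V),
      fun i => ((e.symm i : isotypicComponents A V) : Submodule A V),
      by omega, hc, ?_, ?_, ?_, ?_, ?_⟩
    · intro i j hij
      exact e.symm.injective (Subtype.ext hij)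
    · apply iSupIndep_restrictScalars
      have h1 := (sSupIndep_iff _).mp (sSupIndep_isotypicComponents A V)
      exact h1.comp e.symm.injective
    · rw [← Submodule.restrictScalars_iSup, Submodule.restrictScalars_eq_top_iff]
      rw [Equiv.iSup_comp (g := fun x : isotypicComponents A V => (x : Submodule A V)) e.symm,
        ← sSup_eq_iSup', sSup_isotypicComponents]
    · intro φ hφ
      have hb : Function.Bijective (act φ hφ) := Finite.injective_iff_bijective.mp (hact_inj φ hφ)
      refine ⟨(e.symm.trans (Equiv.ofBijective _ hb)).trans e, ?_⟩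
      intro i
      rw [map_eq_pull φ (hsymmN φ hφ)]
      simp only [Equiv.trans_apply, Equiv.ofBijective_apply, Equiv.symm_apply_apply]
      rfl
    · intro i j
      by_contra hcon
      push Not at hcon
      set ci : Submodule A V := ((e.symm i : isotypicComponents A V) : Submodule A V) with hci
      set cj : Submodule A V := ((e.symm j : isotypicComponents A V) : Submodule A V) with hcj
      let U : Submodule F V := ⨆ φ : 𝓗, (ci.restrictScalars F).map ((φ : V ≃ₗ[F] V) : V →ₗ[F] V)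
      have hUinv : ∀ ψ ∈ 𝓗, U.map (ψ : V →ₗ[F] V) ≤ U := by
        intro ψ hψ
        rw [Submodule.map_iSup]
        apply iSup_le
        intro φ
        rw [← Submodule.map_comp]
        have h1 : ((ψ : V →ₗ[F] V) ∘ₗ ((φ : V ≃ₗ[F] V) : V →ₗ[F] V)) =
            (((φ : V ≃ₗ[F] V).trans ψ : V ≃ₗ[F] V) : V →ₗ[F] V) := by
          ext v; simp
        rw [h1]
        exact le_iSup (fun φ : 𝓗 => (ci.restrictScalars F).map ((φ : V ≃ₗ[F] V) : V →ₗ[F] V))
          ⟨_, htrans _ φ.2 _ hψ⟩
      have hUne : U ≠ ⊥ := by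
        intro hU
        have h1 : ci.restrictScalars F ≤ U := by
          have := le_iSup (fun φ : 𝓗 => (ci.restrictScalars F).map ((φ : V ≃ₗ[F] V) : V →ₗ[F] V))
            ⟨_, hrefl⟩
          simpa using this
        rw [hU, le_bot_iff, Submodule.restrictScalars_eq_bot_iff] at h1
        exact (bot_lt_isotypicComponents (hc i)).ne' h1
      have hUtop : U = ⊤ := (hirr U hUinv).resolve_left hUne
      have hle : U ≤ (sSup (isotypicComponents A V \ {cj})).restrictScalars F := by
        apply iSup_le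
        intro φ
        rw [map_eq_pull _ (hsymmN φ.1 φ.2)]
        apply Submodule.restrictScalars_mono
        apply le_sSup
        refine ⟨(act φ.1 φ.2 (e.symm i)).2, ?_⟩
        intro hmem
        apply hcon φ.1 φ.2
        rw [map_eq_pull _ (hsymmN φ.1 φ.2)]
        exact congrArg (Submodule.restrictScalars F) hmem
      have hcjle : cj ≤ sSup (isotypicComponents A V \ {cj}) := by
        rw [← Submodule.restrictScalars_le (S := F)]
        refine le_trans ?_ hle
        rw [hUtop]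
        exact le_top
      have hdisj := (sSupIndep_isotypicComponents A V) (hc j)
      have := hdisj.eq_bot_of_le hcjle
      exact (bot_lt_isotypicComponents (hc j)).ne' this

/-- generic Clifford decomposition with a form: the isotypic components are paired by `B` -/
theorem generic_pair [FiniteDimensional F V] (hadj : AdjClosed A B)
    (hnd : ∀ v : V, v ≠ 0 → ∃ x, B v x ≠ 0) (hsym : ∀ u v, B u v = 0 → B v u = 0)
    (𝓗 : Set (V ≃ₗ[F] V))
    (hrefl : LinearEquiv.refl F V ∈ 𝓗)
    (hsymm : ∀ φ ∈ 𝓗, φ.symm ∈ 𝓗) (htrans : ∀ φ ∈ 𝓗, ∀ ψ ∈ 𝓗, φ.trans ψ ∈ 𝓗)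
    (hnorm : ∀ φ ∈ 𝓗, NormA A φ)
    (hirr : ∀ W : Submodule F V, (∀ φ ∈ 𝓗, W.map (φ : V →ₗ[F] V) ≤ W) → W = ⊥ ∨ W = ⊤)
    [IsSemisimpleModule A V] :
    IsIsotypic A V ∨
    ∃ (t : ℕ) (D : Fin t → Submodule F V) (τ : Equiv.Perm (Fin t)), 2 ≤ t ∧ (∀ i, D i ≠ ⊥) ∧
      iSupIndep D ∧ iSup D = ⊤ ∧
      (∀ φ ∈ 𝓗, ∃ σ : Equiv.Perm (Fin t), ∀ i, (D i).map (φ : V →ₗ[F] V) = D (σ i)) ∧
      (∀ i j, ∃ φ ∈ 𝓗, (D i).map (φ : V →ₗ[F] V) = D j) ∧
      (∀ i j, (∀ u ∈ D i, ∀ v ∈ D j, B u v = 0) ↔ j ≠ τ i) := by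
  classical
  rcases generic_main_comp (A := A) 𝓗 hrefl hsymm htrans hnorm hirr with h |
    ⟨t, c, ht, hc, hinj, hind, htop, hperm, htr⟩
  · exact Or.inl h
  right
  have hex : ∀ i, ∃ j, ∃ u ∈ c i, ∃ v ∈ c j, B u v ≠ 0 := by
    intro i
    obtain ⟨v, hv, hv0⟩ := Submodule.exists_mem_ne_zero_of_ne_bot (bot_lt_isotypicComponents (hc i)).ne'
    obtain ⟨x, hx⟩ := hnd v hv0
    by_contra hcon
    push Not at hcon
    apply hx
    have hxtop : x ∈ ⨆ i, (c i).restrictScalars F := by rw [htop]; trivial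
    refine Submodule.iSup_induction _ (motive := fun y => B v y = 0) hxtop ?_ (by simp)
      (by intro a b ha hb; simp [ha, hb])
    intro j y hy
    exact hcon j v hv y hy
  have huniq : ∀ i j k, (∃ u ∈ c i, ∃ v ∈ c j, B u v ≠ 0) → (∃ u ∈ c i, ∃ v ∈ c k, B u v ≠ 0) →
      j = k := fun i j k h1 h2 => hinj (component_unique hadj (hc i) (hc j) (hc k) h1 h2)
  have hsw : ∀ i j, (∃ u ∈ c i, ∃ v ∈ c j, B u v ≠ 0) → (∃ u ∈ c j, ∃ v ∈ c i, B u v ≠ 0) := by
    rintro i j ⟨u, hu, v, hv, h⟩
    exact ⟨v, hv, u, hu, fun h0 => h (hsym _ _ h0)⟩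
  choose τf hτf using hex
  have hinv : Function.Involutive τf := by
    intro i
    exact (huniq (τf i) i (τf (τf i)) (hsw _ _ (hτf i)) (hτf (τf i))).symm
  refine ⟨t, fun i => (c i).restrictScalars F, hinv.toPerm τf, ht, ?_, hind, htop, hperm, htr, ?_⟩
  · intro i
    rw [Ne, Submodule.restrictScalars_eq_bot_iff]
    exact (bot_lt_isotypicComponents (hc i)).ne'
  · intro i j
    constructor
    · intro h hj
      obtain ⟨u, hu, v, hv, hne⟩ := hτf i
      apply hne
      apply h u hu v
      rw [hj]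
      exact hv
    · intro hj u hu v hv
      by_contra hne
      apply hj
      exact huniq i j (τf i) ⟨u, hu, v, hv, hne⟩ (hτf i)

end Generic

section Mat
open Cfsg Cfsg.Geo Cfsg.Agent.Lib.Helper99.Asch Cfsg.Agent.Lib.Helper23.AschSp
open scoped MatrixGroups Matrix

variable {ι : Type} [Fintype ι] [DecidableEq ι] {F : Type*} [Field F]
variable {f : (ι → F) → (ι → F) → F}

/-- the Mathlib bilinear form of a two-argument function satisfying `IsBilinearForm` -/
def bilinOf (hf : IsBilinearForm f) : LinearMap.BilinForm F (ι → F) :=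
  LinearMap.mk₂ F f hf.add_left hf.smul_left hf.add_right hf.smul_right

theorem bilinOf_apply (hf : IsBilinearForm f) (u v : ι → F) : bilinOf hf u v = f u v := rfl

/-- the enveloping algebra of a group of similitudes is closed under adjoints -/
theorem adjClosed_endAlg (hf : IsBilinearForm f) {N : Subgroup (GL ι F)}
    (hN : N ≤ similarityGroup f) : AdjClosed (endAlg N) (bilinOf hf) := by
  have key : ∀ a ∈ endAlg N, (∃ a' ∈ endAlg N, ∀ u v, f (a u) v = f u (a' v)) ∧
      (∃ a' ∈ endAlg N, ∀ u v, f u (a v) = f (a' u) v) := by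
    intro a ha
    induction ha using Algebra.adjoin_induction with
    | mem a ha =>
      obtain ⟨x, hx, rfl⟩ := ha
      obtain ⟨c, hc⟩ := hN hx
      have hxx : ∀ v : ι → F,
          (x : Matrix ι ι F) *ᵥ (((x⁻¹ : GL ι F) : Matrix ι ι F) *ᵥ v) = v := by
        intro v
        rw [Matrix.mulVec_mulVec, ← Units.val_mul, mul_inv_cancel, Units.val_one,
          Matrix.one_mulVec]
      have hmem : (c : F) • Matrix.toLin' ((x⁻¹ : GL ι F) : Matrix ι ι F) ∈ endAlg N :=
        Subalgebra.smul_mem _ (toLin_mem_endAlg (N.inv_mem hx)) _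
      constructor
      · refine ⟨_, hmem, ?_⟩
        intro u v
        simp only [Matrix.toLin'_apply, LinearMap.smul_apply]
        rw [hf.smul_right, ← hc, hxx]
      · refine ⟨_, hmem, ?_⟩
        intro u v
        simp only [Matrix.toLin'_apply, LinearMap.smul_apply]
        rw [hf.smul_left, ← hc, hxx]
    | algebraMap r =>
      constructor
      · refine ⟨algebraMap F _ r, Subalgebra.algebraMap_mem _ r, ?_⟩
        intro u v
        simp only [Module.algebraMap_end_apply]
        rw [hf.smul_left, hf.smul_right]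
      · refine ⟨algebraMap F _ r, Subalgebra.algebraMap_mem _ r, ?_⟩
        intro u v
        simp only [Module.algebraMap_end_apply]
        rw [hf.smul_left, hf.smul_right]
    | add a b _ _ iha ihb =>
      obtain ⟨⟨a1, ha1, h1⟩, ⟨a2, ha2, h2⟩⟩ := iha
      obtain ⟨⟨b1, hb1, h3⟩, ⟨b2, hb2, h4⟩⟩ := ihb
      constructor
      · refine ⟨a1 + b1, Subalgebra.add_mem _ ha1 hb1, ?_⟩
        intro u v
        simp only [LinearMap.add_apply]
        rw [hf.add_left, hf.add_right, h1, h3]
      · refine ⟨a2 + b2, Subalgebra.add_mem _ ha2 hb2, ?_⟩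
        intro u v
        simp only [LinearMap.add_apply]
        rw [hf.add_left, hf.add_right, h2, h4]
    | mul a b _ _ iha ihb =>
      obtain ⟨⟨a1, ha1, h1⟩, ⟨a2, ha2, h2⟩⟩ := iha
      obtain ⟨⟨b1, hb1, h3⟩, ⟨b2, hb2, h4⟩⟩ := ihb
      constructor
      · refine ⟨b1 * a1, Subalgebra.mul_mem _ hb1 ha1, ?_⟩
        intro u v
        simp only [Module.End.mul_apply]
        rw [h1, h3]
      · refine ⟨b2 * a2, Subalgebra.mul_mem _ hb2 ha2, ?_⟩
        intro u v
        simp only [Module.End.mul_apply]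
        rw [h2, h4]
  exact ⟨fun a ha => (key a ha).1, fun a ha => (key a ha).2⟩

/-- ASCHSP-[PAIR], with [SS] as a hypothesis, for any finite index type -/
theorem isotypic_or_paired_of (hf : IsSymplecticForm f) (H N : Subgroup (GL ι F))
    (hN : N ≤ similarityGroup f)
    (hirr : ActsIrreducibly (matrixSet H)) (hnrm : Nrm H N)
    (hss : IsSemisimpleModule (endAlg N) (ι → F)) :
    IsIsotypic (endAlg N) (ι → F) ∨
    ∃ (t : ℕ) (D : Fin t → Submodule F (ι → F)) (τ : Equiv.Perm (Fin t)), 2 ≤ t ∧ (∀ i, D i ≠ ⊥) ∧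
      iSupIndep D ∧ iSup D = ⊤ ∧
      (∀ h ∈ H, ∃ σ : Equiv.Perm (Fin t), ∀ i,
        (D i).map (Matrix.toLin' (h : Matrix ι ι F)) = D (σ i)) ∧
      (∀ i j, ∃ h ∈ H, (D i).map (Matrix.toLin' (h : Matrix ι ι F)) = D j) ∧
      (∀ i j, AreOrthogonalFor f (D i) (D j) ↔ j ≠ τ i) := by
  have key := generic_pair (A := endAlg N) (B := bilinOf hf.bilinear)
    (adjClosed_endAlg hf.bilinear hN)
    (fun v hv => (hf.nondegenerate v hv).2)
    (fun u v h => by
      rw [bilinOf_apply] at h ⊢
      rw [hf.skew, h, neg_zero])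
    {φ | ∃ h ∈ H, φ = Lg h}
    ⟨1, H.one_mem, Lg_one.symm⟩
    (by rintro _ ⟨h, hh, rfl⟩; exact ⟨h⁻¹, H.inv_mem hh, Lg_symm h⟩)
    (by rintro _ ⟨h, hh, rfl⟩ _ ⟨h', hh', rfl⟩; exact ⟨h' * h, H.mul_mem hh' hh, Lg_trans h h'⟩)
    (by rintro _ ⟨h, hh, rfl⟩; exact normA_of_nrm (hnrm h hh))
    (by
      intro W hW
      apply hirr W
      rintro _ ⟨h, hh, rfl⟩
      exact hW (Lg h) ⟨h, hh, rfl⟩)
  rcases key with h | ⟨t, D, τ, ht, hne, hind, htop, hperm, htrans, hτ⟩
  · left; exact h
  · right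
    refine ⟨t, D, τ, ht, hne, hind, htop, ?_, ?_, ?_⟩
    · intro h hh
      obtain ⟨σ, hσ⟩ := hperm (Lg h) ⟨h, hh, rfl⟩
      exact ⟨σ, hσ⟩
    · intro i j
      obtain ⟨_, ⟨h, hh, rfl⟩, hφ⟩ := htrans i j
      exact ⟨h, hh, hφ⟩
    · intro i j
      exact hτ i j

end Mat
end Cfsg.Agent.Lib.Helper80.AschPair

namespace Cfsg.Agent.Lib.Helper23.AschSp

open Cfsg Cfsg.Geo Cfsg.Agent.Lib.Helper99.Asch
open scoped MatrixGroups Matrix Kronecker

variable {n m : ℕ} {F : Type*} [Field F] [Fintype F] {f : (Fin n → F) → (Fin n → F) → F}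

/-- ASCHSP-[PAIR] -/
theorem isotypic_or_paired_decomposition (hf : IsSymplecticForm f) (H N : Subgroup (GL (Fin n) F))
    (_hH : H ≤ isoGL f) (hN : N ≤ similarityGroup f)
    (hirr : ActsIrreducibly (matrixSet H)) (hnrm : Nrm H N) :
    IsIsotypic (endAlg N) (Fin n → F) ∨
    ∃ (t : ℕ) (D : Fin t → Submodule F (Fin n → F)) (τ : Equiv.Perm (Fin t)), 2 ≤ t ∧ (∀ i, D i ≠ ⊥) ∧
      iSupIndep D ∧ iSup D = ⊤ ∧
      (∀ h ∈ H, ∃ σ : Equiv.Perm (Fin t), ∀ i,
        (D i).map (Matrix.toLin' (h : Matrix (Fin n) (Fin n) F)) = D (σ i)) ∧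
      (∀ i j, ∃ h ∈ H, (D i).map (Matrix.toLin' (h : Matrix (Fin n) (Fin n) F)) = D j) ∧
      (∀ i j, AreOrthogonalFor f (D i) (D j) ↔ j ≠ τ i) :=
  Cfsg.Agent.Lib.Helper80.AschPair.isotypic_or_paired_of hf H N hN hirr hnrm
    (semisimple_of_normalized H N hirr hnrm)

end Cfsg.Agent.Lib.Helper23.AschSp
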