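import Mathlib
import Cfsg.Agent.Lib.Helper30.CLen.Defs

/-!
PROJECT CLEN (helper30's sheet, S5722), module CLEN-[ADD]: the length function `clen` is additive on
extensions: `clen G = clen K + clen (G ⧸ K)` (both inequalities, no Jordan–Hölder needed).

The small part of the `Reach` API needed here is proved locally (`reach_*`).
-/

set_option autoImplicit false

namespace Cfsg.Agent.Lib.Helper80.CLen

open Cfsg.Agent.Lib.Helper30.CLen

universe u w

section basic
variable {G : Type u} [Group G]

theorem reach_le {A B : Subgroup G} {l : ℕ} (h : Reach A B l) : A ≤ B := by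
  induction h with
  | refl => exact le_rfl
  | step _ hlt _ ih => exact ih.trans hlt.le

theorem reach_trans {A B C : Subgroup G} {l₁ l₂ : ℕ} (h₁ : Reach A B l₁) (h₂ : Reach B C l₂) :
    Reach A C (l₁ + l₂) := by
  induction h₂ with
  | refl => simpa using h₁
  | step _ hlt hn ih => exact Reach.step ih hlt hn

theorem card_mul_two_le_of_lt [Finite G] {B C : Subgroup G} (hlt : B < C) :
    Nat.card B * 2 ≤ Nat.card C := by
  obtain ⟨k, hk⟩ := Subgroup.card_dvd_of_le hlt.le
  have hCpos : 0 < Nat.card C := Nat.card_pos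
  have hk0 : k ≠ 0 := by
    rintro rfl
    rw [mul_zero] at hk
    omega
  have hk1 : k ≠ 1 := by
    rintro rfl
    rw [mul_one] at hk
    have := Subgroup.eq_of_le_of_card_ge hlt.le hk.le
    exact hlt.ne this
  rw [hk]
  exact Nat.mul_le_mul_left _ (by omega)

theorem reach_card_mul_le [Finite G] {A B : Subgroup G} {l : ℕ} (h : Reach A B l) :
    Nat.card A * 2 ^ l ≤ Nat.card B := by
  induction h with
  | refl => simp
  | step _ hlt _ ih =>
    rw [pow_succ, ← mul_assoc]
    exact (Nat.mul_le_mul_right 2 ih).trans (card_mul_two_le_of_lt hlt)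

theorem reach_lt_card [Finite G] {A B : Subgroup G} {l : ℕ} (h : Reach A B l) :
    l < Nat.card G := by
  have h1 := reach_card_mul_le h
  have h2 : Nat.card B ≤ Nat.card G := Subgroup.card_le_card_group B
  have h3 : 0 < Nat.card A := Nat.card_pos
  have h4 : 2 ^ l ≤ Nat.card A * 2 ^ l := Nat.le_mul_of_pos_left _ h3
  exact (Nat.lt_two_pow_self).trans_le (h4.trans (h1.trans h2))

theorem bddAbove_reach [Finite G] : BddAbove {l | Reach (⊥ : Subgroup G) ⊤ l} :=
  ⟨Nat.card G, fun _ hl => (reach_lt_card hl).le⟩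

theorem reach_le_clen [Finite G] {l : ℕ} (h : Reach (⊥ : Subgroup G) ⊤ l) : l ≤ clen G :=
  le_csSup bddAbove_reach h

theorem nonempty_reach : {l | Reach (⊥ : Subgroup G) ⊤ l}.Nonempty := by
  by_cases h : (⊥ : Subgroup G) = ⊤
  · refine ⟨0, ?_⟩
    have : Reach (⊥ : Subgroup G) ⊥ 0 := Reach.refl _
    rw [Set.mem_ofPred_eq, ← h]
    exact this
  · refine ⟨1, ?_⟩
    have hn : ((⊥ : Subgroup G).subgroupOf ⊤).Normal := by
      rw [Subgroup.bot_subgroupOf]; infer_instance
    exact Reach.step (Reach.refl _) (lt_of_le_of_ne bot_le h) hn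

theorem reach_clen' [Finite G] : Reach (⊥ : Subgroup G) ⊤ (clen G) :=
  Nat.sSup_mem nonempty_reach bddAbove_reach

/-- image of a normal pair under a homomorphism -/
theorem normal_map_subgroupOf {G' : Type w} [Group G'] (f : G →* G') {B C : Subgroup G}
    (hBC : B ≤ C) (hn : (B.subgroupOf C).Normal) :
    ((B.map f).subgroupOf (C.map f)).Normal := by
  rw [Subgroup.normal_subgroupOf_iff (Subgroup.map_mono hBC)]
  rw [Subgroup.normal_subgroupOf_iff hBC] at hn
  rintro _ _ ⟨b, hb, rfl⟩ ⟨c, hc, rfl⟩
  exact ⟨c * b * c⁻¹, hn b c hb hc, by simp⟩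

/-- preimage of a normal pair under a homomorphism -/
theorem normal_comap_subgroupOf {G' : Type w} [Group G'] (f : G' →* G) {B C : Subgroup G}
    (hBC : B ≤ C) (hn : (B.subgroupOf C).Normal) :
    ((B.comap f).subgroupOf (C.comap f)).Normal := by
  rw [Subgroup.normal_subgroupOf_iff (Subgroup.comap_mono hBC)]
  rw [Subgroup.normal_subgroupOf_iff hBC] at hn
  intro b c hb hc
  rw [Subgroup.mem_comap] at hb hc ⊢
  rw [map_mul, map_mul, map_inv]
  exact hn _ _ hb hc

theorem reach_map {G' : Type w} [Group G'] (f : G →* G') (hf : Function.Injective f)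
    {A B : Subgroup G} {l : ℕ} (h : Reach A B l) : Reach (A.map f) (B.map f) l := by
  induction h with
  | refl => exact Reach.refl _
  | step _ hlt hn ih =>
    exact Reach.step ih ((Subgroup.map_lt_map_iff_of_injective hf).mpr hlt)
      (normal_map_subgroupOf f hlt.le hn)

theorem reach_comap {G' : Type w} [Group G'] (f : G →* G') (hf : Function.Surjective f)
    {A B : Subgroup G'} {l : ℕ} (h : Reach A B l) : Reach (A.comap f) (B.comap f) l := by
  induction h with
  | refl => exact Reach.refl _
  | step _ hlt hn ih =>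
    exact Reach.step ih ((Subgroup.comap_lt_comap_of_surjective hf).mpr hlt)
      (normal_comap_subgroupOf f hlt.le hn)

/-- extend a chain by a (possibly trivial) normal step -/
theorem reach_extend {A B C : Subgroup G} {l : ℕ} (h : Reach A B l) (hBC : B ≤ C)
    (hn : (B.subgroupOf C).Normal) :
    ∃ l', Reach A C l' ∧ l ≤ l' ∧ (B ≠ C → l + 1 ≤ l') := by
  by_cases hne : B = C
  · subst hne
    exact ⟨l, h, le_rfl, fun h' => absurd rfl h'⟩
  · exact ⟨l + 1, Reach.step h (lt_of_le_of_ne hBC hne) hn, Nat.le_succ l, fun _ => le_rfl⟩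

end basic

section add
variable {G : Type u} [Group G]

/-- the key splitting: a chain of `G` gives chains of `K` and of `G ⧸ K` of total length at least
the same -/
theorem reach_split (K : Subgroup G) [K.Normal] {A B : Subgroup G} {l : ℕ} (h : Reach A B l) :
    ∃ l₁ l₂, l ≤ l₁ + l₂ ∧ Reach (A.subgroupOf K) (B.subgroupOf K) l₁ ∧
      Reach (A.map (QuotientGroup.mk' K)) (B.map (QuotientGroup.mk' K)) l₂ := by
  induction h with
  | refl => exact ⟨0, 0, le_rfl, Reach.refl _, Reach.refl _⟩
  | @step B C l _ hlt hn ih =>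
    obtain ⟨l₁, l₂, hle, h₁, h₂⟩ := ih
    obtain ⟨l₁', h₁', hl₁, hs₁⟩ := reach_extend h₁ (Subgroup.comap_mono hlt.le)
      (normal_comap_subgroupOf K.subtype hlt.le hn)
    obtain ⟨l₂', h₂', hl₂, hs₂⟩ := reach_extend h₂ (Subgroup.map_mono hlt.le)
      (normal_map_subgroupOf (QuotientGroup.mk' K) hlt.le hn)
    refine ⟨l₁', l₂', ?_, h₁', h₂'⟩
    by_cases e₁ : B.subgroupOf K = C.subgroupOf K
    · by_cases e₂ : B.map (QuotientGroup.mk' K) = C.map (QuotientGroup.mk' K)
      · -- both equal: then `C ≤ B`, impossible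
        exfalso
        apply hlt.not_ge
        intro c hc
        have hcq : QuotientGroup.mk' K c ∈ B.map (QuotientGroup.mk' K) := by
          rw [e₂]; exact Subgroup.mem_map_of_mem _ hc
        obtain ⟨b, hb, hbc⟩ := hcq
        have hk : b⁻¹ * c ∈ K := by
          rw [← QuotientGroup.eq]
          exact hbc
        have hC : b⁻¹ * c ∈ C := C.mul_mem (C.inv_mem (hlt.le hb)) hc
        have hB : b⁻¹ * c ∈ B := by
          have h3 : (⟨b⁻¹ * c, hk⟩ : K) ∈ C.subgroupOf K := by
            rw [Subgroup.mem_subgroupOf]; exact hC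
          rw [← e₁, Subgroup.mem_subgroupOf] at h3
          exact h3
        have : c = b * (b⁻¹ * c) := by group
        rw [this]
        exact B.mul_mem hb hB
      · have := hs₂ e₂
        omega
    · have := hs₁ e₁
      omega

variable [Finite G]

/-- CLEN-[ADD] -/
theorem clen_le_add (K : Subgroup G) [K.Normal] : clen G ≤ clen K + clen (G ⧸ K) := by
  obtain ⟨l₁, l₂, hle, h₁, h₂⟩ := reach_split K (reach_clen' (G := G))
  rw [Subgroup.bot_subgroupOf, Subgroup.top_subgroupOf] at h₁
  rw [Subgroup.map_bot, Subgroup.map_top_of_surjective _ (QuotientGroup.mk'_surjective K)] at h₂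
  have := reach_le_clen h₁
  have := reach_le_clen h₂
  omega

/-- CLEN-[ADD] -/
theorem add_le_clen (K : Subgroup G) [K.Normal] : clen K + clen (G ⧸ K) ≤ clen G := by
  have h₁ := reach_map K.subtype K.subtype_injective (reach_clen' (G := K))
  have h₂ := reach_comap (QuotientGroup.mk' K) (QuotientGroup.mk'_surjective K)
    (reach_clen' (G := G ⧸ K))
  rw [Subgroup.map_bot, ← MonoidHom.range_eq_map, Subgroup.range_subtype] at h₁
  rw [Subgroup.comap_top, MonoidHom.comap_bot, QuotientGroup.ker_mk'] at h₂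
  exact reach_le_clen (reach_trans h₁ h₂)

end add

end Cfsg.Agent.Lib.Helper80.CLen
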