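import Mathlib
import Cfsg.Agent.Lib.Helper30.CLen.Defs

/-!
PROJECT CLEN (helper30's sheet, S5722), module CLEN-[ORB]: orbit-count lemmas for `norb`.
-/

set_option autoImplicit false

namespace Cfsg.Agent.Lib.Helper80.CLen

open Cfsg.Agent.Lib.Helper30.CLen

universe u v

open scoped Pointwise

section orb
variable {G : Type u} [Group G] {Ω : Type v} [MulAction G Ω]

/-- the class of a point in the orbit quotient -/
abbrev ocl (G : Type u) [Group G] {Ω : Type v} [MulAction G Ω] (x : Ω) :
    Quotient (MulAction.orbitRel G Ω) := Quotient.mk _ x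

theorem ocl_eq_iff {x y : Ω} : ocl G x = ocl G y ↔ x ∈ MulAction.orbit G y := by
  rw [ocl, ocl, Quotient.eq]
  exact MulAction.orbitRel_apply

/-- the canonical surjection from orbits of a subgroup to orbits of the group -/
def orbUp (H : Subgroup G) :
    Quotient (MulAction.orbitRel H Ω) → Quotient (MulAction.orbitRel G Ω) :=
  Quotient.map' id (fun x y h => by
    have h' : x ∈ MulAction.orbit H y := MulAction.orbitRel_apply.mp h
    obtain ⟨k, hk⟩ := h'
    exact MulAction.orbitRel_apply.mpr ⟨(k : G), hk⟩)

theorem orbUp_ocl (H : Subgroup G) (x : Ω) : orbUp H (ocl H x) = ocl G x := rfl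

theorem orbUp_surjective (H : Subgroup G) : Function.Surjective (orbUp (Ω := Ω) H) := by
  intro q
  induction q using Quotient.inductionOn with
  | h x => exact ⟨ocl H x, rfl⟩

theorem norb_le_card [Finite Ω] : norb G Ω ≤ Nat.card Ω :=
  Nat.card_le_card_of_surjective (Quotient.mk (MulAction.orbitRel G Ω)) Quotient.mk_surjective

theorem norb_eq_one [MulAction.IsPretransitive G Ω] [Nonempty Ω] : norb G Ω = 1 := by
  rw [norb, Nat.card_eq_one_iff_unique]
  refine ⟨⟨?_⟩, ⟨ocl G (Classical.arbitrary Ω)⟩⟩
  intro p q
  induction p using Quotient.inductionOn with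
  | h x =>
    induction q using Quotient.inductionOn with
    | h y =>
      exact ocl_eq_iff.mpr (MulAction.exists_smul_eq G y x)

theorem norb_le_norb_subgroup [Finite Ω] (H : Subgroup G) : norb G Ω ≤ norb H Ω :=
  Nat.card_le_card_of_surjective (orbUp H) (orbUp_surjective H)

/-- a subgroup fixing the orbit `Δ` of `a` pointwise has at least `|Δ| + (r - 1)` orbits -/
theorem norb_of_fixes_orbit [Finite Ω] (K : Subgroup G) (a : Ω)
    (hK : ∀ k ∈ K, ∀ x ∈ MulAction.orbit G a, k • x = x) :
    Nat.card (MulAction.orbit G a) + norb G Ω ≤ norb K Ω + 1 := by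
  classical
  let f : (MulAction.orbit G a) ⊕ Quotient (MulAction.orbitRel G Ω) →
      Quotient (MulAction.orbitRel K Ω) ⊕ Unit := fun s =>
    match s with
    | Sum.inl x => Sum.inl (ocl K (x : Ω))
    | Sum.inr q => if q = ocl G a then Sum.inr () else Sum.inl (ocl K q.out)
  have hout : ∀ q : Quotient (MulAction.orbitRel G Ω), ocl G q.out = q := fun q => Quotient.out_eq q
  have hf : Function.Injective f := by
    rintro (x | q) (y | q') hxy
    · -- two points of Δ in the same K-orbit are equal
      simp only [f, Sum.inl.injEq] at hxy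
      obtain ⟨k, hk⟩ := ocl_eq_iff.mp hxy
      have : (k : G) • (y : Ω) = (y : Ω) := hK k k.2 _ y.2
      have hxy' : (x : Ω) = (y : Ω) := by rw [← hk]; exact this
      exact congrArg Sum.inl (Subtype.ext hxy')
    · exfalso
      by_cases hq : q' = ocl G a
      · simp [f, hq] at hxy
      · simp only [f, hq, if_false, Sum.inl.injEq] at hxy
        have h1 : ocl G (x : Ω) = ocl G q'.out := by
          have := congrArg (orbUp K) hxy
          simpa [orbUp_ocl] using this
        rw [hout] at h1
        apply hq
        rw [← h1]
        exact ocl_eq_iff.mpr x.2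
    · exfalso
      by_cases hq : q = ocl G a
      · simp [f, hq] at hxy
      · simp only [f, hq, if_false, Sum.inl.injEq] at hxy
        have h1 : ocl G q.out = ocl G (y : Ω) := by
          have := congrArg (orbUp K) hxy
          simpa [orbUp_ocl] using this
        rw [hout] at h1
        apply hq
        rw [h1]
        exact ocl_eq_iff.mpr y.2
    · by_cases hq : q = ocl G a
      · by_cases hq' : q' = ocl G a
        · rw [hq, hq']
        · exfalso; simp [f, hq, hq'] at hxy
      · by_cases hq' : q' = ocl G a
        · exfalso; simp [f, hq, hq'] at hxy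
        · simp only [f, hq, hq', if_false, Sum.inl.injEq] at hxy
          have h1 : ocl G q.out = ocl G q'.out := by
            have := congrArg (orbUp K) hxy
            simpa [orbUp_ocl] using this
          rw [hout, hout] at h1
          rw [h1]
  have hle := Nat.card_le_card_of_injective f hf
  rw [Nat.card_sum, Nat.card_sum] at hle
  have h1 : Nat.card Unit = 1 := Nat.card_unique
  rw [h1] at hle
  exact hle

/-- a subgroup preserving every block of the block system `G • b` (`b` a nonempty block) has at
least as many orbits as there are blocks -/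
theorem norb_of_fixes_blocks [Finite Ω] (K : Subgroup G)
    (b : Set Ω) (hb : b.Nonempty) (hblock : MulAction.IsBlock G b)
    (hK : ∀ k ∈ K, ∀ c ∈ MulAction.orbit G b, k • c = c) :
    Nat.card (MulAction.orbit G b) ≤ norb K Ω := by
  classical
  have hne : ∀ c : MulAction.orbit G b, (c : Set Ω).Nonempty := by
    rintro ⟨c, g, rfl⟩
    exact hb.smul_set
  let pt : MulAction.orbit G b → Ω := fun c => (hne c).some
  have hpt : ∀ c : MulAction.orbit G b, pt c ∈ (c : Set Ω) := fun c => (hne c).some_mem
  let f : MulAction.orbit G b → Quotient (MulAction.orbitRel K Ω) := fun c => ocl K (pt c)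
  have hf : Function.Injective f := by
    intro c c' hcc
    obtain ⟨k, hk⟩ := ocl_eq_iff.mp hcc
    -- `pt c = k • pt c'` lies in `k • c' = c'`
    have h1 : pt c ∈ (c' : Set Ω) := by
      have h2 : (k : G) • (c' : Set Ω) = (c' : Set Ω) := hK k k.2 _ c'.2
      rw [← h2, ← hk]
      exact Set.smul_mem_smul_set (hpt c')
    obtain ⟨g, hg⟩ := c.2
    obtain ⟨g', hg'⟩ := c'.2
    have h3 : (g • b ∩ g' • b).Nonempty := by
      refine ⟨pt c, ?_, ?_⟩
      · have := hpt c
        rw [← hg] at this
        exact this
      · rw [← hg'] at h1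
        exact h1
    have h4 := hblock.smul_eq_smul_of_nonempty h3
    apply Subtype.ext
    rw [← hg, ← hg']
    exact h4
  exact Nat.card_le_card_of_injective f hf

end orb

end Cfsg.Agent.Lib.Helper80.CLen
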