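import Mathlib
import Cfsg.Agent.Lib.Helper30.CLen.Defs

/-!
PROJECT CLEN (helper30's sheet, S5722), module CLEN-[QUOT]: the induction hypothesis `Good k`
applied to a subgroup, and to the faithful quotient `G ⧸ ker` of an arbitrary action.
-/

set_option autoImplicit false

namespace Cfsg.Agent.Lib.Helper80.CLen

open Cfsg.Agent.Lib.Helper30.CLen

universe u v

/-- CLEN-[QUOT] (`Good.sub` of the sheet) -/
theorem good_sub {k : ℕ} (hk : Good.{u, v} k) {G : Type u} [Group G] [Finite G] {Ω : Type v}
    [MulAction G Ω] [FaithfulSMul G Ω] [Finite Ω] (H : Subgroup G)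
    (h : Nat.card H + Nat.card Ω ≤ k) : 3 * clen H ≤ 4 * (Nat.card Ω - norb H Ω) :=
  hk H Ω h

section quot
variable {G : Type u} [Group G] (X : Type v) [MulAction G X]

/-- the action of `G ⧸ ker` on `X` -/
@[reducible] noncomputable def quotAct :
    MulAction (G ⧸ (MulAction.toPermHom G X).ker) X :=
  MulAction.compHom X (QuotientGroup.kerLift (MulAction.toPermHom G X))

theorem quotAct_mk_smul (g : G) (x : X) :
    (quotAct X).smul (QuotientGroup.mk g : G ⧸ (MulAction.toPermHom G X).ker) x = g • x := rfl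

theorem quotAct_faithful :
    @FaithfulSMul (G ⧸ (MulAction.toPermHom G X).ker) X (quotAct X).toSMul := by
  letI := quotAct (G := G) X
  refine ⟨fun {q q'} h => ?_⟩
  apply QuotientGroup.kerLift_injective (MulAction.toPermHom G X)
  ext x
  exact h x

theorem quotAct_orbitRel :
    @MulAction.orbitRel (G ⧸ (MulAction.toPermHom G X).ker) X _ (quotAct X) =
      MulAction.orbitRel G X := by
  letI := quotAct (G := G) X
  ext x y
  rw [MulAction.orbitRel_apply, MulAction.orbitRel_apply]
  constructor
  · rintro ⟨q, hq⟩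
    induction q using QuotientGroup.induction_on with
    | H g => exact ⟨g, hq⟩
  · rintro ⟨g, hg⟩
    exact ⟨(QuotientGroup.mk g : G ⧸ (MulAction.toPermHom G X).ker), hg⟩

theorem quotAct_norb :
    @norb (G ⧸ (MulAction.toPermHom G X).ker) X _ (quotAct X) = norb G X := by
  unfold norb
  rw [quotAct_orbitRel]

end quot

/-- CLEN-[QUOT] (`Good.quot` of the sheet) -/
theorem good_quot {k : ℕ} (hk : Good.{u, v} k) {G : Type u} [Group G] [Finite G] {X : Type v}
    [MulAction G X] [Finite X]
    (h : Nat.card (G ⧸ (MulAction.toPermHom G X).ker) + Nat.card X ≤ k) :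
    3 * clen (G ⧸ (MulAction.toPermHom G X).ker) ≤ 4 * (Nat.card X - norb G X) := by
  have h1 := @hk (G ⧸ (MulAction.toPermHom G X).ker) _ _ X (quotAct X) (quotAct_faithful X) _ h
  rw [quotAct_norb] at h1
  exact h1

end Cfsg.Agent.Lib.Helper80.CLen
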