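import Mathlib
import Cfsg.Agent.Lib.Helper80.TwoDeg2
import Cfsg.Agent.Lib.Helper75.Ito

/-!
# Character degrees `1, p` (helper80)

Isaacs 12.11: for nonabelian `G`, `cd(G) = {1, p}` iff `G` has an abelian normal subgroup of
index `p` or `|G : Z(G)| = p³`.
-/

set_option autoImplicit false

namespace Cfsg.Agent.Lib.Helper80

open Cfsg
open scoped ComplexConjugate commutatorElement

universe u

section ClassTwoChar

variable {G : Type u} [Group G] [Fintype G]

omit [Fintype G] in
/-- in a nonabelian nilpotent group `[G', G] < G'` -/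
theorem exists_commutator_not_mem_of_nilpotent [Group.IsNilpotent G]
    (hnonab : ∃ a b : G, a * b ≠ b * a) :
    ∃ a b : G, ⁅a, b⁆ ∉ ⁅commutator G, (⊤ : Subgroup G)⁆ := by
  by_contra hcon
  push Not at hcon
  have hle : commutator G ≤ ⁅commutator G, (⊤ : Subgroup G)⁆ := by
    rw [commutator_def, Subgroup.commutator_le]
    intro a _ b _
    rw [← commutator_def]
    exact hcon a b
  have hall : ∀ n : ℕ, commutator G ≤ (⊤ : Subgroup G).lowerCentralSeries (n + 1) := by
    intro n
    induction n with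
    | zero => rw [Subgroup.top_lowerCentralSeries_one]
    | succ n ih =>
      rw [Subgroup.lowerCentralSeries_succ]
      exact hle.trans (Subgroup.commutator_mono ih le_rfl)
  obtain ⟨n, hn⟩ := Subgroup.nilpotent_iff_lowerCentralSeries.mp (inferInstance : Group.IsNilpotent G)
  have h1 : commutator G ≤ (⊤ : Subgroup G).lowerCentralSeries n := by
    rcases Nat.eq_zero_or_pos n with h0 | hpos
    · rw [h0, Subgroup.lowerCentralSeries_zero]; exact le_top
    · obtain ⟨k, rfl⟩ : ∃ k, n = k + 1 := ⟨n - 1, by omega⟩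
      exact hall k
  rw [hn, le_bot_iff] at h1
  obtain ⟨a, b, hab⟩ := hnonab
  apply hab
  have h2 : ⁅a, b⁆ ∈ commutator G := by
    rw [commutator_def]
    exact Subgroup.commutator_mem_commutator (Subgroup.mem_top a) (Subgroup.mem_top b)
  rw [h1, Subgroup.mem_bot] at h2
  exact commutatorElement_eq_one_iff_mul_comm.mp h2

/-- **Step 1**: a nonabelian nilpotent group has a nonlinear irreducible character `ψ` with
`G' ≤ Z(ψ)` vanishing off `Z(ψ)`. -/
theorem exists_irr_vanishing_off_center [Group.IsNilpotent G]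
    (hnonab : ∃ a b : G, a * b ≠ b * a) :
    ∃ ψ : IrrCharacter G, charDegree (ψ : G → ℂ) ≠ 1 ∧
      (∀ a b : G, ⁅a, b⁆ ∈ Helper77.irrCenter ψ) ∧
      ∀ g : G, g ∉ Helper77.irrCenter ψ → (ψ : G → ℂ) g = 0 := by
  classical
  set L : Subgroup G := ⁅commutator G, (⊤ : Subgroup G)⁆ with hL
  have hLn : L.Normal := by rw [hL]; infer_instance
  let _ : Fintype (G ⧸ L) := Fintype.ofFinite _
  obtain ⟨a, b, hab⟩ := exists_commutator_not_mem_of_nilpotent hnonab
  have hex : ∃ ψ' : IrrCharacter (G ⧸ L), charDegree (ψ' : G ⧸ L → ℂ) ≠ 1 := by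
    by_contra hcon
    push Not at hcon
    have hcomm := commutative_of_forall_charDegree_eq_one hcon
    apply hab
    have h1 : (QuotientGroup.mk' L) ⁅a, b⁆ = 1 := by
      rw [map_commutatorElement]
      exact commutatorElement_eq_one_iff_mul_comm.mpr (hcomm _ _)
    exact (QuotientGroup.eq_one_iff _).mp h1
  obtain ⟨ψ', hψ'⟩ := hex
  set ψ : IrrCharacter G := Helper77.inflate L ψ' with hψdef
  have hdeg : charDegree (ψ : G → ℂ) ≠ 1 := by
    rw [hψdef, charDegree_inflate]; exact hψ'
  have hLker : L ≤ Helper77.irrKer ψ := by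
    intro x hx
    rw [Helper77.mem_irrKer]
    exact Helper77.inflate_apply_of_mem L ψ' x hx
  have hcen : ∀ a b : G, ⁅a, b⁆ ∈ Helper77.irrCenter ψ := by
    intro a b
    rw [Helper77.mem_irrCenter_iff_commutator]
    intro h
    apply hLker
    rw [hL]
    apply Subgroup.commutator_mem_commutator _ (Subgroup.mem_top h)
    rw [commutator_def]
    exact Subgroup.commutator_mem_commutator (Subgroup.mem_top a) (Subgroup.mem_top b)
  refine ⟨ψ, hdeg, hcen, ?_⟩
  intro g hg
  rw [Helper77.mem_irrCenter_iff_commutator] at hg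
  push Not at hg
  obtain ⟨h, hh⟩ := hg
  set z : G := ⁅g, h⁆ with hz
  have hzc : z⁻¹ ∈ Helper77.irrCenter ψ := (Helper77.irrCenter ψ).inv_mem (hcen g h)
  have hconj : h * g * h⁻¹ = z⁻¹ * g := by
    rw [hz, commutatorElement_def]; group
  have hcl : (ψ : G → ℂ) (h * g * h⁻¹) = (ψ : G → ℂ) g :=
    Helper78.IsCharacter.isClassFunction (Helper78.IsIrrCharacter.isCharacter ψ.2) g h
  have hmul := Helper77.irr_center_mul ψ ⟨z⁻¹, hzc⟩ g
  simp only at hmul
  rw [← hconj, hcl] at hmul
  have hω : Helper77.irrCenterScalar ψ ⟨z⁻¹, hzc⟩ ≠ 1 := by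
    intro h1
    rw [Helper77.irrCenterScalar_apply] at h1
    have hne : (ψ : G → ℂ) 1 ≠ 0 := Helper78.IsIrrCharacter.apply_one_ne_zero ψ.2
    have h2 : (ψ : G → ℂ) z⁻¹ = (ψ : G → ℂ) 1 := by
      field_simp at h1
      exact h1
    have h3 : z⁻¹ ∈ Helper77.irrKer ψ := (Helper77.mem_irrKer ψ z⁻¹).mpr h2
    exact hh (by simpa using (Helper77.irrKer ψ).inv_mem h3)
  have h4 : (1 - Helper77.irrCenterScalar ψ ⟨z⁻¹, hzc⟩) * (ψ : G → ℂ) g = 0 := by
    rw [sub_mul, one_mul, ← hmul, sub_self]
  rcases mul_eq_zero.mp h4 with h5 | h5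
  · exact absurd (sub_eq_zero.mp h5).symm hω
  · exact h5

/-- an irreducible character vanishing off its centre `Z(ψ)` has `|Z(ψ)| ψ(1)² = |G|` -/
theorem card_irrCenter_mul_sq_of_vanishing (ψ : IrrCharacter G)
    (hvan : ∀ g : G, g ∉ Helper77.irrCenter ψ → (ψ : G → ℂ) g = 0) :
    Nat.card (Helper77.irrCenter ψ) * charDegree (ψ : G → ℂ) ^ 2 = Nat.card G := by
  classical
  have h1 := Helper77.sum_normSq_irr ψ
  have hd : ‖(ψ : G → ℂ) 1‖ = (charDegree (ψ : G → ℂ) : ℝ) := by
    rw [Helper78.IsCharacter.apply_one_eq_charDegree (Helper78.IsIrrCharacter.isCharacter ψ.2)]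
    simp
  have h2 : ∑ g : G, ‖(ψ : G → ℂ) g‖ ^ 2 =
      ∑ g ∈ Finset.univ.filter (fun g : G => g ∈ Helper77.irrCenter ψ),
        (charDegree (ψ : G → ℂ) : ℝ) ^ 2 := by
    rw [Finset.sum_filter]
    apply Finset.sum_congr rfl
    intro g _
    by_cases hg : g ∈ Helper77.irrCenter ψ
    · rw [if_pos hg, (Helper77.mem_irrCenter ψ g).mp hg, hd]
    · rw [if_neg hg, hvan g hg, norm_zero]; norm_num
  rw [h2, Finset.sum_const, nsmul_eq_mul] at h1
  have h3 : (Finset.univ.filter (fun g : G => g ∈ Helper77.irrCenter ψ)).card =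
      Nat.card (Helper77.irrCenter ψ) := by
    rw [Nat.card_eq_fintype_card, Fintype.card_subtype]
  rw [h3] at h1
  exact_mod_cast h1

end ClassTwoChar

section StepTwo

variable {G : Type u} [Group G] [Fintype G]

/-- `⟨χψ, χψ⟩ = ⟨χ_Z, χ_Z⟩` when `ψ` vanishes off `Z = Z(ψ)`. -/
theorem classInner_mul_of_vanishing (ψ : IrrCharacter G) [Fintype (Helper77.irrCenter ψ)]
    (hvan : ∀ g : G, g ∉ Helper77.irrCenter ψ → (ψ : G → ℂ) g = 0) (χ : G → ℂ) :
    classInner (χ * (ψ : G → ℂ)) (χ * (ψ : G → ℂ)) =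
      classInner (fun z : Helper77.irrCenter ψ => χ z) (fun z : Helper77.irrCenter ψ => χ z) := by
  classical
  have hcard := card_irrCenter_mul_sq_of_vanishing ψ hvan
  have hd : (ψ : G → ℂ) 1 = (charDegree (ψ : G → ℂ) : ℂ) :=
    Helper78.IsCharacter.apply_one_eq_charDegree (Helper78.IsIrrCharacter.isCharacter ψ.2)
  have hψsq : ∀ g : G, (ψ : G → ℂ) g * conj ((ψ : G → ℂ) g) =
      if g ∈ Helper77.irrCenter ψ then ((charDegree (ψ : G → ℂ) : ℂ)) ^ 2 else 0 := by
    intro g
    by_cases hg : g ∈ Helper77.irrCenter ψ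
    · rw [if_pos hg, Complex.mul_conj, Complex.normSq_eq_norm_sq,
        (Helper77.mem_irrCenter ψ g).mp hg, hd]
      simp
    · rw [if_neg hg, hvan g hg, zero_mul]
  unfold classInner
  have h1 : ∑ g : G, (χ * (ψ : G → ℂ)) g * conj ((χ * (ψ : G → ℂ)) g) =
      ((charDegree (ψ : G → ℂ) : ℂ)) ^ 2 * ∑ z : Helper77.irrCenter ψ, χ z * conj (χ z) := by
    have h2 : ∀ g : G, (χ * (ψ : G → ℂ)) g * conj ((χ * (ψ : G → ℂ)) g) =
        if g ∈ Helper77.irrCenter ψ then ((charDegree (ψ : G → ℂ) : ℂ)) ^ 2 * (χ g * conj (χ g)) else 0 := by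
      intro g
      have : (χ * (ψ : G → ℂ)) g * conj ((χ * (ψ : G → ℂ)) g) =
          (χ g * conj (χ g)) * ((ψ : G → ℂ) g * conj ((ψ : G → ℂ) g)) := by
        simp only [Pi.mul_apply, map_mul]; ring
      rw [this, hψsq g]
      split_ifs <;> ring
    rw [Finset.sum_congr rfl (fun g _ => h2 g), ← Finset.sum_filter, Finset.mul_sum]
    rw [← Finset.sum_subtype (Finset.univ.filter (fun g : G => g ∈ Helper77.irrCenter ψ))
      (fun g => by simp) (fun g => ((charDegree (ψ : G → ℂ) : ℂ)) ^ 2 * (χ g * conj (χ g)))]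
  rw [h1]
  have hG : (Nat.card G : ℂ) = (Nat.card (Helper77.irrCenter ψ) : ℂ) * ((charDegree (ψ : G → ℂ) : ℂ)) ^ 2 := by
    rw [← hcard]; push_cast; ring
  have hZ0 : (Nat.card (Helper77.irrCenter ψ) : ℂ) ≠ 0 := by exact_mod_cast Nat.card_pos.ne'
  have hd0 : ((charDegree (ψ : G → ℂ) : ℂ)) ≠ 0 := by
    exact_mod_cast (Helper78.IsIrrCharacter.charDegree_pos ψ.2).ne'
  rw [hG]
  field_simp

/-- **Step 2**: with degrees `1, p`, if `ψ` of degree `p` vanishes off `Z(ψ) ≥ G'`, then `Z(ψ)` is
abelian. -/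
theorem irrCenter_abelian_of_vanishing (p : ℕ) (hp : p.Prime)
    (hcd : ∀ χ : IrrCharacter G, charDegree (χ : G → ℂ) = 1 ∨ charDegree (χ : G → ℂ) = p)
    (ψ : IrrCharacter G) (hψdeg : charDegree (ψ : G → ℂ) = p)
    (hvan : ∀ g : G, g ∉ Helper77.irrCenter ψ → (ψ : G → ℂ) g = 0) :
    ∀ a ∈ Helper77.irrCenter ψ, ∀ b ∈ Helper77.irrCenter ψ, a * b = b * a := by
  classical
  let _ : Fintype (Helper77.irrCenter ψ) := Fintype.ofFinite _
  intro a ha b hb
  have hmemG : ⁅a, b⁆ ∈ commutator G := by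
    rw [commutator_def]
    exact Subgroup.commutator_mem_commutator (Subgroup.mem_top a) (Subgroup.mem_top b)
  have key : ∀ χ : IrrCharacter G, (χ : G → ℂ) ⁅a, b⁆ = (χ : G → ℂ) 1 := by
    intro χ
    have hχc : IsCharacter G (χ : G → ℂ) := Helper78.IsIrrCharacter.isCharacter χ.2
    have hχ1 : (χ : G → ℂ) 1 = (charDegree (χ : G → ℂ) : ℂ) :=
      Helper78.IsCharacter.apply_one_eq_charDegree hχc
    rcases hcd χ with h1 | hpdeg
    · have h1' : (χ : G → ℂ) 1 = 1 := by rw [hχ1, h1, Nat.cast_one]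
      rw [Helper77.linear_character_eq_one_of_mem_commutator χ h1' _ hmemG, h1']
    · set χZ : Helper77.irrCenter ψ → ℂ := fun z => (χ : G → ℂ) z with hχZdef
      have hχZ : IsCharacter (Helper77.irrCenter ψ) χZ :=
        Helper75.isCharacter_res (Helper77.irrCenter ψ) hχc
      have hnotirr : ¬ IsIrrCharacter (Helper77.irrCenter ψ) χZ := by
        intro hirr
        have h2 := classInner_mul_of_vanishing ψ hvan (χ : G → ℂ)
        rw [Helper78.classInner_irr_self hirr] at h2
        have hprod : IsCharacter G ((χ : G → ℂ) * (ψ : G → ℂ)) :=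
          isCharacter_mul hχc (Helper78.IsIrrCharacter.isCharacter ψ.2)
        have hirr2 := Helper78.isIrrCharacter_of_classInner_self_eq_one hprod h2
        have hdeg2 : charDegree ((χ : G → ℂ) * (ψ : G → ℂ)) = p * p := by
          have h3 := Helper78.IsCharacter.apply_one_eq_charDegree hprod
          rw [Pi.mul_apply, hχ1, hpdeg,
            Helper78.IsCharacter.apply_one_eq_charDegree (Helper78.IsIrrCharacter.isCharacter ψ.2),
            hψdeg] at h3
          exact_mod_cast h3.symm
        have h4 := hcd ⟨_, hirr2⟩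
        simp only at h4
        rw [hdeg2] at h4
        have hp2 := hp.two_le
        rcases h4 with h4 | h4
        · nlinarith
        · nlinarith
      have hlin : ∀ θ : IrrCharacter (Helper77.irrCenter ψ),
          classInner χZ (θ : Helper77.irrCenter ψ → ℂ) ≠ 0 →
            charDegree (θ : Helper77.irrCenter ψ → ℂ) = 1 := by
        intro θ hover
        have h2 : charDegree (θ : Helper77.irrCenter ψ → ℂ) ∣ charDegree (χ : G → ℂ) :=
          charDegree_dvd_of_over (Helper77.irrCenter ψ) χ.2 θ.2 hover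
        rw [hpdeg] at h2
        rcases (Nat.dvd_prime hp).mp h2 with h3 | h3
        · exact h3
        · exfalso
          apply hnotirr
          have hd1 : χZ 1 = (θ : Helper77.irrCenter ψ → ℂ) 1 := by
            rw [Helper78.IsCharacter.apply_one_eq_charDegree hχZ,
              Helper78.IsCharacter.apply_one_eq_charDegree
                (Helper78.IsIrrCharacter.isCharacter θ.2), h3]
            have hdZ : charDegree χZ = charDegree (χ : G → ℂ) := rfl
            rw [hdZ, hpdeg]
          rw [eq_of_constituent_of_degree_eq hχZ θ.2 hover hd1]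
          exact θ.2
      -- evaluate the expansion of `χ_Z`
      have hexp := Helper78.IsCharacter.eq_sum_irr hχZ
      have hval : ∀ x : Helper77.irrCenter ψ, x ∈ commutator (Helper77.irrCenter ψ) →
          χZ x = χZ 1 := by
        intro x hx
        rw [hexp]
        simp only [Finset.sum_apply, Pi.smul_apply, smul_eq_mul]
        apply Finset.sum_congr rfl
        intro θ _
        by_cases hθ : classInner χZ (θ : Helper77.irrCenter ψ → ℂ) = 0
        · rw [hθ, zero_mul, zero_mul]
        · have h1 := hlin θ hθ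
          have h1' : (θ : Helper77.irrCenter ψ → ℂ) 1 = 1 := by
            rw [Helper78.IsCharacter.apply_one_eq_charDegree
              (Helper78.IsIrrCharacter.isCharacter θ.2), h1, Nat.cast_one]
          rw [Helper77.linear_character_eq_one_of_mem_commutator θ h1' x hx, h1']
      have hmem : ⁅(⟨a, ha⟩ : Helper77.irrCenter ψ), ⟨b, hb⟩⁆ ∈
          commutator (Helper77.irrCenter ψ) := by
        rw [commutator_def]
        exact Subgroup.commutator_mem_commutator (Subgroup.mem_top _) (Subgroup.mem_top _)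
      exact hval _ hmem
  have h2 := Helper78.isConj_of_forall_irr_eq key
  have h3 : ⁅a, b⁆ = 1 := isConj_one_right.mp h2.symm
  exact commutatorElement_eq_one_iff_mul_comm.mp h3

end StepTwo

/-- a subgroup containing the complement of a proper subgroup is everything -/
theorem eq_top_of_compl_le {A : Type*} [Group A] (H K : Subgroup A) (hH : H ≠ ⊤)
    (h : ∀ a, a ∉ H → a ∈ K) : K = ⊤ := by
  obtain ⟨a, ha⟩ : ∃ a, a ∉ H := by
    by_contra hc
    push Not at hc
    exact hH (eq_top_iff.mpr fun x _ => hc x)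
  rw [eq_top_iff]
  intro x _
  by_cases hx : x ∈ H
  · have h1 : a * x ∉ H := fun h' => ha (by simpa using H.mul_mem h' (H.inv_mem hx))
    have h2 := K.mul_mem (K.inv_mem (h a ha)) (h _ h1)
    simpa using h2
  · exact h x hx

section AbstractP

variable {G : Type*} [Group G] [Finite G] {A : Type*} [CommGroup A] [Finite A] (c : G → A →* A)
  (hc1 : ∀ a, c 1 a = a) (hcmul : ∀ g h a, c (g * h) a = c h (c g a))
  (S : A → Subgroup G) (hS : ∀ a g, g ∈ S a ↔ c g a = a)

/-- `κ_g : a ↦ a^g a⁻¹` -/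
def kap (g : G) : A →* A := c g / MonoidHom.id A

omit [Finite G] [Finite A] in
theorem kap_apply (g : G) (a : A) : kap c g a = c g a / a := rfl

omit [Finite G] [Finite A] in
theorem mem_ker_kap (g : G) (a : A) : a ∈ (kap c g).ker ↔ c g a = a := by
  rw [MonoidHom.mem_ker, kap_apply, div_eq_one]

omit [Finite G] [Finite A] in
include hc1 hcmul in
theorem act_pow_div_mem_range (g : G) (a : A) (j : ℕ) : c (g ^ j) a / a ∈ (kap c g).range := by
  induction j with
  | zero => rw [pow_zero, hc1, div_self']; exact Subgroup.one_mem _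
  | succ j ih =>
    have h1 : c (g ^ (j + 1)) a / a = kap c g (c (g ^ j) a) * (c (g ^ j) a / a) := by
      rw [kap_apply, pow_succ, hcmul, div_mul_div_cancel]
    rw [h1]
    exact Subgroup.mul_mem _ ⟨_, rfl⟩ ih

include hc1 hcmul hS in
/-- Lemma A: if `g` moves `a` and the stabilizer of `a` is normal of prime index, every conjugate
of `a` is a conjugate by a power of `g`. -/
theorem exists_pow_act_eq (p : ℕ) (hp : p.Prime) (a : A) (hn : (S a).Normal)
    (hidx : (S a).index = 1 ∨ (S a).index = p) (g : G) (hg : c g a ≠ a) (x : G) :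
    ∃ j : ℕ, c x a = c (g ^ j) a := by
  have hgS : g ∉ S a := fun h => hg ((hS a g).mp h)
  have hidxp : (S a).index = p := by
    rcases hidx with h | h
    · exact absurd (Subgroup.index_eq_one.mp h ▸ Subgroup.mem_top g) hgS
    · exact h
  have htop : S a ⊔ Subgroup.zpowers g = ⊤ := by
    by_contra hne
    have hle : S a ≤ S a ⊔ Subgroup.zpowers g := le_sup_left
    have hdvd : (S a ⊔ Subgroup.zpowers g).index ∣ p := by
      rw [← hidxp]; exact Subgroup.index_dvd_of_le hle
    rcases (Nat.dvd_prime hp).mp hdvd with h | h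
    · exact hne (Subgroup.index_eq_one.mp h)
    · have := eq_of_le_of_index_eq hle (by rw [hidxp, h])
      apply hgS
      rw [this]
      exact Subgroup.mem_sup_right (Subgroup.mem_zpowers g)
  have hx : x ∈ ((S a ⊔ Subgroup.zpowers g : Subgroup G) : Set G) := by
    rw [htop]; exact Set.mem_univ x
  rw [Subgroup.normal_mul] at hx
  obtain ⟨t, ht, y, hy, rfl⟩ := Set.mem_mul.mp hx
  have hy' : y ∈ Submonoid.powers g :=
    (isOfFinOrder_of_finite g).mem_powers_iff_mem_zpowers.mpr hy
  obtain ⟨j, rfl⟩ := hy'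
  refine ⟨j, ?_⟩
  rw [hcmul, (hS a t).mp ht]

include hc1 hcmul hS in
theorem range_kap_le (p : ℕ) (hp : p.Prime) (hn : ∀ a, (S a).Normal)
    (hidx : ∀ a, (S a).index = 1 ∨ (S a).index = p) (g : G) (hg : ∃ a, c g a ≠ a) (x : G) :
    (kap c x).range ≤ (kap c g).range := by
  have hK : ((kap c g).range.comap (kap c x)) = ⊤ := by
    apply eq_top_of_compl_le (kap c g).ker
    · intro htop
      obtain ⟨a, ha⟩ := hg
      apply ha
      rw [← mem_ker_kap, htop]
      trivial
    · intro a ha
      rw [mem_ker_kap] at ha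
      obtain ⟨j, hj⟩ := exists_pow_act_eq c hc1 hcmul S hS p hp a (hn a) (hidx a) g ha x
      rw [Subgroup.mem_comap, kap_apply, hj]
      exact act_pow_div_mem_range c hc1 hcmul g a j
  rintro _ ⟨a, rfl⟩
  have : a ∈ (kap c g).range.comap (kap c x) := by rw [hK]; trivial
  exact this

include hc1 hcmul hS in
/-- **covering count**: all `[A, g]`, `g ∉ Z`, coincide and have order `p`. -/
theorem card_range_kap_eq (p : ℕ) (hp : p.Prime) (Z : Subgroup G) (hZS : ∀ a, Z ≤ S a)
    (hZidx : Z.index = p ^ 2) (hn : ∀ a, (S a).Normal)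
    (hidx : ∀ a, (S a).index = 1 ∨ (S a).index = p)
    (hfaith : ∀ g, g ∉ Z → ∃ a, c g a ≠ a)
    (hpgrp : ∀ g a, ∃ k : ℕ, (c g a / a) ^ (p ^ k) = 1) (g : G) (hg : g ∉ Z) :
    Nat.card (kap c g).range = p := by
  classical
  haveI : Fact p.Prime := ⟨hp⟩
  let _ : Fintype G := Fintype.ofFinite G
  let _ : Fintype A := Fintype.ofFinite A
  set V := (kap c g).range with hV
  have hVeq : ∀ g' : G, g' ∉ Z → (kap c g').range = V := by
    intro g' hg'
    exact le_antisymm (range_kap_le c hc1 hcmul S hS p hp hn hidx g (hfaith g hg) g')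
      (range_kap_le c hc1 hcmul S hS p hp hn hidx g' (hfaith g' hg') g)
  -- `V` is a nontrivial `p`-group
  have hVp : IsPGroup p V := by
    rintro ⟨ν, a, rfl⟩
    obtain ⟨k, hk⟩ := hpgrp g a
    refine ⟨k, ?_⟩
    apply Subtype.ext
    rw [SubmonoidClass.coe_pow]
    exact hk
  obtain ⟨j, hj⟩ := IsPGroup.iff_card.mp hVp
  have hV1 : Nat.card V ≠ 1 := by
    intro h1
    have hbot : V = ⊥ := Subgroup.card_eq_one.mp h1
    obtain ⟨a, ha⟩ := hfaith g hg
    apply ha
    have : kap c g a ∈ V := ⟨a, rfl⟩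
    rw [hbot, Subgroup.mem_bot, kap_apply, div_eq_one] at this
    exact this
  -- sizes
  set n := Nat.card A with hn'
  set z := Nat.card Z with hz
  have hz0 : 0 < z := Nat.card_pos
  have hGcard : Nat.card G = p ^ 2 * z := by
    rw [← hZidx, hz, mul_comm]; exact (Subgroup.card_mul_index Z).symm
  have hker : ∀ g' : G, g' ∉ Z → Nat.card (kap c g').ker * Nat.card V = n := by
    intro g' hg'
    have h1 := Subgroup.card_mul_index (kap c g').ker
    rw [Subgroup.index_ker, hVeq g' hg'] at h1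
    exact h1
  set f := Nat.card (kap c g).ker with hf
  have hfv : f * Nat.card V = n := hker g hg
  have hkerf : ∀ g' : G, g' ∉ Z → Nat.card (kap c g').ker = f := by
    intro g' hg'
    have h1 := hker g' hg'
    rw [← hfv] at h1
    exact Nat.eq_of_mul_eq_mul_right Nat.card_pos h1
  have hf0 : 0 < f := Nat.card_pos
  -- double counting
  have hdc := Finset.sum_card_bipartiteAbove_eq_sum_card_bipartiteBelow
    (s := (Finset.univ : Finset G)) (t := (Finset.univ : Finset A))
    (fun g' a => g' ∉ Z ∧ c g' a = a)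
  have hL : ∀ g' : G, (Finset.bipartiteAbove (fun g' a => g' ∉ Z ∧ c g' a = a)
      (Finset.univ : Finset A) g').card = if g' ∈ Z then 0 else f := by
    intro g'
    unfold Finset.bipartiteAbove
    by_cases hg' : g' ∈ Z
    · rw [if_pos hg']
      rw [Finset.card_eq_zero, Finset.filter_eq_empty_iff]
      intro a _ h
      exact h.1 hg'
    · rw [if_neg hg', ← hkerf g' hg', Nat.card_eq_fintype_card, Fintype.card_subtype]
      congr 1
      ext a
      simp only [Finset.mem_filter, Finset.mem_univ, true_and, mem_ker_kap]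
      exact ⟨fun h => h.2, fun h => ⟨hg', h⟩⟩
  have hR : ∀ a : A, (Finset.bipartiteBelow (fun g' a => g' ∉ Z ∧ c g' a = a)
      (Finset.univ : Finset G) a).card + z = Nat.card (S a) := by
    intro a
    unfold Finset.bipartiteBelow
    have h1 : Nat.card (S a) = (Finset.univ.filter (fun g' : G => g' ∈ S a)).card := by
      rw [Nat.card_eq_fintype_card, Fintype.card_subtype]
    have h2 : z = (Finset.univ.filter (fun g' : G => g' ∈ Z)).card := by
      rw [hz, Nat.card_eq_fintype_card, Fintype.card_subtype]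
    rw [h1, h2, ← Finset.card_union_of_disjoint]
    · congr 1
      ext g'
      simp only [Finset.mem_union, Finset.mem_filter, Finset.mem_univ, true_and]
      constructor
      · rintro (h | h)
        · exact (hS a g').mpr h.2
        · exact hZS a h
      · intro h
        by_cases hg' : g' ∈ Z
        · exact Or.inr hg'
        · exact Or.inl ⟨hg', (hS a g').mp h⟩
    · rw [Finset.disjoint_filter]
      intro g' _ h h'
      exact h.1 h'
  have hSa : ∀ a : A, p * z ≤ Nat.card (S a) := by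
    intro a
    have h1 := Subgroup.card_mul_index (S a)
    rw [hGcard] at h1
    rcases hidx a with h | h
    · rw [h, mul_one] at h1
      rw [h1]
      nlinarith [hp.two_le]
    · rw [h] at h1
      have : Nat.card (S a) = p * z := by
        have hp0 : 0 < p := hp.pos
        apply Nat.eq_of_mul_eq_mul_right hp0
        rw [h1]; ring
      rw [this]
  have hS1 : Nat.card (S 1) = p ^ 2 * z := by
    have : S 1 = ⊤ := by
      rw [eq_top_iff]
      intro x _
      rw [hS, map_one]
    rw [this, Subgroup.card_top, hGcard]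
  -- left side
  set X := ∑ a : A, (Finset.bipartiteBelow (fun g' a => g' ∉ Z ∧ c g' a = a)
      (Finset.univ : Finset G) a).card with hX
  have hLsum : X + z * f = p ^ 2 * z * f := by
    rw [← hdc, Finset.sum_congr rfl (fun g' _ => hL g')]
    rw [Finset.sum_ite, Finset.sum_const_zero, zero_add, Finset.sum_const, smul_eq_mul]
    have h1 : (Finset.univ.filter (fun g' : G => ¬ g' ∈ Z)).card + z = p ^ 2 * z := by
      rw [← hGcard, Nat.card_eq_fintype_card, ← Finset.card_univ (α := G)]
      have h2 : z = (Finset.univ.filter (fun g' : G => g' ∈ Z)).card := by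
        rw [hz, Nat.card_eq_fintype_card, Fintype.card_subtype]
      rw [h2, add_comm]
      exact Finset.card_filter_add_card_filter_not _
    rw [← h1]; ring
  -- right side
  have hcardA : Fintype.card A = n := by rw [hn', Nat.card_eq_fintype_card]
  set T := ∑ a : A, Nat.card (S a) with hT
  have hXT : X + n * z = T := by
    have h1 : ∑ a : A, ((Finset.bipartiteBelow (fun g' a => g' ∉ Z ∧ c g' a = a)
        (Finset.univ : Finset G) a).card + z) = T :=
      Finset.sum_congr rfl (fun a _ => hR a)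
    rw [Finset.sum_add_distrib, Finset.sum_const, Finset.card_univ, smul_eq_mul, hcardA] at h1
    exact h1
  obtain ⟨m, hm⟩ : ∃ m, m + 1 = n := ⟨n - 1, Nat.sub_add_cancel Nat.card_pos⟩
  have hTge : p ^ 2 * z + m * (p * z) ≤ T := by
    have h2 : T = Nat.card (S 1) + ∑ a ∈ Finset.univ.erase (1 : A), Nat.card (S a) :=
      (Finset.add_sum_erase _ _ (Finset.mem_univ _)).symm
    have h3 : (Finset.univ.erase (1 : A)).card * (p * z) ≤
        ∑ a ∈ Finset.univ.erase (1 : A), Nat.card (S a) := by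
      rw [← smul_eq_mul, ← Finset.sum_const]
      exact Finset.sum_le_sum (fun a _ => hSa a)
    have h4 : (Finset.univ.erase (1 : A)).card = m := by
      have := Finset.card_erase_add_one (Finset.mem_univ (1 : A))
      rw [Finset.card_univ, hcardA] at this
      omega
    rw [h4] at h3
    rw [h2, hS1]
    omega
  -- conclude `v ≤ p`
  have hvle : Nat.card V ≤ p := by
    by_contra hcon
    push Not at hcon
    have hp2 := hp.two_le
    have h2 : (p + 1) * f ≤ n := by
      rw [← hfv]; nlinarith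
    -- pass to integers
    have e1 : (X : ℤ) + z * f = (p : ℤ) ^ 2 * z * f := by exact_mod_cast hLsum
    have e2 : (X : ℤ) + n * z = T := by exact_mod_cast hXT
    have e3 : (p : ℤ) ^ 2 * z + m * (p * z) ≤ T := by exact_mod_cast hTge
    have e4 : (m : ℤ) + 1 = n := by exact_mod_cast hm
    have e5 : ((p : ℤ) + 1) * f ≤ n := by exact_mod_cast h2
    have hz' : (0 : ℤ) < z := by exact_mod_cast hz0
    have hp' : (2 : ℤ) ≤ p := by exact_mod_cast hp2
    have key : (0 : ℤ) ≤ (z : ℤ) * ((p : ℤ) - 1) * (((p : ℤ) + 1) * f - n - p) := by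
      have : (z : ℤ) * ((p : ℤ) - 1) * (((p : ℤ) + 1) * f - n - p) =
          ((p : ℤ) ^ 2 * z * f - z * f + n * z) - ((p : ℤ) ^ 2 * z + (n - 1) * (p * z)) := by ring
      rw [this]
      have : (m : ℤ) = n - 1 := by linarith
      rw [this] at e3
      linarith
    have hneg : (((p : ℤ) + 1) * f - n - p) < 0 := by linarith
    have hpos : (0 : ℤ) < (z : ℤ) * ((p : ℤ) - 1) := by
      apply mul_pos hz'; linarith
    have := mul_neg_of_pos_of_neg hpos hneg
    linarith
  have hjpos : j ≠ 0 := by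
    rintro rfl
    exact hV1 (by rw [hj, pow_zero])
  have hge : p ≤ Nat.card V := by
    rw [hj]
    exact Nat.le_self_pow hjpos p
  exact le_antisymm hvle hge

end AbstractP


section Sep

/-- linear characters of a group all of whose irreducible characters are linear separate points -/
theorem eq_of_forall_hom_eq {H : Type u} [Group H] [Finite H]
    (hlin : ∀ θ : IrrCharacter H, charDegree (θ : H → ℂ) = 1) (a b : H)
    (h : ∀ lam : H →* ℂˣ, lam a = lam b) : a = b := by
  classical
  let _ : Fintype H := Fintype.ofFinite H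
  have hcomm := commutative_of_forall_charDegree_eq_one hlin
  have h1 : IsConj a b := by
    apply Helper78.isConj_of_forall_irr_eq
    intro θ
    have hθ1 : (θ : H → ℂ) 1 = 1 := by
      rw [Helper78.IsCharacter.apply_one_eq_charDegree (Helper78.IsIrrCharacter.isCharacter θ.2),
        hlin θ, Nat.cast_one]
    obtain ⟨lam, hlam⟩ := Helper77.exists_monoidHom_of_degree_one
      (Helper78.IsIrrCharacter.isCharacter θ.2) hθ1
    rw [hlam, hlam, h lam]
  obtain ⟨c, hc⟩ := isConj_iff.mp h1
  rw [← hc, hcomm c a, mul_assoc, mul_inv_cancel, mul_one]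

end Sep

section StepFour

variable {G : Type u} [Group G] [Fintype G]

/-- **Step 4**: an abelian normal self-centralizing subgroup `Z ≥ G'` of index `p²` in a group
with character degrees `1, p` (commutators being `p`-elements) has `|Z : Z(G)| = p`. -/
theorem center_index_of_self_centralizing (p : ℕ) (hp : p.Prime)
    (hcd : ∀ χ : IrrCharacter G, charDegree (χ : G → ℂ) = 1 ∨ charDegree (χ : G → ℂ) = p)
    (Z : Subgroup G) [hZn : Z.Normal] (hZab : ∀ a ∈ Z, ∀ b ∈ Z, a * b = b * a)
    (hZcomm : ∀ a b : G, ⁅a, b⁆ ∈ Z) (hZidx : Z.index = p ^ 2)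
    (hself : Subgroup.centralizer (Z : Set G) ≤ Z)
    (hpow : ∃ k : ℕ, ∀ a b : G, ⁅a, b⁆ ^ (p ^ k) = 1) :
    (Subgroup.center G).index = p ^ 3 := by
  classical
  haveI : Fact p.Prime := ⟨hp⟩
  let _ : Fintype Z := Fintype.ofFinite Z
  have hlin : ∀ θ : IrrCharacter Z, charDegree (θ : Z → ℂ) = 1 :=
    charDegree_eq_one_of_comm (fun a b => Subtype.ext (hZab a a.2 b b.2))
  haveI : Finite (Z →* ℂˣ) := Finite.of_equiv _ Helper77.linearCharEquiv
  have hZS : ∀ lam : Z →* ℂˣ, Z ≤ stab Z lam := le_stab Z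
  have hn : ∀ lam : Z →* ℂˣ, (stab Z lam).Normal := by
    intro lam
    constructor
    intro s hs g
    have h1 : g * s * g⁻¹ = ⁅g, s⁆ * s := by rw [commutatorElement_def]; group
    rw [h1]
    exact (stab Z lam).mul_mem (hZS lam (hZcomm g s)) hs
  have hidx : ∀ lam : Z →* ℂˣ, (stab Z lam).index = 1 ∨ (stab Z lam).index = p := by
    intro lam
    have hθ : IsIrrCharacter Z (homFun lam) := Helper77.isIrrCharacter_of_monoidHom lam
    obtain ⟨χ, hχ, hover⟩ := exists_irr_over' Z hθ
    have h1 : (stab Z lam).index ∣ charDegree χ := index_inertia_dvd_charDegree Z hχ hθ hover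
    rcases hcd ⟨χ, hχ⟩ with h | h
    · simp only at h
      rw [h] at h1
      exact Or.inl (Nat.dvd_one.mp h1)
    · simp only at h
      rw [h] at h1
      exact (Nat.dvd_prime hp).mp h1
  have hfaith : ∀ g, g ∉ Z → ∃ lam : Z →* ℂˣ, conjHom Z g lam ≠ lam := by
    intro g hg
    by_contra hcon
    push Not at hcon
    apply hg
    apply hself
    exact mem_centralizer_of_forall_mem_stab Z hlin g (fun lam => (mem_stab Z lam g).mpr (hcon lam))
  obtain ⟨k, hk⟩ := hpow
  have hpgrp : ∀ (g : G) (lam : Z →* ℂˣ), ∃ k : ℕ, (conjHom Z g lam / lam) ^ (p ^ k) = 1 := by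
    intro g lam
    refine ⟨k, ?_⟩
    ext z
    rw [MonoidHom.pow_apply, MonoidHom.div_apply, conjHom_apply, MonoidHom.one_apply]
    have h1 : lam ⟨g * z * g⁻¹, hZn.conj_mem z z.2 g⟩ / lam z =
        lam ⟨⁅g, (z : G)⁆, hZcomm g z⟩ := by
      rw [div_eq_iff_eq_mul, ← map_mul]
      congr 1
      apply Subtype.ext
      show g * z * g⁻¹ = ⁅g, (z : G)⁆ * z
      rw [commutatorElement_def]; group
    rw [h1, ← map_pow]
    have h2 : (⟨⁅g, (z : G)⁆, hZcomm g z⟩ : Z) ^ (p ^ k) = 1 := by
      apply Subtype.ext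
      rw [SubmonoidClass.coe_pow]
      exact hk g z
    rw [h2, map_one]
  -- choose `g0 ∉ Z`
  obtain ⟨g0, hg0⟩ : ∃ g0 : G, g0 ∉ Z := by
    by_contra hcon
    push Not at hcon
    have : Z = ⊤ := eq_top_iff.mpr (fun x _ => hcon x)
    rw [this, Subgroup.index_top] at hZidx
    have := hp.two_le
    nlinarith
  set V := (kap (conjHom Z) g0).range with hV
  have hcardV : Nat.card V = p :=
    card_range_kap_eq (conjHom Z) (conjHom_one Z) (conjHom_mul Z) (stab Z) (mem_stab Z) p hp Z hZS
      hZidx hn hidx hfaith hpgrp g0 hg0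
  have hall : ∀ x : G, (kap (conjHom Z) x).range ≤ V := fun x =>
    range_kap_le (conjHom Z) (conjHom_one Z) (conjHom_mul Z) (stab Z) (mem_stab Z) p hp hn hidx g0
      (hfaith g0 hg0) x
  -- a generator of `V`
  obtain ⟨lam0, hlam0⟩ := hfaith g0 hg0
  set nu0 : Z →* ℂˣ := kap (conjHom Z) g0 lam0 with hnu0
  have hnu0V : nu0 ∈ V := ⟨lam0, rfl⟩
  have hnu0ne : nu0 ≠ 1 := by
    intro h1
    apply hlam0
    rw [hnu0, kap_apply, div_eq_one] at h1
    exact h1
  have hgen : ∀ nu ∈ V, ∃ i : ℤ, nu = nu0 ^ i := by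
    intro nu hnu
    have h1 : (⟨nu0, hnu0V⟩ : V) ≠ 1 := fun h => hnu0ne (congrArg Subtype.val h)
    have h2 := mem_zpowers_of_prime_card (G := V) hcardV h1 (g' := ⟨nu, hnu⟩)
    obtain ⟨i, hi⟩ := Subgroup.mem_zpowers_iff.mp h2
    refine ⟨i, ?_⟩
    have := congrArg Subtype.val hi
    rw [SubgroupClass.coe_zpow] at this
    exact this.symm
  -- the centre is the kernel of `nu0`
  have hcenter : Subgroup.center G = nu0.ker.map Z.subtype := by
    apply le_antisymm
    · intro x hx
      have hxZ : x ∈ Z := by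
        apply hself
        rw [Subgroup.mem_centralizer_iff]
        intro y _
        exact Subgroup.mem_center_iff.mp hx y
      refine ⟨⟨x, hxZ⟩, ?_, rfl⟩
      rw [SetLike.mem_coe, MonoidHom.mem_ker, hnu0, kap_apply, MonoidHom.div_apply, conjHom_apply,
        div_eq_one]
      congr 1
      apply Subtype.ext
      show g0 * x * g0⁻¹ = x
      rw [Subgroup.mem_center_iff.mp hx g0, mul_assoc, mul_inv_cancel, mul_one]
    · rintro _ ⟨z, hz, rfl⟩
      rw [SetLike.mem_coe, MonoidHom.mem_ker] at hz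
      rw [Subgroup.mem_center_iff]
      intro x
      have h1 : (⟨x * z * x⁻¹, hZn.conj_mem z z.2 x⟩ : Z) = z := by
        apply eq_of_forall_hom_eq hlin
        intro lam
        obtain ⟨i, hi⟩ := hgen _ (hall x ⟨lam, rfl⟩)
        have h2 := congrArg (fun f : Z →* ℂˣ => f z) hi
        simp only [kap_apply, MonoidHom.div_apply, conjHom_apply, MonoidHom.zpow_apply] at h2
        rw [hz, one_zpow, div_eq_one] at h2
        exact h2
      have h3 : x * z * x⁻¹ = z := congrArg Subtype.val h1
      show x * (z : G) = z * x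
      calc x * (z : G) = (x * z * x⁻¹) * x := by group
        _ = z * x := by rw [h3]
  -- the index of the kernel
  have hker : nu0.ker.index = p := by
    rw [Subgroup.index_ker]
    have hle : nu0.range ≤ rootsOfUnity p ℂ := by
      rintro _ ⟨z, rfl⟩
      rw [mem_rootsOfUnity]
      have h1 : nu0 ^ p = 1 := by
        have h2 : (⟨nu0, hnu0V⟩ : V) ^ Nat.card V = 1 := pow_card_eq_one'
        rw [hcardV] at h2
        have := congrArg Subtype.val h2
        rw [SubmonoidClass.coe_pow] at this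
        exact this
      have h3 := congrArg (fun f : Z →* ℂˣ => f z) h1
      simp only [MonoidHom.pow_apply, MonoidHom.one_apply] at h3
      exact h3
    have hdvd : Nat.card nu0.range ∣ p := by
      have h1 := Subgroup.card_dvd_of_le hle
      haveI : NeZero p := ⟨hp.ne_zero⟩
      rw [Complex.card_rootsOfUnity] at h1
      exact h1
    rcases (Nat.dvd_prime hp).mp hdvd with h | h
    · exfalso
      apply hnu0ne
      have hbot : nu0.range = ⊥ := Subgroup.card_eq_one.mp h
      ext z
      have : nu0 z ∈ nu0.range := ⟨z, rfl⟩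
      rw [hbot, Subgroup.mem_bot] at this
      rw [this]; rfl
    · exact h
  rw [hcenter, Subgroup.index_map_subtype, hker, hZidx]
  ring

end StepFour


section Final

variable {G : Type u} [Group G] [Fintype G]

/-- **Isaacs 12.11, nilpotent case** -/
theorem cd_one_p_nilpotent (p : ℕ) (hp : p.Prime) [Group.IsNilpotent G]
    (hcd : ∀ χ : IrrCharacter G, charDegree (χ : G → ℂ) = 1 ∨ charDegree (χ : G → ℂ) = p)
    (hnonab : ∃ a b : G, a * b ≠ b * a)
    (hpow : ∃ k : ℕ, ∀ a b : G, ⁅a, b⁆ ^ (p ^ k) = 1) :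
    (∃ A : Subgroup G, A.Normal ∧ (∀ a ∈ A, ∀ b ∈ A, a * b = b * a) ∧ A.index = p) ∨
      (Subgroup.center G).index = p ^ 3 := by
  classical
  obtain ⟨ψ, hψdeg, hψcen, hψvan⟩ := exists_irr_vanishing_off_center hnonab
  have hψp : charDegree (ψ : G → ℂ) = p := (hcd ψ).resolve_left hψdeg
  set Z := Helper77.irrCenter ψ with hZdef
  have hZab := irrCenter_abelian_of_vanishing p hp hcd ψ hψp hψvan
  have hcard := card_irrCenter_mul_sq_of_vanishing ψ hψvan
  rw [hψp] at hcard
  have hZidx : Z.index = p ^ 2 := by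
    have h1 := Subgroup.card_mul_index Z
    rw [← hcard] at h1
    exact Nat.eq_of_mul_eq_mul_left Nat.card_pos h1
  by_cases hself : Subgroup.centralizer (Z : Set G) ≤ Z
  · right
    exact center_index_of_self_centralizing p hp hcd Z hZab hψcen hZidx hself hpow
  · left
    obtain ⟨x, hxC, hxZ⟩ := SetLike.not_le_iff_exists.mp hself
    set B : Subgroup G := Z ⊔ Subgroup.zpowers x with hB
    have hZB : Z ≤ B := le_sup_left
    have hxB : x ∈ B := Subgroup.mem_sup_right (Subgroup.mem_zpowers x)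
    have hdec : ∀ b ∈ B, ∃ z ∈ Z, ∃ y ∈ Subgroup.zpowers x, z * y = b := by
      intro b hb
      have h1 : b ∈ ((Z ⊔ Subgroup.zpowers x : Subgroup G) : Set G) := hb
      rw [Subgroup.normal_mul] at h1
      obtain ⟨z, hz, y, hy, rfl⟩ := Set.mem_mul.mp h1
      exact ⟨z, hz, y, hy, rfl⟩
    have hyC : ∀ y ∈ Subgroup.zpowers x, ∀ z ∈ Z, z * y = y * z := by
      intro y hy z hz
      have h1 : y ∈ Subgroup.centralizer (Z : Set G) := by
        have : Subgroup.zpowers x ≤ Subgroup.centralizer (Z : Set G) :=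
          (Subgroup.zpowers_le).mpr hxC
        exact this hy
      rw [Subgroup.mem_centralizer_iff] at h1
      exact h1 z hz
    have hyy : ∀ y₁ ∈ Subgroup.zpowers x, ∀ y₂ ∈ Subgroup.zpowers x, y₁ * y₂ = y₂ * y₁ := by
      intro y₁ h1 y₂ h2
      obtain ⟨i, rfl⟩ := Subgroup.mem_zpowers_iff.mp h1
      obtain ⟨j, rfl⟩ := Subgroup.mem_zpowers_iff.mp h2
      exact zpow_mul_comm x i j
    have hBab : ∀ a ∈ B, ∀ b ∈ B, a * b = b * a := by
      intro a ha b hb
      obtain ⟨z₁, hz₁, y₁, hy₁, rfl⟩ := hdec a ha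
      obtain ⟨z₂, hz₂, y₂, hy₂, rfl⟩ := hdec b hb
      calc z₁ * y₁ * (z₂ * y₂) = z₁ * (y₁ * z₂) * y₂ := by group
        _ = z₁ * (z₂ * y₁) * y₂ := by rw [hyC y₁ hy₁ z₂ hz₂]
        _ = (z₁ * z₂) * (y₁ * y₂) := by group
        _ = (z₂ * z₁) * (y₂ * y₁) := by rw [hZab z₁ hz₁ z₂ hz₂, hyy y₁ hy₁ y₂ hy₂]
        _ = z₂ * (z₁ * y₂) * y₁ := by group
        _ = z₂ * (y₂ * z₁) * y₁ := by rw [hyC y₂ hy₂ z₁ hz₁]
        _ = z₂ * y₂ * (z₁ * y₁) := by group
    have hBn : B.Normal := by
      constructor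
      intro b hb g
      have h1 : g * b * g⁻¹ = ⁅g, b⁆ * b := by rw [commutatorElement_def]; group
      rw [h1]
      exact B.mul_mem (hZB (hψcen g b)) hb
    refine ⟨B, hBn, hBab, ?_⟩
    have hdvd : B.index ∣ p ^ 2 := by
      rw [← hZidx]; exact Subgroup.index_dvd_of_le hZB
    obtain ⟨i, hi, hBi⟩ := (Nat.dvd_prime_pow hp).mp hdvd
    have hi0 : i ≠ 0 := by
      rintro rfl
      rw [pow_zero] at hBi
      have htop : B = ⊤ := Subgroup.index_eq_one.mp hBi
      obtain ⟨a, b, hab⟩ := hnonab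
      apply hab
      exact hBab a (by rw [htop]; trivial) b (by rw [htop]; trivial)
    have hi2 : i ≠ 2 := by
      rintro rfl
      have := eq_of_le_of_index_eq hZB (by rw [hZidx, hBi])
      apply hxZ
      rw [this]
      exact hxB
    have hi1 : i = 1 := by omega
    rw [hBi, hi1, pow_one]

end Final


section Iff

variable {G : Type u} [Group G] [Fintype G]

/-- a nonabelian group has a nonlinear irreducible character -/
theorem exists_nonlinear_of_nonabelian (hG : ∃ a b : G, a * b ≠ b * a) :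
    ∃ χ : IrrCharacter G, charDegree (χ : G → ℂ) ≠ 1 := by
  by_contra hcon
  push Not at hcon
  obtain ⟨a, b, hab⟩ := hG
  exact hab (commutative_of_forall_charDegree_eq_one hcon a b)

/-- **Isaacs 12.11**, forward direction. -/
theorem cd_one_p_forward (hG : ∃ a b : G, a * b ≠ b * a) (p : ℕ) (hp : p.Prime)
    (hcd : ∀ χ : IrrCharacter G, charDegree (χ : G → ℂ) = 1 ∨ charDegree (χ : G → ℂ) = p)
    (hm : ∃ χ : IrrCharacter G, charDegree (χ : G → ℂ) = p) :
    (∃ A : Subgroup G, A.Normal ∧ (∀ a ∈ A, ∀ b ∈ A, a * b = b * a) ∧ A.index = p) ∨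
      (Subgroup.center G).index = p ^ 3 := by
  classical
  rcases Cfsg.Agent.S4457.result p hcd hm hp.ne_one with h | ⟨q, e, hq, hpe, P, A, hPn, hAn, hP, hA, hinf, hsup⟩
  · exact Or.inl h
  · obtain ⟨rfl, -⟩ := (Nat.Prime.pow_eq_iff hp).mp hpe.symm
    have : Fact q.Prime := ⟨hq⟩
    have : Group.IsNilpotent G := isNilpotent_of_pgroup_sup_abelian q P A hP hA hinf hsup
    apply cd_one_p_nilpotent q hq hcd hG
    -- commutators lie in `P`
    have hdecomp : ∀ g : G, ∃ x ∈ P, ∃ a ∈ A, x * a = g := by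
      intro g
      have h1 : g ∈ ((P ⊔ A : Subgroup G) : Set G) := by rw [hsup]; exact Set.mem_univ g
      rw [Subgroup.mul_normal] at h1
      obtain ⟨x, hx, a, ha, rfl⟩ := Set.mem_mul.mp h1
      exact ⟨x, hx, a, ha, rfl⟩
    have hcommP : ∀ a b : G, ⁅a, b⁆ ∈ P := by
      intro a b
      obtain ⟨x, hx, a', ha', rfl⟩ := hdecomp a
      obtain ⟨y, hy, b', hb', rfl⟩ := hdecomp b
      have hx1 : (QuotientGroup.mk' P) x = 1 := (QuotientGroup.eq_one_iff x).mpr hx
      have hy1 : (QuotientGroup.mk' P) y = 1 := (QuotientGroup.eq_one_iff y).mpr hy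
      have h1 : (QuotientGroup.mk' P) ⁅x * a', y * b'⁆ = 1 := by
        rw [map_commutatorElement, map_mul, map_mul, hx1, hy1, one_mul, one_mul,
          ← map_commutatorElement]
        have h2 : ⁅a', b'⁆ = 1 := commutatorElement_eq_one_iff_mul_comm.mpr (hA a' ha' b' hb')
        rw [h2, map_one]
      exact (QuotientGroup.eq_one_iff _).mp h1
    obtain ⟨k, hk⟩ := IsPGroup.iff_card.mp hP
    refine ⟨k, fun a b => ?_⟩
    have h1 : (⟨⁅a, b⁆, hcommP a b⟩ : P) ^ Nat.card P = 1 := pow_card_eq_one'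
    rw [hk] at h1
    have := congrArg Subtype.val h1
    rw [SubmonoidClass.coe_pow] at this
    exact this

/-- **Isaacs 12.11**, backward direction. -/
theorem cd_one_p_backward (hG : ∃ a b : G, a * b ≠ b * a) (p : ℕ) (hp : p.Prime)
    (h : (∃ A : Subgroup G, A.Normal ∧ (∀ a ∈ A, ∀ b ∈ A, a * b = b * a) ∧ A.index = p) ∨
      (Subgroup.center G).index = p ^ 3) :
    (∀ χ : IrrCharacter G, charDegree (χ : G → ℂ) = 1 ∨ charDegree (χ : G → ℂ) = p) ∧
      ∃ χ : IrrCharacter G, charDegree (χ : G → ℂ) = p := by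
  classical
  have hcd : ∀ χ : IrrCharacter G, charDegree (χ : G → ℂ) = 1 ∨ charDegree (χ : G → ℂ) = p := by
    intro χ
    rcases h with ⟨A, hAn, hA, hAidx⟩ | hZ
    · have h1 := Helper75.ito A hA χ.1 χ.2
      rw [hAidx] at h1
      exact (Nat.dvd_prime hp).mp h1
    · have hcomm : ∀ a ∈ Subgroup.center G, ∀ b ∈ Subgroup.center G, a * b = b * a :=
        fun a ha b _ => (Subgroup.mem_center_iff.mp ha b).symm
      have h1 := Helper75.ito (Subgroup.center G) hcomm χ.1 χ.2
      rw [hZ] at h1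
      obtain ⟨i, hi, hdi⟩ := (Nat.dvd_prime_pow hp).mp h1
      have h2 := Helper77.card_mul_sq_le χ (Subgroup.center G)
        (fun z hz => (Helper77.mem_irrCenter χ z).mp (center_le_irrCenter' χ hz))
      have hd : ‖(χ : G → ℂ) 1‖ = (charDegree (χ : G → ℂ) : ℝ) := by
        rw [Helper78.IsCharacter.apply_one_eq_charDegree (Helper78.IsIrrCharacter.isCharacter χ.2)]
        simp
      rw [hd] at h2
      have h3 : Nat.card (Subgroup.center G) * charDegree (χ : G → ℂ) ^ 2 ≤ Nat.card G := by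
        exact_mod_cast h2
      have h4 := Subgroup.card_mul_index (Subgroup.center G)
      rw [hZ] at h4
      rw [← h4] at h3
      have h5 : charDegree (χ : G → ℂ) ^ 2 ≤ p ^ 3 := Nat.le_of_mul_le_mul_left h3 Nat.card_pos
      rw [hdi, ← pow_mul] at h5
      have h6 : i * 2 ≤ 3 := (Nat.pow_le_pow_iff_right hp.one_lt).mp h5
      have hi1 : i = 0 ∨ i = 1 := by omega
      rcases hi1 with rfl | rfl
      · left; rw [hdi, pow_zero]
      · right; rw [hdi, pow_one]
  refine ⟨hcd, ?_⟩
  obtain ⟨χ, hχ⟩ := exists_nonlinear_of_nonabelian hG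
  exact ⟨χ, (hcd χ).resolve_left hχ⟩

end Iff

end Cfsg.Agent.Lib.Helper80
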