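import Mathlib
import Cfsg.Agent.Lib.Helper39.UnitaryOrbA
import Cfsg.Agent.Lib.Helper29.FinFieldIrr

/-!
# MODULE ORB of S2512 (board #2764), helper80

`symplectic_orbit_of_no_idem`: if a symplectic matrix `A` over a finite field `F` commutes with no
non-trivial idempotent `π` with `πᵀ J = J π`, then any two eigenvalues `y, y'` of `A` in an
extension field satisfy `y' = y ^ (q ^ j)` or `y' = (y ^ (q ^ j))⁻¹`, `q = |F|`.

The proof is the one of `Cfsg.Agent.Lib.Helper39.UnitaryOrb.key_dichotomy`, for an abstract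
anti-automorphism `dag` of the matrix algebra over an arbitrary finite index type.
-/

set_option autoImplicit false

namespace Cfsg.Agent.Lib.Helper80.SympOrb

open Matrix Polynomial

section eigen
variable {F : Type*} [Field F] {K : Type*} [Field K] [Algebra F K]
variable {ι : Type*} [Fintype ι] [DecidableEq ι]

theorem mapMat_smul' (a : F) (X : Matrix ι ι F) :
    (algebraMap F K).mapMatrix (a • X) = algebraMap F K a • (algebraMap F K).mapMatrix X := by
  ext i j
  simp

theorem mapMat_pow_mulVec' (M : Matrix ι ι F) (v : ι → K) (c : K)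
    (h : (algebraMap F K).mapMatrix M *ᵥ v = c • v) (i : ℕ) :
    (algebraMap F K).mapMatrix (M ^ i) *ᵥ v = c ^ i • v := by
  induction i with
  | zero => rw [pow_zero, map_one, Matrix.one_mulVec, pow_zero, one_smul]
  | succ i ih =>
    rw [pow_succ, map_mul, ← Matrix.mulVec_mulVec, h, Matrix.mulVec_smul, ih, smul_smul, pow_succ']

theorem mapMat_aeval_mulVec' (M : Matrix ι ι F) (v : ι → K) (c : K)
    (h : (algebraMap F K).mapMatrix M *ᵥ v = c • v) (g : F[X]) :
    (algebraMap F K).mapMatrix (aeval M g) *ᵥ v = aeval c g • v := by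
  induction g using Polynomial.induction_on' with
  | add f g hf hg => rw [map_add, map_add, Matrix.add_mulVec, hf, hg, map_add, add_smul]
  | monomial i a =>
    rw [aeval_monomial, aeval_monomial, ← Algebra.smul_def, mapMat_smul', Matrix.smul_mulVec,
      mapMat_pow_mulVec' M v c h, smul_smul]

theorem exists_eigenvector' (A : Matrix ι ι F) (y : K) (hy : aeval y A.charpoly = 0) :
    ∃ v : ι → K, v ≠ 0 ∧ (algebraMap F K).mapMatrix A *ᵥ v = y • v := by
  have h1 : ((algebraMap F K).mapMatrix A).charpoly.eval y = 0 := by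
    rw [RingHom.mapMatrix_apply, Matrix.charpoly_map, Polynomial.eval_map_algebraMap]
    exact hy
  rw [Matrix.eval_charpoly] at h1
  obtain ⟨v, hv, hv0⟩ := Matrix.exists_mulVec_eq_zero_iff.mpr h1
  refine ⟨v, hv, ?_⟩
  rw [Matrix.sub_mulVec, sub_eq_zero] at hv0
  rw [← hv0]
  ext i
  simp [Matrix.scalar_apply, Matrix.mulVec, dotProduct, Matrix.diagonal_apply]

/-- an eigenvalue (with a non-zero eigenvector over `K`) is a root of the characteristic
polynomial -/
theorem aeval_charpoly_of_eigenvector (A : Matrix ι ι F) (y : K) (v : ι → K) (hv : v ≠ 0)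
    (h : (algebraMap F K).mapMatrix A *ᵥ v = y • v) : aeval y A.charpoly = 0 := by
  have h1 : ((algebraMap F K).mapMatrix A).charpoly.eval y = 0 := by
    rw [Matrix.eval_charpoly]
    apply Matrix.exists_mulVec_eq_zero_iff.mp
    refine ⟨v, hv, ?_⟩
    rw [Matrix.sub_mulVec, h, sub_eq_zero]
    ext i
    simp [Matrix.scalar_apply, Matrix.mulVec, dotProduct, Matrix.diagonal_apply]
  rw [RingHom.mapMatrix_apply, Matrix.charpoly_map, Polynomial.eval_map_algebraMap] at h1
  exact h1

theorem aeval_eq_zero_of_aeval_matrix' (A : Matrix ι ι F) (g : F[X])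
    (hg : aeval A g = 0) (z : K) (hz : aeval z A.charpoly = 0) : aeval z g = 0 := by
  obtain ⟨v, hv, hAv⟩ := exists_eigenvector' A z hz
  have h1 := mapMat_aeval_mulVec' A v z hAv g
  rw [hg, map_zero, Matrix.zero_mulVec] at h1
  rcases smul_eq_zero.mp h1.symm with h | h
  · exact h
  · exact absurd h hv

end eigen

section key
variable {F : Type*} [Field F] {K : Type*} [Field K] [Algebra F K]
variable {ι : Type*} [Fintype ι] [DecidableEq ι]

open Cfsg.Agent.Lib.Helper39.UnitaryOrb in
/-- the key dichotomy for an abstract `F`-linear anti-automorphism `dag` of the matrix algebra: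
if `dag A * A = 1` and `A` commutes with no non-trivial `dag`-fixed idempotent, then every
eigenvalue `z` of `A` has `f z = 0` or `f z⁻¹ = 0`, where the roots of `f` among the eigenvalues
are conjugates of a fixed eigenvalue `y`. -/
theorem key_dichotomy' (dag : Matrix ι ι F → Matrix ι ι F)
    (hmul : ∀ M N, dag (M * N) = dag N * dag M) (hdd : ∀ M, dag (dag M) = M)
    (haeval : ∀ (M : Matrix ι ι F) (f : F[X]), dag (aeval M f) = aeval (dag M) f)
    (A : Matrix ι ι F) (hA : dag A * A = 1)
    (hno : ∀ E : Matrix ι ι F, E * E = E → E * A = A * E → dag E = E → E = 0 ∨ E = 1)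
    (y : K) (hy : aeval y A.charpoly = 0) :
    ∃ f : F[X], (∀ z : K, aeval z A.charpoly = 0 → aeval z f = 0 → aeval z (minpoly F y) = 0) ∧
      ∀ z : K, aeval z A.charpoly = 0 → aeval z f = 0 ∨ aeval z⁻¹ f = 0 := by
  classical
  have hyint : IsIntegral F y := ⟨A.charpoly, Matrix.charpoly_monic A, hy⟩
  set h := minpoly F y with hh
  have hirr : Irreducible h := minpoly.irreducible hyint
  have hyh : aeval y h = 0 := minpoly.aeval F y
  have hint : IsIntegral F A := Algebra.IsIntegral.isIntegral A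
  have hμ0 : minpoly F A ≠ 0 := minpoly.ne_zero hint
  have hμy : aeval y (minpoly F A) = 0 :=
    aeval_eq_zero_of_aeval_matrix' A _ (minpoly.aeval F A) y hy
  have hhμ : h ∣ minpoly F A := minpoly.dvd F y hμy
  have hfin : FiniteMultiplicity h (minpoly F A) :=
    FiniteMultiplicity.of_not_isUnit hirr.not_isUnit hμ0
  obtain ⟨g2, hg2, hfg2⟩ := hfin.exists_eq_pow_mul_and_not_dvd
  set a := multiplicity h (minpoly F A) with ha
  have ha0 : a ≠ 0 := by
    intro h0
    rw [h0, pow_zero, one_mul] at hg2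
    exact hfg2 (hg2 ▸ hhμ)
  have hcop : IsCoprime (h ^ a) g2 := ((hirr.coprime_iff_not_dvd).2 hfg2).pow_left
  obtain ⟨u, v, huv⟩ := hcop
  refine ⟨u * h ^ a, ?_, ?_⟩
  · intro z hz hzf
    by_contra hzh
    have hzμ : aeval z (minpoly F A) = 0 :=
      aeval_eq_zero_of_aeval_matrix' A _ (minpoly.aeval F A) z hz
    rw [map_mul, map_pow] at hzf
    have hzu : aeval z u = 0 := by
      rcases mul_eq_zero.mp hzf with h1 | h1
      · exact h1
      · exact absurd (pow_eq_zero_iff ha0 |>.mp h1) hzh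
    have h2 := congrArg (aeval z) huv
    rw [map_add, map_mul, map_mul, hzu, zero_mul, zero_add, map_one] at h2
    have hzg2 : aeval z g2 ≠ 0 := by
      intro h3
      rw [h3, mul_zero] at h2
      exact zero_ne_one h2
    rw [hg2, map_mul, map_pow] at hzμ
    rcases mul_eq_zero.mp hzμ with h1 | h1
    · exact hzh (pow_eq_zero_iff ha0 |>.mp h1)
    · exact hzg2 h1
  · intro z hz
    set f := u * h ^ a with hf
    set B := dag A with hB
    have hAB : A * B = 1 := mul_eq_one_comm.mp hA
    have hcAB : Commute A B := by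
      rw [Commute, SemiconjBy, hAB, hA]
    set P := aeval A f with hP
    set Q := aeval B f with hQ
    have hQP : Q = dag P := by rw [hQ, hP, haeval]
    have hPP : P * P = P := by
      rw [hP, ← map_mul]
      have : f * f = f - u * v * minpoly F A := by
        rw [hf]
        linear_combination (u * h ^ a) * huv + (u * v) * hg2
      rw [this, map_sub, map_mul _ (u * v), minpoly.aeval, mul_zero, sub_zero]
    have hQQ : Q * Q = Q := by
      rw [hQP, ← hmul, hPP]
    have hcPQ : Commute P Q := commute_aeval_aeval A B hcAB f f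
    have hEE : (P * Q) * (P * Q) = P * Q := by
      calc (P * Q) * (P * Q) = P * (Q * P) * Q := by simp only [mul_assoc]
        _ = P * (P * Q) * Q := by rw [hcPQ.eq]
        _ = (P * P) * (Q * Q) := by simp only [mul_assoc]
        _ = P * Q := by rw [hPP, hQQ]
    have hEd : dag (P * Q) = P * Q := by
      rw [hmul, hQP, hdd]
    have hcPA : Commute P A := (commute_aeval A A (Commute.refl A) f).symm
    have hcQA : Commute Q A := (commute_aeval A B hcAB f).symm
    have hEA : (P * Q) * A = A * (P * Q) := by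
      rw [mul_assoc, hcQA.eq, ← mul_assoc, hcPA.eq, mul_assoc]
    obtain ⟨w, hw, hAw⟩ := exists_eigenvector' A z hz
    have hBA : (algebraMap F K).mapMatrix B * (algebraMap F K).mapMatrix A = 1 := by
      rw [← map_mul, hA, map_one]
    have hBw0 : z • ((algebraMap F K).mapMatrix B *ᵥ w) = w := by
      rw [← Matrix.mulVec_smul, ← hAw, Matrix.mulVec_mulVec, hBA, Matrix.one_mulVec]
    have hz0 : z ≠ 0 := by
      rintro rfl
      rw [zero_smul] at hBw0
      exact hw hBw0.symm
    have hBw : (algebraMap F K).mapMatrix B *ᵥ w = z⁻¹ • w := by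
      rw [← hBw0, smul_smul, inv_mul_cancel₀ hz0, one_smul, hBw0]
    have hPw : (algebraMap F K).mapMatrix P *ᵥ w = aeval z f • w :=
      mapMat_aeval_mulVec' A w z hAw f
    have hQw : (algebraMap F K).mapMatrix Q *ᵥ w = aeval z⁻¹ f • w :=
      mapMat_aeval_mulVec' B w z⁻¹ hBw f
    rcases hno (P * Q) hEE hEA hEd with hE | hE
    · have h1 : (algebraMap F K).mapMatrix (P * Q) *ᵥ w = 0 := by
        rw [hE, map_zero, Matrix.zero_mulVec]
      rw [map_mul, ← Matrix.mulVec_mulVec, hQw, Matrix.mulVec_smul, hPw, smul_smul] at h1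
      rcases smul_eq_zero.mp h1 with h2 | h2
      · rcases mul_eq_zero.mp h2 with h3 | h3
        · exact Or.inr h3
        · exact Or.inl h3
      · exact absurd h2 hw
    · exfalso
      obtain ⟨w', hw', hAw'⟩ := exists_eigenvector' A y hy
      have hPw' : (algebraMap F K).mapMatrix P *ᵥ w' = aeval y f • w' :=
        mapMat_aeval_mulVec' A w' y hAw' f
      have hfy : aeval y f = 0 := by
        rw [hf, map_mul, map_pow, hyh, zero_pow ha0, mul_zero]
      rw [hfy, zero_smul] at hPw'
      have h1 : (algebraMap F K).mapMatrix (P * Q) *ᵥ w' = w' := by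
        rw [hE, map_one, Matrix.one_mulVec]
      rw [hcPQ.eq, map_mul, ← Matrix.mulVec_mulVec, hPw', Matrix.mulVec_zero] at h1
      exact hw' h1.symm

/-- with `dag A * A = 1`, the inverse of an eigenvalue of `A` is an eigenvalue of `dag A` -/
theorem aeval_inv_charpoly_dag (dag : Matrix ι ι F → Matrix ι ι F)
    (A : Matrix ι ι F) (hA : dag A * A = 1) (z : K) (hz : aeval z A.charpoly = 0) :
    aeval z⁻¹ (dag A).charpoly = 0 := by
  obtain ⟨w, hw, hAw⟩ := exists_eigenvector' A z hz
  have hBA : (algebraMap F K).mapMatrix (dag A) * (algebraMap F K).mapMatrix A = 1 := by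
    rw [← map_mul, hA, map_one]
  have hBw0 : z • ((algebraMap F K).mapMatrix (dag A) *ᵥ w) = w := by
    rw [← Matrix.mulVec_smul, ← hAw, Matrix.mulVec_mulVec, hBA, Matrix.one_mulVec]
  have hz0 : z ≠ 0 := by
    rintro rfl
    rw [zero_smul] at hBw0
    exact hw hBw0.symm
  have hBw : (algebraMap F K).mapMatrix (dag A) *ᵥ w = z⁻¹ • w := by
    rw [← hBw0, smul_smul, inv_mul_cancel₀ hz0, one_smul, hBw0]
  exact aeval_charpoly_of_eigenvector (dag A) z⁻¹ w hw hBw

end key

section symp
variable {F : Type*} [Field F] {l : Type*} [Fintype l] [DecidableEq l]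

/-- the symplectic adjoint `M ↦ -(J Mᵀ J) = J⁻¹ Mᵀ J` -/
def sdag (M : Matrix (l ⊕ l) (l ⊕ l) F) : Matrix (l ⊕ l) (l ⊕ l) F := -(J l F * Mᵀ * J l F)

theorem sdag_mul (M N : Matrix (l ⊕ l) (l ⊕ l) F) : sdag (M * N) = sdag N * sdag M := by
  unfold sdag
  rw [Matrix.transpose_mul]
  have h : J l F * Nᵀ * J l F * (J l F * Mᵀ * J l F) = J l F * Nᵀ * (J l F * J l F) * Mᵀ * J l F := by
    simp only [Matrix.mul_assoc]
  rw [neg_mul_neg, h, J_squared]
  simp [Matrix.mul_assoc]

theorem sdag_add (M N : Matrix (l ⊕ l) (l ⊕ l) F) : sdag (M + N) = sdag M + sdag N := by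
  unfold sdag
  rw [Matrix.transpose_add, Matrix.mul_add, Matrix.add_mul, neg_add]

theorem sdag_smul (c : F) (M : Matrix (l ⊕ l) (l ⊕ l) F) : sdag (c • M) = c • sdag M := by
  unfold sdag
  rw [Matrix.transpose_smul, Matrix.mul_smul, Matrix.smul_mul, smul_neg]

theorem sdag_one : sdag (1 : Matrix (l ⊕ l) (l ⊕ l) F) = 1 := by
  unfold sdag
  rw [Matrix.transpose_one, Matrix.mul_one, J_squared, neg_neg]

theorem sdag_sdag (M : Matrix (l ⊕ l) (l ⊕ l) F) : sdag (sdag M) = M := by
  unfold sdag
  rw [Matrix.transpose_neg, Matrix.transpose_mul, Matrix.transpose_mul,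
    Matrix.transpose_transpose, J_transpose]
  have h : J l F * -(-J l F * (M * -J l F)) * J l F = -((J l F * J l F) * M * (J l F * J l F)) := by
    simp only [Matrix.mul_neg, Matrix.neg_mul, neg_neg, Matrix.mul_assoc]
  rw [h, J_squared]
  simp

theorem sdag_pow (M : Matrix (l ⊕ l) (l ⊕ l) F) (i : ℕ) : sdag (M ^ i) = sdag M ^ i := by
  induction i with
  | zero => rw [pow_zero, pow_zero, sdag_one]
  | succ i ih => rw [pow_succ, sdag_mul, ih, pow_succ']

theorem sdag_aeval (A : Matrix (l ⊕ l) (l ⊕ l) F) (f : F[X]) :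
    sdag (aeval A f) = aeval (sdag A) f := by
  induction f using Polynomial.induction_on' with
  | add f g hf hg => rw [map_add, sdag_add, hf, hg, map_add]
  | monomial i a =>
    rw [aeval_monomial, aeval_monomial, ← Algebra.smul_def, ← Algebra.smul_def, sdag_smul,
      sdag_pow]

theorem sdag_mul_self_of_mem (A : Matrix (l ⊕ l) (l ⊕ l) F) (hA : A ∈ symplecticGroup l F) :
    sdag A * A = 1 := by
  have := SymplecticGroup.inv_left_mul_aux hA
  unfold sdag
  rw [Matrix.neg_mul]
  exact this

theorem sdag_eq_self_iff (E : Matrix (l ⊕ l) (l ⊕ l) F) :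
    sdag E = E ↔ Eᵀ * J l F = J l F * E := by
  unfold sdag
  constructor
  · intro h
    have h1 : J l F * (-(J l F * Eᵀ * J l F)) = J l F * E := by rw [h]
    have h2 : J l F * (-(J l F * Eᵀ * J l F)) = -((J l F * J l F) * Eᵀ * J l F) := by
      simp only [Matrix.mul_neg, Matrix.mul_assoc]
    rw [h2, J_squared] at h1
    simpa using h1
  · intro h
    rw [Matrix.mul_assoc, h, ← Matrix.mul_assoc, J_squared]
    simp

theorem charpoly_sdag (A : Matrix (l ⊕ l) (l ⊕ l) F) : (sdag A).charpoly = A.charpoly := by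
  unfold sdag
  have h : -(J l F * Aᵀ * J l F) = (-(J l F * Aᵀ)) * J l F := by rw [Matrix.neg_mul]
  rw [h, Matrix.charpoly_mul_comm]
  have h2 : J l F * -(J l F * Aᵀ) = -((J l F * J l F) * Aᵀ) := by
    simp only [Matrix.mul_neg, Matrix.mul_assoc]
  rw [h2, J_squared]
  simp [Matrix.charpoly_transpose]

end symp

section main
variable {F : Type*} [Field F] [Fintype F]

/-- MODULE ORB of board #2764 (S2512), exact statement. -/
theorem symplectic_orbit_of_no_idem {n : ℕ}
    (A : Matrix (Fin n ⊕ Fin n) (Fin n ⊕ Fin n) F) (hA : A ∈ symplecticGroup (Fin n) F)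
    (hno : ¬ ∃ π : Matrix (Fin n ⊕ Fin n) (Fin n ⊕ Fin n) F, π * π = π ∧ π ≠ 0 ∧ π ≠ 1 ∧
      π * A = A * π ∧ πᵀ * J (Fin n) F = J (Fin n) F * π)
    {K : Type*} [Field K] [Algebra F K] (y y' : K) (hy : aeval y A.charpoly = 0)
    (hy' : aeval y' A.charpoly = 0) :
    ∃ j : ℕ, y' = y ^ (Fintype.card F ^ j) ∨ y' = (y ^ (Fintype.card F ^ j))⁻¹ := by
  classical
  have hA' : sdag A * A = 1 := sdag_mul_self_of_mem A hA
  have hno' : ∀ E : Matrix (Fin n ⊕ Fin n) (Fin n ⊕ Fin n) F, E * E = E → E * A = A * E →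
      sdag E = E → E = 0 ∨ E = 1 := by
    intro E h1 h2 h3
    by_contra hcon
    rw [not_or] at hcon
    exact hno ⟨E, h1, hcon.1, hcon.2, h2, (sdag_eq_self_iff E).mp h3⟩
  obtain ⟨f, hf1, hf2⟩ := key_dichotomy' (K := K) sdag sdag_mul sdag_sdag sdag_aeval A hA' hno' y hy
  have hirr : Irreducible (minpoly F y) :=
    minpoly.irreducible ⟨A.charpoly, Matrix.charpoly_monic A, hy⟩
  have hyh : aeval y (minpoly F y) = 0 := minpoly.aeval F y
  rcases hf2 y' hy' with h1 | h1
  · have h2 := hf1 y' hy' h1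
    obtain ⟨j, hj⟩ := Cfsg.Agent.Lib.Helper29.exists_pow_card_pow_eq_of_irreducible
      (minpoly F y) hirr y y' hyh h2
    exact ⟨j, Or.inl hj⟩
  · have h4 : aeval y'⁻¹ A.charpoly = 0 := by
      have := aeval_inv_charpoly_dag (K := K) sdag A hA' y' hy'
      rwa [charpoly_sdag] at this
    have h5 := hf1 y'⁻¹ h4 h1
    obtain ⟨j, hj⟩ := Cfsg.Agent.Lib.Helper29.exists_pow_card_pow_eq_of_irreducible
      (minpoly F y) hirr y y'⁻¹ hyh h5
    refine ⟨j, Or.inr ?_⟩
    rw [← hj, inv_inv]

end main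

end Cfsg.Agent.Lib.Helper80.SympOrb
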