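import Mathlib
import Cfsg.Agent.Lib.Helper92.BPDefs
import Cfsg.Agent.Lib.Helper80.BPUnit
import Cfsg.Agent.Lib.Helper80.BPCrt

/-!
PROJECT BP (helper92's sheet), module BP-[L1-RAD]: a two-sided ideal containing no nonzero
idempotent below `e` lies in the radical of the corner `e Λ e`.
-/

set_option autoImplicit false

namespace Cfsg.Agent.Lib.Helper80.BP

open Polynomial Cfsg.Agent.Lib.Helper92.BP

section Rad
variable {R : Type*} [CommRing R] [IsDomain R] [IsLocalRing R]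
variable {Λ : Type*} [Ring Λ] [Algebra R Λ]

omit [IsDomain R] in
/-- congruent elements have congruent powers modulo `𝔪Λ` -/
theorem pow_sub_pow_mem_mΛ {a b : Λ}
    (h : a - b ∈ (IsLocalRing.maximalIdeal R • ⊤ : Submodule R Λ)) (k : ℕ) :
    a ^ k - b ^ k ∈ (IsLocalRing.maximalIdeal R • ⊤ : Submodule R Λ) := by
  induction k with
  | zero => simp
  | succ k ih =>
    have h1 : a ^ (k + 1) - b ^ (k + 1) = a ^ k * (a - b) + (a ^ k - b ^ k) * b := by
      rw [pow_succ, pow_succ]; noncomm_ring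
    rw [h1]
    exact add_mem (mΛ_mul_left h _) (mΛ_mul_right ih _)

omit [IsDomain R] in
/-- if a power of `x` lies in `𝔪Λ` then `1 - x` is a unit -/
theorem isUnit_one_sub_of_pow_mem [Module.Finite R Λ] (x : Λ) (k : ℕ)
    (hk : x ^ k ∈ (IsLocalRing.maximalIdeal R • ⊤ : Submodule R Λ)) : IsUnit (1 - x) := by
  have h1 : (1 - x) * ∑ i ∈ Finset.range k, x ^ i = 1 - x ^ k := mul_neg_geom_sum x k
  have ht : IsUnit (1 - x ^ k) := by
    apply isUnit_of_sub_one_mem (R := R)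
    have : (1 - x ^ k) - 1 = -x ^ k := by abel
    rw [this]; exact neg_mem hk
  have hc : Commute (1 - x) (∑ i ∈ Finset.range k, x ^ i) := by
    apply Commute.sub_left (Commute.one_left _)
    exact Commute.sum_right _ _ _ (fun i _ => Commute.pow_right (Commute.refl x) i)
  rw [← h1] at ht
  exact ((Commute.isUnit_mul_iff hc).mp ht).1

/-- a corner element `x` with `x + (1 - e)` invertible in `Λ` is a corner unit -/
theorem cornerUnit_of_isUnit_add {Λ : Type*} [Ring Λ] {e : Λ} (he : IsIdempotentElem e) (x : Λ)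
    (hx : InCorner e x) (hu : IsUnit (x + (1 - e))) : CornerUnit e x := by
  obtain ⟨hex, hxe'⟩ := hx
  have he2 : e * e = e := he
  obtain ⟨u, hu⟩ := hu
  have h1 : (x + (1 - e)) * (↑u⁻¹ : Λ) = 1 := by rw [← hu]; exact u.mul_inv
  have h2 : (↑u⁻¹ : Λ) * (x + (1 - e)) = 1 := by rw [← hu]; exact u.inv_mul
  have hc1 : e * (x + (1 - e)) = x := by
    rw [mul_add, hex, mul_sub, mul_one, he2, sub_self, add_zero]
  have hc2 : (x + (1 - e)) * e = x := by
    rw [add_mul, hxe', sub_mul, one_mul, he2, sub_self, add_zero]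
  have hc3 : e * (↑u⁻¹ : Λ) = (↑u⁻¹ : Λ) * e := by
    calc e * (↑u⁻¹ : Λ) = ((↑u⁻¹ : Λ) * (x + (1 - e))) * (e * (↑u⁻¹ : Λ)) := by rw [h2, one_mul]
      _ = (↑u⁻¹ : Λ) * (((x + (1 - e)) * e) * (↑u⁻¹ : Λ)) := by noncomm_ring
      _ = (↑u⁻¹ : Λ) * ((e * (x + (1 - e))) * (↑u⁻¹ : Λ)) := by rw [hc1, hc2]
      _ = (↑u⁻¹ : Λ) * e * ((x + (1 - e)) * (↑u⁻¹ : Λ)) := by noncomm_ring
      _ = (↑u⁻¹ : Λ) * e := by rw [h1, mul_one]
  refine ⟨⟨hex, hxe'⟩, e * (↑u⁻¹ : Λ), ⟨?_, ?_⟩, ?_, ?_⟩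
  · rw [← mul_assoc, he2]
  · rw [hc3, mul_assoc, he2]
  · calc x * (e * (↑u⁻¹ : Λ)) = (x * e) * (↑u⁻¹ : Λ) := by rw [mul_assoc]
      _ = (e * (x + (1 - e))) * (↑u⁻¹ : Λ) := by rw [hxe', hc1]
      _ = e * ((x + (1 - e)) * (↑u⁻¹ : Λ)) := by rw [mul_assoc]
      _ = e := by rw [h1, mul_one]
  · calc e * (↑u⁻¹ : Λ) * x = (↑u⁻¹ : Λ) * (e * x) := by rw [hc3, mul_assoc]
      _ = (↑u⁻¹ : Λ) * ((x + (1 - e)) * e) := by rw [hex, hc2]
      _ = ((↑u⁻¹ : Λ) * (x + (1 - e))) * e := by rw [mul_assoc]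
      _ = e := by rw [h2, one_mul]

/-- BP-[L1-RAD] : an ideal without idempotents below `e` is in the radical of the corner -/
theorem cornerUnit_sub_of_no_idem (hR : MonicSplits R) [Module.Finite R Λ] {e : Λ}
    (he : IsIdempotentElem e) (J : Ideal Λ) [J.IsTwoSided]
    (hJ : ∀ f : Λ, IdemLE f e → f ∈ J → f = 0) (x : Λ) (hx : InCorner e x) (hxJ : x ∈ J) :
    CornerUnit e (e - x) := by
  classical
  obtain ⟨n, ε, α, hle, _horth, hsum, _hcomm, hdiff, hdiv, hnil⟩ := corner_crt hR he x hx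
  have he2 : e * e = e := he
  have hzero : ∀ i, α i ∉ IsLocalRing.maximalIdeal R → ε i = 0 := by
    intro i hi
    obtain ⟨y, hy⟩ := hdiv i hi
    exact hJ _ (hle i) (hy ▸ J.mul_mem_right y hxJ)
  -- some power of `x` lies in `𝔪Λ`
  have key : ∃ k : ℕ, x ^ k ∈ (IsLocalRing.maximalIdeal R • ⊤ : Submodule R Λ) := by
    by_cases hS : ∃ i, α i ∈ IsLocalRing.maximalIdeal R
    · obtain ⟨i0, hi0⟩ := hS
      have hothers : ∀ j, j ≠ i0 → ε j = 0 := fun j hj =>
        hzero j (fun hjm => hdiff j i0 hj (sub_mem hjm hi0))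
      have heq : ε i0 = e := by
        rw [← hsum]
        exact (Finset.sum_eq_single i0 (fun j _ hj => hothers j hj) (by simp)).symm
      obtain ⟨m, hm⟩ := hnil i0
      rw [heq] at hm
      have hν : (x - α i0 • e) * e = x - α i0 • e := by
        rw [sub_mul, hx.2, smul_mul_assoc, he2]
      rw [hν] at hm
      have hsub : x - (x - α i0 • e) ∈ (IsLocalRing.maximalIdeal R • ⊤ : Submodule R Λ) := by
        have : x - (x - α i0 • e) = α i0 • e := by abel
        rw [this]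
        exact Submodule.smul_mem_smul hi0 Submodule.mem_top
      refine ⟨m, ?_⟩
      have h2 := pow_sub_pow_mem_mΛ hsub m
      have : x ^ m = (x ^ m - (x - α i0 • e) ^ m) + (x - α i0 • e) ^ m := by abel
      rw [this]
      exact add_mem h2 hm
    · push Not at hS
      have h0 : e = 0 := by
        rw [← hsum]
        exact Finset.sum_eq_zero (fun i _ => hzero i (hS i))
      refine ⟨1, ?_⟩
      rw [pow_one, ← hx.1, h0, zero_mul]
      exact zero_mem _
  obtain ⟨k, hk⟩ := key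
  have hu : IsUnit (1 - x) := isUnit_one_sub_of_pow_mem (R := R) x k hk
  apply cornerUnit_of_isUnit_add he
  · refine ⟨?_, ?_⟩
    · rw [mul_sub, he2, hx.1]
    · rw [sub_mul, he2, hx.2]
  · have : e - x + (1 - e) = 1 - x := by abel
    rw [this]; exact hu

end Rad

end Cfsg.Agent.Lib.Helper80.BP
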