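import Mathlib

/-!
Project STEINBERG phase 3c (S2399, helper60's sheet), module P-[SCHURFIN]: a central extension of a finite
group has a finite commutator subgroup (Schur).
-/

set_option autoImplicit false

namespace Cfsg.Agent.Lib.Helper80.St3

universe v w

open scoped commutatorElement

variable {E : Type w} [Group E]

theorem commutatorElement_eq_of_map_eq {G : Type v} [Group G] (ψ : E →* G)
    (hc : ψ.ker ≤ Subgroup.center E) {a a' b b' : E} (ha : ψ a = ψ a') (hb : ψ b = ψ b') :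
    ⁅a, b⁆ = ⁅a', b'⁆ := by
  have hza : a'⁻¹ * a ∈ Subgroup.center E := hc (by
    rw [MonoidHom.mem_ker, map_mul, map_inv, ha, inv_mul_cancel])
  have hzb : b'⁻¹ * b ∈ Subgroup.center E := hc (by
    rw [MonoidHom.mem_ker, map_mul, map_inv, hb, inv_mul_cancel])
  obtain ⟨z, hz⟩ : ∃ z, a = a' * z ∧ z ∈ Subgroup.center E := ⟨a'⁻¹ * a, by group, hza⟩
  obtain ⟨w, hw⟩ : ∃ w, b = b' * w ∧ w ∈ Subgroup.center E := ⟨b'⁻¹ * b, by group, hzb⟩
  obtain ⟨rfl, hz⟩ := hz
  obtain ⟨rfl, hw⟩ := hw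
  have hz' : ∀ g : E, g * z = z * g := fun g => Subgroup.mem_center_iff.mp hz g
  have hw' : ∀ g : E, g * w = w * g := fun g => Subgroup.mem_center_iff.mp hw g
  have hzi : ∀ g : E, g * z⁻¹ = z⁻¹ * g :=
    fun g => Subgroup.mem_center_iff.mp ((Subgroup.center E).inv_mem hz) g
  have hwi : ∀ g : E, g * w⁻¹ = w⁻¹ * g :=
    fun g => Subgroup.mem_center_iff.mp ((Subgroup.center E).inv_mem hw) g
  simp only [commutatorElement_def, mul_inv_rev]
  calc a' * z * (b' * w) * (z⁻¹ * a'⁻¹) * (w⁻¹ * b'⁻¹)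
      = a' * (z * (b' * w) * z⁻¹) * a'⁻¹ * w⁻¹ * b'⁻¹ := by group
    _ = a' * (b' * w) * a'⁻¹ * w⁻¹ * b'⁻¹ := by
        rw [← hz' (b' * w), mul_assoc (b' * w), mul_inv_cancel, mul_one]
    _ = a' * b' * (w * a'⁻¹ * w⁻¹) * b'⁻¹ := by group
    _ = a' * b' * a'⁻¹ * b'⁻¹ := by
        rw [← hw' a'⁻¹, mul_assoc a'⁻¹, mul_inv_cancel, mul_one]

theorem finite_commutator_of_central {G : Type v} [Group G] [Finite G] (ψ : E →* G)
    (hc : ψ.ker ≤ Subgroup.center E) : Finite (commutator E) := by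
  classical
  have hfin : (commutatorSet E).Finite := by
    -- choose a section of `ψ` on its range
    let σ : G → E := fun g => if h : ∃ a, ψ a = g then h.choose else 1
    have hσ : ∀ a : E, ψ (σ (ψ a)) = ψ a := by
      intro a
      have h : ∃ a', ψ a' = ψ a := ⟨a, rfl⟩
      simp only [σ, dif_pos h]
      exact h.choose_spec
    refine Set.Finite.subset (Set.finite_range (fun q : G × G => ⁅σ q.1, σ q.2⁆)) ?_
    rintro x ⟨a, b, rfl⟩
    refine ⟨(ψ a, ψ b), ?_⟩
    exact commutatorElement_eq_of_map_eq ψ hc (hσ a) (hσ b)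
  have : Finite (commutatorSet E) := hfin.to_subtype
  infer_instance

end Cfsg.Agent.Lib.Helper80.St3
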