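import Mathlib

/-!
Project STEINBERG phase 3c (S2399, helper60's sheet), module P-[SYL]: in a finite central extension whose
kernel has no `p`-torsion, every `p`-subgroup of the quotient lifts to a `p`-subgroup mapping bijectively onto
it and containing every element of order dividing `p` over it.
-/

set_option autoImplicit false

namespace Cfsg.Agent.Lib.Helper80.St3

universe v w

variable {Γ : Type v} [Group Γ] {E : Type w} [Group E]

theorem eq_one_of_pow_prime_pow_eq_one (p : ℕ) (ψ : E →* Γ)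
    (hpp : ∀ x ∈ ψ.ker, x ^ p = 1 → x = 1) :
    ∀ (k : ℕ) (x : E), x ∈ ψ.ker → x ^ (p ^ k) = 1 → x = 1 := by
  intro k
  induction k with
  | zero =>
    intro x _ hx
    simpa using hx
  | succ k ih =>
    intro x hx hxk
    apply ih x hx
    apply hpp _ (ψ.ker.pow_mem hx _)
    rw [← pow_mul, ← pow_succ]
    exact hxk

theorem exists_pSub [Finite E] (p : ℕ) [Fact p.Prime] (ψ : E →* Γ) (hψ : Function.Surjective ψ)
    (hc : ψ.ker ≤ Subgroup.center E) (hpp : ∀ x ∈ ψ.ker, x ^ p = 1 → x = 1)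
    (P : Subgroup Γ) (hP : IsPGroup p P) :
    ∃ S : Subgroup E, (∀ e ∈ S, ψ e ∈ P) ∧ (∀ g ∈ P, ∃ e ∈ S, ψ e = g) ∧
      (∀ e ∈ S, ψ e = 1 → e = 1) ∧ ∀ e : E, ψ e ∈ P → e ^ p = 1 → e ∈ S := by
  classical
  let Pt : Subgroup E := P.comap ψ
  let f : ↥Pt →* ↥P := ψ.subgroupComap P
  have hf : Function.Surjective f := ψ.subgroupComap_surjective_of_surjective P hψ
  have hfval : ∀ x : ↥Pt, ((f x : ↥P) : Γ) = ψ (x : E) := fun x => rfl
  let S₀ : Sylow p ↥Pt := default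
  let Q : Sylow p ↥P := S₀.mapSurjective hf
  have hQtop : (⊤ : Subgroup ↥P) = (Q : Subgroup ↥P) :=
    Q.is_maximal' (hP.to_subgroup ⊤) le_top
  have hQ : (Q : Subgroup ↥P) = (S₀ : Subgroup ↥Pt).map f := rfl
  let S : Subgroup E := (S₀ : Subgroup ↥Pt).map Pt.subtype
  have h1 : ∀ e ∈ S, ψ e ∈ P := by
    rintro e ⟨x, -, rfl⟩
    exact x.2
  have h2 : ∀ g ∈ P, ∃ e ∈ S, ψ e = g := by
    intro g hg
    have hmem : (⟨g, hg⟩ : ↥P) ∈ (S₀ : Subgroup ↥Pt).map f := by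
      rw [← hQ, ← hQtop]; exact Subgroup.mem_top _
    obtain ⟨x, hx, hxg⟩ := hmem
    refine ⟨(x : E), ⟨x, hx, rfl⟩, ?_⟩
    rw [← hfval, hxg]
  have h3 : ∀ e ∈ S, ψ e = 1 → e = 1 := by
    rintro e ⟨x, hx, rfl⟩ he
    obtain ⟨k, hk⟩ := S₀.isPGroup' ⟨x, hx⟩
    have hk' : ((x : ↥Pt) : E) ^ (p ^ k) = 1 := by
      have := congrArg (fun y : ↥(S₀ : Subgroup ↥Pt) => (((y : ↥Pt)) : E)) hk
      simpa using this
    exact eq_one_of_pow_prime_pow_eq_one p ψ hpp k _ (MonoidHom.mem_ker.mpr he) hk'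
  refine ⟨S, h1, h2, h3, ?_⟩
  intro e he hep
  obtain ⟨s, hs, hse⟩ := h2 (ψ e) he
  have hcker : s⁻¹ * e ∈ ψ.ker := by
    rw [MonoidHom.mem_ker, map_mul, map_inv, hse, inv_mul_cancel]
  have hcz : s⁻¹ * e ∈ Subgroup.center E := hc hcker
  have hcomm : Commute s (s⁻¹ * e) := (Subgroup.mem_center_iff.mp hcz s)
  have hes : e = s * (s⁻¹ * e) := by group
  have hpow : s ^ p * (s⁻¹ * e) ^ p = 1 := by
    rw [← hcomm.mul_pow, ← hes, hep]
  have hcp : (s⁻¹ * e) ^ p = (s ^ p)⁻¹ := eq_inv_of_mul_eq_one_right hpow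
  have hcpS : (s⁻¹ * e) ^ p ∈ S := by
    rw [hcp]; exact S.inv_mem (S.pow_mem hs p)
  have hcp1 : (s⁻¹ * e) ^ p = 1 :=
    h3 _ hcpS (MonoidHom.mem_ker.mp (ψ.ker.pow_mem hcker p))
  have hc1 : s⁻¹ * e = 1 := hpp _ hcker hcp1
  have : e = s := by
    rw [hes, hc1, mul_one]
  rw [this]; exact hs

end Cfsg.Agent.Lib.Helper80.St3
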