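import Mathlib
import Cfsg.Prelude.Def_GeometricClasses
import Cfsg.Agent.Lib.Helper99.AschDefs
import Cfsg.Agent.Lib.Helper99.AschDefsR
import Cfsg.Agent.Lib.Helper80.AschIso

/-!
PROJECT ASCH (helper99's sheet), module ASCH-[ISO], refined (`GeoR`) versions:
`geo_or_isotypic_R` (and a local `GeoR` copy of [C2]).
-/

set_option autoImplicit false

namespace Cfsg.Agent.Lib.Helper80.AschIso

open Cfsg Cfsg.Geo Cfsg.Agent.Lib.Helper99.Asch
open scoped MatrixGroups Matrix Kronecker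

variable {n : ℕ} {F : Type*} [Field F] [Fintype F]

/-- ASCH-[C2], refined form (local copy, to avoid a clash with the owner's `_R` export) -/
theorem geoR_of_permuted_decomposition (H : Subgroup (GL (Fin n) F)) (t : ℕ) (ht : 2 ≤ t)
    (D : Fin t → Submodule F (Fin n → F)) (hne : ∀ i, D i ≠ ⊥) (hind : iSupIndep D)
    (htop : iSup D = ⊤)
    (hperm : ∀ h ∈ H, ∃ σ : Equiv.Perm (Fin t), ∀ i,
      (D i).map (Matrix.toLin' (h : Matrix (Fin n) (Fin n) F)) = D (σ i))
    (htrans : ∀ i j, ∃ h ∈ H, (D i).map (Matrix.toLin' (h : Matrix (Fin n) (Fin n) F)) = D j) :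
    GeoR H := by
  set i0 : Fin t := ⟨0, by omega⟩ with hi0
  refine ⟨decompositionStabilizer D, ?_, fun h hh => hperm h hh⟩
  refine Or.inr (Or.inr (Or.inr (Or.inl
    ⟨t, Module.finrank F (D i0), D, ⟨ht, ?_, ?_, hind, htop⟩, rfl⟩)))
  · exact Nat.lt_of_lt_of_le Nat.zero_lt_one (Submodule.one_le_finrank_iff.mpr (hne i0))
  · intro i
    obtain ⟨h, -, hh⟩ := htrans i0 i
    rw [← hh]
    exact Cfsg.Agent.Lib.Helper1.AschC2.finrank_map_gl h (D i0)

end Cfsg.Agent.Lib.Helper80.AschIso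

namespace Cfsg.Agent.Lib.Helper99.Asch

open Cfsg Cfsg.Geo
open scoped MatrixGroups Matrix Kronecker

variable {n : ℕ} {F : Type*} [Field F] [Fintype F]

/-- ASCH-[ISO], refined form -/
theorem geo_or_isotypic_R (H N : Subgroup (GL (Fin n) F))
    (hirr : ActsIrreducibly (matrixSet H)) (hnrm : Nrm H N) :
    GeoR H ∨ IsIsotypic (endAlg N) (Fin n → F) := by
  rcases isotypic_or_decomposition H N hirr hnrm with
    h | ⟨t, D, ht, hne, hind, htop, hperm, htrans, _⟩
  · exact Or.inr h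
  · exact Or.inl (Cfsg.Agent.Lib.Helper80.AschIso.geoR_of_permuted_decomposition H t ht D hne hind htop
      hperm htrans)

end Cfsg.Agent.Lib.Helper99.Asch
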