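import Mathlib
import Cfsg.Prelude.Def_GeometricClasses
import Cfsg.Agent.Lib.Helper99.AschDefs
import Cfsg.Agent.Lib.Helper5.AschODefs
import Cfsg.Agent.Lib.Helper5.AschOBasic
import Cfsg.Agent.Lib.Helper94.OrthBridge
import Cfsg.Agent.Lib.Helper81.AschOFrame3

/-!
PROJECT ASCHO second sheet (helper5), hedge of ASCHO2-[R-2A3] (helper95's `Lib/Helper95/AschO2R2A3.lean` is the provider of the
sheet name); everything here is in MY namespace `Cfsg.Agent.Lib.Helper80.AschO2Frame`, for an arbitrary finite index type: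
* `polar_map_of_mem`, `linearIndependent_of_frame`,
* `isOrthogonalMDecomposition_of_frame` (a spanning orthogonal frame of constant `Q`-value gives `IsOrthogonalMDecomposition Q 1`),
* `mem_decompositionStabilizer_of_frame` (an isometry mapping frame vectors to ± frame vectors stabilises the lines)
  (both adapted from helper76's `AschOT33Frame.lean`, there for `Fin n` and `m = n`),
* `exists_frame_in`, `eq_or_eq_neg_of_polar_eq` (non-degenerate 3-spaces over `F₃`), `exists_line_refinement_gen`.
-/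

set_option autoImplicit false
set_option linter.unusedSectionVars false

namespace Cfsg.Agent.Lib.Helper80.AschO2Frame

open Cfsg Cfsg.Geo Cfsg.Agent.Lib.Helper99.Asch Cfsg.Agent.Lib.Helper5.AschO Cfsg.Agent.Lib.Helper94
open scoped MatrixGroups Matrix Kronecker

variable {ι : Type} [Fintype ι] [DecidableEq ι] {F : Type*} [Field F]

theorem polar_map_of_mem {Q : (ι → F) → F} {g : GL ι F} (hg : g ∈ isometryGroup F Q)
    (x y : ι → F) :
    QuadraticMap.polar Q ((g : Matrix ι ι F) *ᵥ x) ((g : Matrix ι ι F) *ᵥ y) =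
      QuadraticMap.polar Q x y := by
  have h := (mem_isometryGroup_iff g).1 hg
  have := polar_map_of_similarity (Q := Q) (g : Matrix ι ι F) 1
    (fun v => by rw [h v, one_mul]) x y
  rw [this, one_mul]

/-- An orthogonal family of vectors with non-zero `Q`-value is linearly independent. -/
theorem linearIndependent_of_frame {Q : (ι → F) → F} (hQ : IsNondegenerateQuadraticForm Q)
    (h2 : (2 : F) ≠ 0) {m : ℕ} (u : Fin m → (ι → F)) (c : F) (hc : c ≠ 0)
    (hQu : ∀ i, Q (u i) = c)
    (horth : ∀ i j, i ≠ j → QuadraticMap.polar Q (u i) (u j) = 0) : LinearIndependent F u := by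
  have hD := quadData_polarBilin hQ
  refine LinearMap.linearIndependent_of_isOrthoᵢ (B := polarBilin hQ)
    (fun i j hij => horth i j hij) ?_
  intro i
  show ¬ polarBilin hQ (u i) (u i) = 0
  rw [hD.self, hQu]
  exact mul_ne_zero h2 hc

/-- a frame of singular-value-`c` pairwise orthogonal vectors spanning the space gives an orthogonal
decomposition into lines -/
theorem isOrthogonalMDecomposition_of_frame {Q : (ι → F) → F} (hQ : IsNondegenerateQuadraticForm Q)
    (h2 : (2 : F) ≠ 0) {m : ℕ} (hm : 2 ≤ m) (u : Fin m → (ι → F)) (c : F) (hc : c ≠ 0)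
    (hQu : ∀ i, Q (u i) = c)
    (horth : ∀ i j, i ≠ j → QuadraticMap.polar Q (u i) (u j) = 0)
    (hspan : (⨆ i, Submodule.span F {u i}) = ⊤) :
    IsOrthogonalMDecomposition Q 1 (fun i => Submodule.span F {u i}) := by
  classical
  have hbil := hQ.polar_bilinear
  have h2c : (2 : F) * c ≠ 0 := mul_ne_zero h2 hc
  have hli : LinearIndependent F u := linearIndependent_of_frame hQ h2 u c hc hQu horth
  have hne : ∀ i, u i ≠ 0 := fun i => hli.ne_zero i
  have hself : ∀ i, QuadraticMap.polar Q (u i) (u i) = 2 * c := fun i => by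
    rw [polar_self hQ, hQu]
  have hmem : ∀ i (w : ι → F), w ∈ Submodule.span F {u i} ↔ ∃ r : F, r • u i = w := fun i w =>
    Submodule.mem_span_singleton
  have hdec : IsMDecomposition 1 (fun i => Submodule.span F {u i}) :=
    ⟨hm, Nat.one_pos, fun i => finrank_span_singleton (hne i), hli.iSupIndep_span_singleton, hspan⟩
  have hnd : IsNondegenerateMDecomposition (QuadraticMap.polar Q) 1
      (fun i => Submodule.span F {u i}) := by
    refine ⟨hdec, ?_, ?_⟩
    · intro i w hw hw0
      obtain ⟨r, rfl⟩ := (hmem i w).1 hw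
      have hr : r ≠ 0 := by
        rintro rfl
        exact hw0 (zero_smul _ _)
      refine ⟨⟨u i, Submodule.mem_span_singleton_self _, ?_⟩,
        ⟨u i, Submodule.mem_span_singleton_self _, ?_⟩⟩
      · rw [hbil.smul_right, hself]
        exact mul_ne_zero hr h2c
      · rw [hbil.smul_left, hself]
        exact mul_ne_zero hr h2c
    · intro i j hij a ha b hb
      obtain ⟨r, rfl⟩ := (hmem i a).1 ha
      obtain ⟨s, rfl⟩ := (hmem j b).1 hb
      rw [hbil.smul_left, hbil.smul_right, horth i j hij, mul_zero, mul_zero]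
  refine ⟨hnd, ?_⟩
  intro i j
  let ei := LinearEquiv.toSpanNonzeroSingleton F (ι → F) (u i) (hne i)
  let ej := LinearEquiv.toSpanNonzeroSingleton F (ι → F) (u j) (hne j)
  refine ⟨ei.symm.trans ej, fun w => ?_⟩
  have h1 : (w : ι → F) = ei.symm w • u i :=
    (LinearEquiv.toSpanNonzeroSingleton_symm_apply_smul F (ι → F) (u i) (hne i) w).symm
  have h3 : (((ei.symm.trans ej) w : Submodule.span F {u j}) : ι → F) = ei.symm w • u j := rfl
  rw [h3, h1, hQ.smul, hQ.smul, hQu, hQu]

/-- an isometry mapping every frame vector to ± a frame vector stabilises the decomposition into lines -/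
theorem mem_decompositionStabilizer_of_frame {Q : (ι → F) → F} (hQ : IsNondegenerateQuadraticForm Q)
    (h2 : (2 : F) ≠ 0) {m : ℕ} (u : Fin m → (ι → F)) (c : F) (hc : c ≠ 0)
    (hQu : ∀ i, Q (u i) = c)
    (horth : ∀ i j, i ≠ j → QuadraticMap.polar Q (u i) (u j) = 0)
    (g : GL ι F) (hg : g ∈ isometryGroup F Q)
    (hperm : ∀ i, ∃ j, (g : Matrix ι ι F) *ᵥ u i = u j ∨ (g : Matrix ι ι F) *ᵥ u i = - u j) :
    g ∈ decompositionStabilizer (fun i => Submodule.span F {u i}) := by
  classical
  have hbil := hQ.polar_bilinear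
  have h2c : (2 : F) * c ≠ 0 := mul_ne_zero h2 hc
  have hself : ∀ i, QuadraticMap.polar Q (u i) (u i) = 2 * c := fun i => by
    rw [polar_self hQ, hQu]
  choose s hs using hperm
  have hinj : Function.Injective s := by
    intro i i' hii
    by_contra hne'
    have h0 := polar_map_of_mem hg (u i) (u i')
    rw [horth i i' hne'] at h0
    have hval : ∀ a b : F, (a = 1 ∨ a = -1) → (b = 1 ∨ b = -1) →
        QuadraticMap.polar Q (a • u (s i)) (b • u (s i)) ≠ 0 := by
      intro a b ha hb
      rw [hbil.smul_left, hbil.smul_right, hself]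
      rcases ha with rfl | rfl <;> rcases hb with rfl | rfl <;> simpa using h2c
    have e1 : ∃ a : F, (a = 1 ∨ a = -1) ∧ (g : Matrix ι ι F) *ᵥ u i = a • u (s i) := by
      rcases hs i with h1 | h1
      · exact ⟨1, Or.inl rfl, by rw [h1, one_smul]⟩
      · exact ⟨-1, Or.inr rfl, by rw [h1, neg_one_smul]⟩
    have e2 : ∃ b : F, (b = 1 ∨ b = -1) ∧ (g : Matrix ι ι F) *ᵥ u i' = b • u (s i) := by
      rcases hs i' with h1 | h1
      · exact ⟨1, Or.inl rfl, by rw [h1, one_smul, hii]⟩
      · exact ⟨-1, Or.inr rfl, by rw [h1, neg_one_smul, hii]⟩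
    obtain ⟨a, ha, hau⟩ := e1
    obtain ⟨b, hb, hbu⟩ := e2
    rw [hau, hbu] at h0
    exact hval a b ha hb h0
  refine ⟨Equiv.ofBijective s (Finite.injective_iff_bijective.1 hinj), fun i => ?_⟩
  show (Submodule.span F {u i}).map (Matrix.toLin' (g : Matrix ι ι F)) =
    Submodule.span F {u (s i)}
  rw [Submodule.map_span, Set.image_singleton, Matrix.toLin'_apply]
  rcases hs i with h1 | h1
  · rw [h1]
  · rw [h1, ← neg_one_smul F (u (s i))]
    exact Submodule.span_singleton_smul_eq (isUnit_one.neg) _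

section Three
variable [Fintype F]
open Cfsg.Agent.Lib.Helper81.AschOFrame3

/-- a non-degenerate 3-space over `F₃` has an orthogonal basis with constant polar value -/
theorem exists_frame_in {Q : (ι → F) → F} (hQ : IsNondegenerateQuadraticForm Q)
    (hF : Fintype.card F = 3) (U : Submodule F (ι → F)) (hU3 : Module.finrank F U = 3)
    (hU : IsNondegenerateOn (QuadraticMap.polar Q) U) :
    ∃ (V : Fin 3 → (ι → F)) (c : F), c ≠ 0 ∧ (∀ j, V j ∈ U) ∧
      (∀ j, QuadraticMap.polar Q (V j) (V j) = c) ∧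
      (∀ j k, j ≠ k → QuadraticMap.polar Q (V j) (V k) = 0) := by
  classical
  have hbil := hQ.polar_bilinear
  let b : Module.Basis (Fin 3) F U := Module.finBasisOfFinrankEq F U hU3
  let φ : (Fin 3 → F) →ₗ[F] (ι → F) := U.subtype ∘ₗ (b.equivFun.symm : (Fin 3 → F) →ₗ[F] U)
  have hφU : ∀ x, φ x ∈ U := fun x => (b.equivFun.symm x).2
  have hφinj : Function.Injective φ := U.injective_subtype.comp b.equivFun.symm.injective
  have hφsurj : ∀ w ∈ U, ∃ y, φ y = w := fun w hw => ⟨b.equivFun ⟨w, hw⟩, by simp [φ]⟩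
  let f : (Fin 3 → F) → (Fin 3 → F) → F := fun x y => QuadraticMap.polar Q (φ x) (φ y)
  have hf : IsSymmetricForm f :=
    { bilinear :=
        ⟨fun x y v => by simp only [f, map_add]; exact hbil.add_left _ _ _,
         fun c x v => by simp only [f, map_smul]; exact hbil.smul_left _ _ _,
         fun v x y => by simp only [f, map_add]; exact hbil.add_right _ _ _,
         fun c v x => by simp only [f, map_smul]; exact hbil.smul_right _ _ _⟩
      symm := fun u v => QuadraticMap.polar_comm _ _ _
      nondegenerate := by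
        intro v hv
        have hφv : φ v ≠ 0 := fun h => hv (hφinj (by rw [h, map_zero]))
        obtain ⟨⟨x, hxU, hx⟩, ⟨y, hyU, hy⟩⟩ := hU (φ v) (hφU v) hφv
        obtain ⟨x', rfl⟩ := hφsurj x hxU
        obtain ⟨y', rfl⟩ := hφsurj y hyU
        exact ⟨⟨x', hx⟩, ⟨y', hy⟩⟩ }
  obtain ⟨v, c, hc, hvv, orth⟩ := exists_frame hF f hf
  exact ⟨fun j => φ (v j), c, hc, fun j => hφU _, hvv, orth⟩

/-- in a 3-space over `F₃` with an orthogonal frame of constant polar value `c`, the vectors with polar
value `c` are exactly `± frame vectors` -/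
theorem eq_or_eq_neg_of_polar_eq {Q : (ι → F) → F} (hQ : IsNondegenerateQuadraticForm Q)
    (hF : Fintype.card F = 3) (U : Submodule F (ι → F)) (hU3 : Module.finrank F U = 3)
    (V : Fin 3 → (ι → F)) (c : F) (hc : c ≠ 0) (hVU : ∀ j, V j ∈ U)
    (hVV : ∀ j, QuadraticMap.polar Q (V j) (V j) = c)
    (horth : ∀ j k, j ≠ k → QuadraticMap.polar Q (V j) (V k) = 0)
    (x : ι → F) (hx : x ∈ U) (hxx : QuadraticMap.polar Q x x = c) :
    ∃ j, x = V j ∨ x = - V j := by
  classical
  have hD := quadData_polarBilin hQ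
  set B := polarBilin hQ with hB
  have hBa : ∀ u v, QuadraticMap.polar Q u v = B u v := fun u v => rfl
  have hli : LinearIndependent F V := by
    refine LinearMap.linearIndependent_of_isOrthoᵢ (B := B) (fun i j hij => horth i j hij) ?_
    intro i
    show ¬ B (V i) (V i) = 0
    rw [← hBa, hVV]; exact hc
  have hspan : Submodule.span F (Set.range V) = U := by
    apply Submodule.eq_of_le_of_finrank_eq
    · rw [Submodule.span_le]
      rintro _ ⟨j, rfl⟩
      exact hVU j
    · rw [finrank_span_eq_card hli, hU3, Fintype.card_fin]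
  rw [← hspan] at hx
  obtain ⟨a, rfl⟩ := (Submodule.mem_span_range_iff_exists_fun F).mp hx
  rw [Fin.sum_univ_three] at hxx ⊢
  have h01 := horth 0 1 (by decide)
  have h02 := horth 0 2 (by decide)
  have h10 := horth 1 0 (by decide)
  have h12 := horth 1 2 (by decide)
  have h20 := horth 2 0 (by decide)
  have h21 := horth 2 1 (by decide)
  rw [hBa] at h01 h02 h10 h12 h20 h21
  have h00 := hVV 0
  have h11 := hVV 1
  have h22 := hVV 2
  rw [hBa] at h00 h11 h22 hxx
  simp only [map_add, map_smul, LinearMap.add_apply, LinearMap.smul_apply, smul_eq_mul, h01, h02,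
    h10, h12, h20, h21, h00, h11, h22, mul_zero, add_zero, zero_add] at hxx
  have hsum : a 0 ^ 2 + a 1 ^ 2 + a 2 ^ 2 = 1 := by
    have : c * (a 0 ^ 2 + a 1 ^ 2 + a 2 ^ 2) = c * 1 := by linear_combination hxx
    exact mul_left_cancel₀ hc this
  rcases sq_sum_eq_one hF (a 0) (a 1) (a 2) hsum with ⟨h1, h2, h0⟩ | ⟨h0, h2, h1⟩ | ⟨h0, h1, h2⟩
  · refine ⟨0, ?_⟩
    rcases h0 with h0 | h0
    · left; rw [h0, h1, h2]; simp
    · right; rw [h0, h1, h2]; simp
  · refine ⟨1, ?_⟩
    rcases h1 with h1 | h1
    · left; rw [h0, h1, h2]; simp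
    · right; rw [h0, h1, h2]; simp
  · refine ⟨2, ?_⟩
    rcases h2 with h2 | h2
    · left; rw [h0, h1, h2]; simp
    · right; rw [h0, h1, h2]; simp

/-- ASCHO2-[R-2A3] for an arbitrary finite index type -/
theorem exists_line_refinement_gen {Q : (ι → F) → F} (hQ : IsNondegenerateQuadraticForm Q)
    (hF : Fintype.card F = 3)
    {t : ℕ} (D : Fin t → Submodule F (ι → F)) (hD : IsOrthogonalMDecomposition Q 3 D) :
    ∃ D' : Fin (3 * t) → Submodule F (ι → F), IsOrthogonalMDecomposition Q 1 D' ∧
      decompositionStabilizer D ⊓ isometryGroup F Q ≤ decompositionStabilizer D' := by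
  classical
  have h2 : (2 : F) ≠ 0 := by rw [two_eq_neg_one hF]; simp
  have hdec := hD.decomp.decomp
  have ht : 2 ≤ t := hdec.two_le
  have hQD := quadData_polarBilin hQ
  have hBa : ∀ u v, QuadraticMap.polar Q u v = polarBilin hQ u v := fun u v => rfl
  let i0 : Fin t := ⟨0, by omega⟩
  obtain ⟨V0, c, hc, hV0U, hV0V, hV0o⟩ :=
    exists_frame_in hQ hF (D i0) (hdec.finrank_eq i0) (hD.decomp.nondegenerate i0)
  choose e he using fun i => hD.isometric i0 i
  have hpol : ∀ i (x y : D i0), QuadraticMap.polar Q ((e i x : D i) : ι → F) ((e i y : D i) : ι → F) =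
      QuadraticMap.polar Q (x : ι → F) (y : ι → F) := by
    intro i x y
    simp only [QuadraticMap.polar]
    have h1 : ((e i x : D i) : ι → F) + ((e i y : D i) : ι → F) = ((e i (x + y) : D i) : ι → F) := by
      rw [map_add]; rfl
    rw [h1, he, he, he]; rfl
  let V : Fin t → Fin 3 → (ι → F) := fun i j => ((e i ⟨V0 j, hV0U j⟩ : D i) : ι → F)
  have hVU : ∀ i j, V i j ∈ D i := fun i j => (e i _).2
  have hVV : ∀ i j, QuadraticMap.polar Q (V i j) (V i j) = c := by
    intro i j; show QuadraticMap.polar Q ((e i _ : D i) : ι → F) ((e i _ : D i) : ι → F) = c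
    rw [hpol]; exact hV0V j
  have hVo : ∀ i j k, j ≠ k → QuadraticMap.polar Q (V i j) (V i k) = 0 := by
    intro i j k hjk; show QuadraticMap.polar Q ((e i _ : D i) : ι → F) ((e i _ : D i) : ι → F) = 0
    rw [hpol]; exact hV0o j k hjk
  -- each `D i` is spanned by its frame
  have hspanD : ∀ i, Submodule.span F (Set.range (V i)) = D i := by
    intro i
    have hli : LinearIndependent F (V i) := by
      refine LinearMap.linearIndependent_of_isOrthoᵢ (B := polarBilin hQ)
        (fun j k hjk => hVo i j k hjk) ?_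
      intro j
      show ¬ polarBilin hQ (V i j) (V i j) = 0
      rw [← hBa, hVV]; exact hc
    apply Submodule.eq_of_le_of_finrank_eq
    · rw [Submodule.span_le]
      rintro _ ⟨j, rfl⟩
      exact hVU i j
    · rw [finrank_span_eq_card hli, hdec.finrank_eq i, Fintype.card_fin]
  -- the frame
  let u : Fin (3 * t) → (ι → F) := fun k =>
    V (finProdFinEquiv.symm k).2 (finProdFinEquiv.symm k).1
  have huV : ∀ i j, u (finProdFinEquiv (j, i)) = V i j := by
    intro i j
    show V (finProdFinEquiv.symm (finProdFinEquiv (j, i))).2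
      (finProdFinEquiv.symm (finProdFinEquiv (j, i))).1 = V i j
    rw [Equiv.symm_apply_apply]
  set c' : F := 2⁻¹ * c with hc'
  have hc'0 : c' ≠ 0 := mul_ne_zero (inv_ne_zero h2) hc
  have hQV : ∀ i j, Q (V i j) = c' := by
    intro i j
    have := hVV i j
    rw [polar_self hQ] at this
    rw [hc', ← this, ← mul_assoc, inv_mul_cancel₀ h2, one_mul]
  have hQu : ∀ k, Q (u k) = c' := fun k => hQV _ _
  have horth : ∀ k k', k ≠ k' → QuadraticMap.polar Q (u k) (u k') = 0 := by
    intro k k' hkk
    by_cases hi : (finProdFinEquiv.symm k).2 = (finProdFinEquiv.symm k').2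
    · have hj : (finProdFinEquiv.symm k).1 ≠ (finProdFinEquiv.symm k').1 := by
        intro hj
        apply hkk
        apply finProdFinEquiv.symm.injective
        exact Prod.ext hj hi
      show QuadraticMap.polar Q (V _ _) (V _ _) = 0
      rw [hi]
      exact hVo _ _ _ hj
    · exact hD.decomp.orthogonal _ _ hi _ (hVU _ _) _ (hVU _ _)
  have hspan : (⨆ k, Submodule.span F {u k}) = ⊤ := by
    rw [eq_top_iff, ← hdec.iSup_eq_top]
    apply iSup_le
    intro i
    rw [← hspanD i, Submodule.span_le]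
    rintro _ ⟨j, rfl⟩
    have h1 : Submodule.span F {u (finProdFinEquiv (j, i))} ≤ ⨆ k, Submodule.span F {u k} :=
      le_iSup (fun k => Submodule.span F {u k}) _
    apply h1
    rw [huV]
    exact Submodule.mem_span_singleton_self _
  refine ⟨fun k => Submodule.span F {u k},
    isOrthogonalMDecomposition_of_frame hQ h2 (by omega) u c' hc'0 hQu horth hspan, ?_⟩
  rintro g ⟨⟨σ, hσ⟩, hgiso⟩
  apply mem_decompositionStabilizer_of_frame hQ h2 u c' hc'0 hQu horth g hgiso
  intro k
  set i := (finProdFinEquiv.symm k).2 with hi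
  set j := (finProdFinEquiv.symm k).1 with hj
  have hmem : (g : Matrix ι ι F) *ᵥ u k ∈ D (σ i) := by
    rw [← hσ i]
    exact ⟨u k, hVU _ _, rfl⟩
  have hval : QuadraticMap.polar Q ((g : Matrix ι ι F) *ᵥ u k) ((g : Matrix ι ι F) *ᵥ u k) = c := by
    rw [polar_map_of_mem hgiso]
    exact hVV _ _
  obtain ⟨j', hj'⟩ := eq_or_eq_neg_of_polar_eq hQ hF (D (σ i)) (hdec.finrank_eq _) (V (σ i)) c hc
    (hVU _) (hVV _) (hVo _) _ hmem hval
  refine ⟨finProdFinEquiv (j', σ i), ?_⟩
  rw [huV]
  exact hj'

end Three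

end Cfsg.Agent.Lib.Helper80.AschO2Frame
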