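import Mathlib
import Cfsg.Prelude.Def_GeometricClasses
import Cfsg.Agent.Lib.Helper99.AschDefs
import Cfsg.Agent.Lib.Helper5.AschODefs

/-!
PROJECT ASCHO second sheet (helper5), module ASCHO2-[P-3] in `_of` form:
`not_omegaGL_le_subalgebraNormalizer_of` (hypothesis `PlaneStmt Q` = conclusion of ASCHO2-[PLANE]).
`g = 1 + N ∈ Ω` normalising the field `K`: if `g k g⁻¹ = k' ≠ k` then `N (k v) = (k' - k) v` on `ker N`, so
`dim ker N ≤ dim im N ≤ 2`, impossible; hence `N` commutes with `K`, `im N` is a `K`-space of `F`-dimension 1 or 2 and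
`r ∣ dim im N` (`dvd_finrank_of_stable`).
-/

set_option autoImplicit false
set_option linter.unusedSectionVars false
set_option linter.style.haveILetI false

namespace Cfsg.Agent.Lib.Helper80.AschO2

open Cfsg Cfsg.Geo Cfsg.Agent.Lib.Helper99.Asch
open scoped MatrixGroups Matrix Kronecker

variable {ι : Type} [Fintype ι] [DecidableEq ι] {F : Type*} [Field F]

/-- the degree of a field subalgebra of the matrix algebra divides the dimension of every subspace stable
under it -/
theorem dvd_finrank_of_stable (r : ℕ) (K : Subalgebra F (Matrix ι ι F)) (hK : IsFieldSubalgebra r K)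
    (P : Submodule F (ι → F)) (hP : ∀ k ∈ K, ∀ v ∈ P, k *ᵥ v ∈ P) : r ∣ Module.finrank F P := by
  classical
  by_cases hP0 : P = ⊥
  · rw [hP0, finrank_bot]; exact dvd_zero r
  haveI : Nontrivial ↥P := Submodule.nontrivial_iff_ne_bot.mpr hP0
  have h01 : (0 : Matrix ι ι F) ≠ 1 := by
    obtain ⟨v, hv, hv0⟩ := Submodule.exists_mem_ne_zero_of_ne_bot hP0
    intro h
    apply hv0
    have := congrArg (fun M : Matrix ι ι F => M *ᵥ v) h
    simpa using this.symm
  have hfield : IsField ↥K :=
    { exists_pair_ne := ⟨0, 1, fun h => h01 (congrArg Subtype.val h)⟩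
      mul_comm := fun a b => Subtype.ext (hK.comm a.1 a.2 b.1 b.2)
      mul_inv_cancel := fun {a} ha => by
        obtain ⟨y, hyK, hy⟩ := hK.inv a.1 a.2 (fun h => ha (Subtype.ext h))
        exact ⟨⟨y, hyK⟩, Subtype.ext hy⟩ }
  let ρ : ↥K → Module.End F ↥P := fun k =>
    (Matrix.toLin' k.1).restrict (p := P) (q := P) (fun v hv => hP k.1 k.2 v hv)
  have hρ : ∀ (k : ↥K) (v : ↥P), ((ρ k v : ↥P) : ι → F) = k.1 *ᵥ v.1 := fun _ _ => rfl
  let φ : ↥K →+* Module.End F ↥P :=
    { toFun := ρ
      map_one' := by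
        apply LinearMap.ext; intro v; apply Subtype.ext
        rw [hρ]; simp
      map_mul' := by
        intro a b
        apply LinearMap.ext; intro v; apply Subtype.ext
        rw [hρ, Module.End.mul_apply, hρ, hρ]
        simp [Matrix.mulVec_mulVec]
      map_zero' := by
        apply LinearMap.ext; intro v; apply Subtype.ext
        rw [hρ]; simp
      map_add' := by
        intro a b
        apply LinearMap.ext; intro v; apply Subtype.ext
        rw [hρ, LinearMap.add_apply, Submodule.coe_add, hρ, hρ]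
        simp [Matrix.add_mulVec] }
  have hφ : ∀ (k : ↥K) (v : ↥P), ((φ k v : ↥P) : ι → F) = k.1 *ᵥ v.1 := fun _ _ => rfl
  letI instMod : Module ↥K ↥P := Module.compHom ↥P φ
  haveI hTower : IsScalarTower F ↥K ↥P := ⟨fun c k v => by
    show φ (c • k) v = c • φ k v
    apply Subtype.ext
    rw [hφ, Submodule.coe_smul, hφ]
    simp [Matrix.smul_mulVec]⟩
  haveI hSRC : StrongRankCondition ↥K := by
    letI instFld : Field ↥K := hfield.toField
    exact (inferInstance : StrongRankCondition ↥K)
  haveI hfree : Module.Free ↥K ↥P := by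
    letI instFld : Field ↥K := hfield.toField
    exact @Module.Free.of_divisionRing ↥K ↥P _ _ instMod
  have key := @Module.finrank_mul_finrank F ↥K ↥P _ _ _ _ instMod _ hTower _ hSRC _ hfree
  rw [← hK.finrank_eq]
  exact Dvd.intro _ key

/-- conclusion of ASCHO2-[PLANE] for `Q` -/
def PlaneStmt (Q : (ι → F) → F) : Prop :=
  ∃ (N : Matrix ι ι F) (p w : ι → F), LinearIndependent F ![p, w] ∧ N ≠ 0 ∧ N * N = 0 ∧
      (∀ z, N *ᵥ z = QuadraticMap.polar Q z w • p - QuadraticMap.polar Q z p • w) ∧
      ∀ a : F, ∃ g : GL ι F, g ∈ omegaGL Q ∧ (g : Matrix ι ι F) = 1 + a • N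

/-- ASCHO2-[P-3] in `_of` form ([PLANE] as a hypothesis; no `Fintype F`) -/
theorem not_omegaGL_le_subalgebraNormalizer_of {Q : (ι → F) → F} (hplane : PlaneStmt Q)
    (h7 : 7 ≤ Fintype.card ι) (r : ℕ) (hr : r.Prime) (hr2 : r ≠ 2)
    (K : Subalgebra F (Matrix ι ι F)) (hK : IsFieldSubalgebra r K) :
    ¬ omegaGL Q ≤ subalgebraNormalizer K := by
  classical
  intro hle
  obtain ⟨N, p, w, -, hN0, hNN, hNz, hfam⟩ := hplane
  obtain ⟨g, hgΩ, hg⟩ := hfam 1
  rw [one_smul] at hg
  have hgK : ∀ k : Matrix ι ι F, k ∈ K ↔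
      (g : Matrix ι ι F) * k * ((g⁻¹ : GL ι F) : Matrix ι ι F) ∈ K := hle hgΩ
  have hginv : ((g⁻¹ : GL ι F) : Matrix ι ι F) = 1 - N := by
    apply Units.inv_eq_of_mul_eq_one_right
    rw [hg, add_mul, mul_sub, mul_sub, mul_one, mul_one, one_mul, hNN]
    abel
  set Lk : (ι → F) →ₗ[F] (ι → F) := Matrix.toLin' N with hLk
  set R : Submodule F (ι → F) := LinearMap.range Lk with hR
  -- the range of `N` has dimension at most 2
  have hRle : R ≤ Submodule.span F {p, w} := by
    rintro _ ⟨z, rfl⟩
    rw [hLk, Matrix.toLin'_apply, hNz]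
    exact Submodule.sub_mem _ (Submodule.smul_mem _ _ (Submodule.subset_span (by simp)))
      (Submodule.smul_mem _ _ (Submodule.subset_span (by simp)))
  have hR2 : Module.finrank F R ≤ 2 := by
    have h1 := finrank_span_le_card (R := F) ({p, w} : Set (ι → F))
    have h2 : ({p, w} : Set (ι → F)).toFinset.card ≤ 2 := by
      rw [Set.toFinset_insert, Set.toFinset_singleton]
      exact Finset.card_insert_le _ _ |>.trans (by simp)
    exact (Submodule.finrank_mono hRle).trans (h1.trans h2)
  have hrn : Module.finrank F R + Module.finrank F (LinearMap.ker Lk) = Fintype.card ι := by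
    have := LinearMap.finrank_range_add_finrank_ker Lk
    rwa [Module.finrank_fintype_fun_eq_card] at this
  -- Step 1: `g` centralises `K`
  have hcomm : ∀ k ∈ K, N * k = k * N := by
    intro k hk
    set k' : Matrix ι ι F := (g : Matrix ι ι F) * k * ((g⁻¹ : GL ι F) : Matrix ι ι F) with hk'
    have hk'K : k' ∈ K := (hgK k).mp hk
    have hgk : (g : Matrix ι ι F) * k = k' * (g : Matrix ι ι F) := by
      rw [hk', mul_assoc _ _ (g : Matrix ι ι F), ← Units.val_mul, inv_mul_cancel, Units.val_one,
        mul_one]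
    have hkk : k' = k := by
      by_contra hne
      have hδK : k' - k ∈ K := Subalgebra.sub_mem _ hk'K hk
      have hδ0 : k' - k ≠ 0 := sub_ne_zero.mpr hne
      obtain ⟨y, hyK, hy⟩ := hK.inv _ hδK hδ0
      have hy' : y * (k' - k) = 1 := by rw [hK.comm y hyK _ hδK]; exact hy
      have hmap : (LinearMap.ker Lk).map (Matrix.toLin' (k' - k)) ≤ R := by
        rintro _ ⟨v, hv, rfl⟩
        have hv0 : N *ᵥ v = 0 := by
          have := LinearMap.mem_ker.mp hv
          rwa [hLk, Matrix.toLin'_apply] at this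
        refine ⟨k *ᵥ v, ?_⟩
        rw [hLk, Matrix.toLin'_apply, Matrix.toLin'_apply]
        have h1 : ((g : Matrix ι ι F) * k) *ᵥ v = (k' * (g : Matrix ι ι F)) *ᵥ v := by rw [hgk]
        rw [hg, ← Matrix.mulVec_mulVec, ← Matrix.mulVec_mulVec, Matrix.add_mulVec,
          Matrix.add_mulVec, Matrix.one_mulVec, Matrix.one_mulVec, hv0, add_zero] at h1
        rw [Matrix.sub_mulVec, ← h1]
        abel
      have hinj : Function.Injective (Matrix.toLin' (k' - k)) := by
        intro a b hab
        have := congrArg (fun z => y *ᵥ z) hab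
        simp only [Matrix.toLin'_apply, Matrix.mulVec_mulVec, hy', Matrix.one_mulVec] at this
        exact this
      have h1 : Module.finrank F ((LinearMap.ker Lk).map (Matrix.toLin' (k' - k))) =
          Module.finrank F (LinearMap.ker Lk) :=
        (Submodule.equivMapOfInjective _ hinj (LinearMap.ker Lk)).finrank_eq.symm
      have h2 := Submodule.finrank_mono hmap
      omega
    have h3 : (g : Matrix ι ι F) * k = k * (g : Matrix ι ι F) := by rw [hgk, hkk]
    rw [hg, add_mul, mul_add, one_mul, mul_one] at h3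
    exact add_left_cancel h3
  -- Step 2: the range of `N` is a `K`-space
  have hstab : ∀ k ∈ K, ∀ v ∈ R, k *ᵥ v ∈ R := by
    rintro k hk _ ⟨z, rfl⟩
    refine ⟨k *ᵥ z, ?_⟩
    rw [hLk, Matrix.toLin'_apply, Matrix.toLin'_apply, Matrix.mulVec_mulVec, Matrix.mulVec_mulVec,
      hcomm k hk]
  have hdvd := dvd_finrank_of_stable r K hK R hstab
  have hRpos : 0 < Module.finrank F R := by
    rw [Module.finrank_pos_iff_exists_ne_zero]
    by_contra hcon
    push Not at hcon
    apply hN0
    apply Matrix.toLin'.injective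
    apply LinearMap.ext
    intro z
    have := hcon ⟨Lk z, ⟨z, rfl⟩⟩
    rw [map_zero, LinearMap.zero_apply]
    exact congrArg Subtype.val this
  have hr3 : 3 ≤ r := by
    have := hr.two_le
    omega
  have := Nat.le_of_dvd hRpos hdvd
  omega

end Cfsg.Agent.Lib.Helper80.AschO2
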