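import Mathlib
import Cfsg.Prelude.Def_GeometricClasses
import Cfsg.Agent.Lib.Helper99.AschDefs
import Cfsg.Agent.Lib.Helper5.AschODefs
import Cfsg.Agent.Lib.Helper5.AschOBasic
import Cfsg.Agent.Lib.Helper43.AschO2Plane
import Cfsg.Agent.Lib.Helper80.AschO2P3Of

/-!
PROJECT ASCHO second sheet (helper5), module ASCHO2-[P-3], exact sheet statement:
`Cfsg.Agent.Lib.Helper80.AschO2.not_omegaGL_le_subalgebraNormalizer` (own namespace: helper43's hedge
`Lib/Helper43/AschO2P3.lean` declares the sheet name in `Cfsg.Agent.Lib.Helper5.AschO`) = `AschO2P3Of` + helper43's exact [PLANE] (`Lib/Helper43/AschO2Plane.lean`).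
-/

set_option autoImplicit false

namespace Cfsg.Agent.Lib.Helper80.AschO2

open Cfsg Cfsg.Geo Cfsg.Agent.Lib.Helper99.Asch Cfsg.Agent.Lib.Helper5.AschO
open scoped MatrixGroups Matrix Kronecker

variable {ι : Type} [Fintype ι] [DecidableEq ι] {F : Type*} [Field F] [Fintype F]

/-- ASCHO2-[P-3] -/
theorem not_omegaGL_le_subalgebraNormalizer {Q : (ι → F) → F} (hQ : IsNondegenerateQuadraticForm Q)
    (hodd : Odd (Fintype.card F)) (h7 : 7 ≤ Fintype.card ι) (r : ℕ) (hr : r.Prime) (hr2 : r ≠ 2)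
    (K : Subalgebra F (Matrix ι ι F)) (hK : IsFieldSubalgebra r K) :
    ¬ omegaGL Q ≤ subalgebraNormalizer K :=
  not_omegaGL_le_subalgebraNormalizer_of
    (exists_long_root_family hQ hodd h7) h7 r hr hr2 K hK

end Cfsg.Agent.Lib.Helper80.AschO2
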