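import Mathlib
import Cfsg.Prelude.Def_GeometricClasses
import Cfsg.Agent.Lib.Helper99.AschDefs
import Cfsg.Agent.Lib.Helper5.AschODefs
import Cfsg.Agent.Lib.Helper5.AschOBasic
import Cfsg.Agent.Lib.Helper94.OrthBridge

/-!
PROJECT ASCHO second sheet (helper5; rows omega7/9/11), module ASCHO2-[PLANE] in `_of` form:
`exists_long_root_family_of` (hypotheses = the statements of ASCHO2-[EICH] and ASCHO2-[ISOTROPIC] for the given `Q`).
Also: `polarBilin_isSymm/isRefl/nondegenerate` (helper94's `polarBilin` is a nondegenerate symmetric Mathlib bilinear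
form), `isNondegenerateOn_of_disjoint` (C ⊓ C^⊥ = ⊥ ⇒ Prelude's `IsNondegenerateOn`), `isNondegenerateOn_top`.
-/

set_option autoImplicit false
set_option linter.unusedSectionVars false

namespace Cfsg.Agent.Lib.Helper80.AschO2

open Cfsg Cfsg.Geo Cfsg.Agent.Lib.Helper99.Asch Cfsg.Agent.Lib.Helper5.AschO Cfsg.Agent.Lib.Helper94
open scoped MatrixGroups Matrix Kronecker
open LinearMap (BilinForm)

variable {ι : Type} [Fintype ι] [DecidableEq ι] {F : Type*} [Field F]

/-- statement of ASCHO2-[EICH] for a fixed `Q` -/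
def EichStmt (Q : (ι → F) → F) : Prop :=
  ∀ (p w : ι → F), Q p = 0 → QuadraticMap.polar Q p w = 0 →
    ∃ g : GL ι F, g ∈ omegaGL Q ∧ ∀ z : ι → F, (g : Matrix ι ι F) *ᵥ z =
      z + QuadraticMap.polar Q z w • p - QuadraticMap.polar Q z p • w -
        (Q w * QuadraticMap.polar Q z p) • p

/-- statement of ASCHO2-[ISOTROPIC] for a fixed `Q` -/
def IsotropicStmt (Q : (ι → F) → F) : Prop :=
  ∀ U : Submodule F (ι → F), IsNondegenerateOn (QuadraticMap.polar Q) U → 3 ≤ Module.finrank F U →
    ∃ p ∈ U, p ≠ 0 ∧ Q p = 0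

section
variable {Q : (ι → F) → F} (hQ : IsNondegenerateQuadraticForm Q)

theorem polarBilin_isSymm : (polarBilin hQ).IsSymm := by
  have hD := quadData_polarBilin hQ
  exact ⟨fun u v => by simpa using hD.symm u v⟩

theorem polarBilin_isRefl : (polarBilin hQ).IsRefl := (polarBilin_isSymm hQ).isRefl

theorem polarBilin_nondegenerate : (polarBilin hQ).Nondegenerate := by
  have hD := quadData_polarBilin hQ
  refine ⟨fun x hx => nondeg_polarBilin hQ x hx, fun y hy => nondeg_polarBilin hQ y ?_⟩
  intro x
  rw [hD.symm]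
  exact hy x

/-- a subspace meeting its orthogonal trivially is non-degenerate in the sense of the Prelude -/
theorem isNondegenerateOn_of_disjoint (C : Submodule F (ι → F))
    (h : Disjoint C ((polarBilin hQ).orthogonal C)) :
    IsNondegenerateOn (QuadraticMap.polar Q) C := by
  have hD := quadData_polarBilin hQ
  intro w hw hw0
  have key : ∃ x ∈ C, polarBilin hQ x w ≠ 0 := by
    by_contra hcon
    push Not at hcon
    have : w ∈ (polarBilin hQ).orthogonal C := fun x hx => hcon x hx
    exact hw0 ((Submodule.disjoint_def.mp h) w hw this)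
  obtain ⟨x, hx, hxw⟩ := key
  refine ⟨⟨x, hx, hxw⟩, ⟨x, hx, ?_⟩⟩
  rw [← polarBilin_apply hQ, hD.symm]
  exact hxw

include hQ in
theorem isNondegenerateOn_top : IsNondegenerateOn (QuadraticMap.polar Q) (⊤ : Submodule F (ι → F)) := by
  intro w _ hw0
  obtain ⟨⟨x, hx⟩, ⟨y, hy⟩⟩ := hQ.nondegenerate w hw0
  exact ⟨⟨x, trivial, hx⟩, ⟨y, trivial, hy⟩⟩

end

/-- ASCHO2-[PLANE] in `_of` form: [EICH] and [ISOTROPIC] as hypotheses (no `Fintype F`) -/
theorem exists_long_root_family_of {Q : (ι → F) → F} (hQ : IsNondegenerateQuadraticForm Q)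
    (heich : EichStmt Q) (hiso : IsotropicStmt Q) (h7 : 7 ≤ Fintype.card ι) :
    ∃ (N : Matrix ι ι F) (p w : ι → F), LinearIndependent F ![p, w] ∧ N ≠ 0 ∧ N * N = 0 ∧
      (∀ z, N *ᵥ z = QuadraticMap.polar Q z w • p - QuadraticMap.polar Q z p • w) ∧
      ∀ a : F, ∃ g : GL ι F, g ∈ omegaGL Q ∧ (g : Matrix ι ι F) = 1 + a • N := by
  classical
  have hD := quadData_polarBilin hQ
  set B := polarBilin hQ with hB
  have hBa : ∀ u v, QuadraticMap.polar Q u v = B u v := fun u v => rfl
  have hrefl : B.IsRefl := polarBilin_isRefl hQ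
  have hnd : B.Nondegenerate := polarBilin_nondegenerate hQ
  -- a singular vector
  obtain ⟨p, -, hp0, hQp⟩ := hiso ⊤ (isNondegenerateOn_top hQ) (by
    rw [finrank_top, Module.finrank_fintype_fun_eq_card]; omega)
  have hpp : B p p = 0 := by rw [hD.self, hQp, mul_zero]
  -- a partner
  obtain ⟨p', hpp'⟩ : ∃ p', B p p' ≠ 0 := by
    by_contra hcon
    push Not at hcon
    exact hp0 (nondeg_polarBilin hQ p hcon)
  have hp'p : B p' p ≠ 0 := by rw [hD.symm]; exact hpp'
  -- the hyperbolic-type plane and its orthogonal complement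
  set W : Submodule F (ι → F) := Submodule.span F {p, p'} with hW
  have hpW : p ∈ W := Submodule.subset_span (by simp)
  have hp'W : p' ∈ W := Submodule.subset_span (by simp)
  have hdisjW : Disjoint W (B.orthogonal W) := by
    rw [Submodule.disjoint_def]
    intro x hxW hxo
    obtain ⟨s, t, rfl⟩ := Submodule.mem_span_pair.mp hxW
    have h1 : B p (s • p + t • p') = 0 := hxo p hpW
    have h2 : B p' (s • p + t • p') = 0 := hxo p' hp'W
    rw [map_add, map_smul, map_smul, hpp, smul_eq_mul, smul_eq_mul, mul_zero, zero_add] at h1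
    have ht : t = 0 := by
      rcases mul_eq_zero.mp h1 with h | h
      · exact h
      · exact absurd h hpp'
    rw [ht, zero_smul, add_zero, map_smul, smul_eq_mul] at h2
    have hs : s = 0 := by
      rcases mul_eq_zero.mp h2 with h | h
      · exact h
      · exact absurd h hp'p
    rw [hs, ht, zero_smul, zero_smul, add_zero]
  set C : Submodule F (ι → F) := B.orthogonal W with hC
  have hCC : B.orthogonal C = W := LinearMap.BilinForm.orthogonal_orthogonal hnd hrefl W
  have hCnd : IsNondegenerateOn (QuadraticMap.polar Q) C := by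
    apply isNondegenerateOn_of_disjoint hQ C
    rw [show (polarBilin hQ).orthogonal C = W from hCC]
    exact hdisjW.symm
  have hWle : Module.finrank F W ≤ 2 := by
    have h1 := finrank_span_le_card (R := F) ({p, p'} : Set (ι → F))
    have h2 : ({p, p'} : Set (ι → F)).toFinset.card ≤ 2 := by
      rw [Set.toFinset_insert, Set.toFinset_singleton]
      exact Finset.card_insert_le _ _ |>.trans (by simp)
    exact h1.trans h2
  have hCfr : 3 ≤ Module.finrank F C := by
    have h1 : Module.finrank F C = Module.finrank F (ι → F) - Module.finrank F W :=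
      LinearMap.BilinForm.finrank_orthogonal hnd W
    rw [Module.finrank_fintype_fun_eq_card] at h1
    omega
  obtain ⟨w, hwC, hw0, hQw⟩ := hiso C hCnd hCfr
  have hww : B w w = 0 := by rw [hD.self, hQw, mul_zero]
  have hpw : B p w = 0 := hwC p hpW
  have hwp : B w p = 0 := by rw [hD.symm]; exact hpw
  have hp'w : B p' w = 0 := hwC p' hp'W
  have hli : LinearIndependent F ![p, w] := by
    rw [LinearIndependent.pair_iff]
    intro s t hst
    have h1 : B p' (s • p + t • w) = 0 := by rw [hst, map_zero]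
    rw [map_add, map_smul, map_smul, hp'w, smul_eq_mul, smul_eq_mul, mul_zero, add_zero] at h1
    have hs : s = 0 := by
      rcases mul_eq_zero.mp h1 with h | h
      · exact h
      · exact absurd h hp'p
    rw [hs, zero_smul, zero_add] at hst
    rcases smul_eq_zero.mp hst with h | h
    · exact ⟨hs, h⟩
    · exact absurd h hw0
  -- the nilpotent map
  let L : (ι → F) →ₗ[F] (ι → F) :=
    (B.flip w).smulRight p - (B.flip p).smulRight w
  have hL : ∀ z, L z = B z w • p - B z p • w := fun z => rfl
  have hLL : ∀ z, L (L z) = 0 := by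
    intro z
    rw [hL (L z), hL z]
    simp only [map_sub, map_smul, LinearMap.sub_apply, LinearMap.smul_apply, hpw, hww, hpp, hwp,
      smul_eq_mul, mul_zero, sub_zero, zero_smul]
  refine ⟨LinearMap.toMatrix' L, p, w, hli, ?_, ?_, ?_, ?_⟩
  · intro h0
    have h1 : L p' = 0 := by
      have := congrArg (fun M : Matrix ι ι F => M *ᵥ p') h0
      simpa [LinearMap.toMatrix'_mulVec] using this
    rw [hL, hp'w, zero_smul, zero_sub, neg_eq_zero] at h1
    rcases smul_eq_zero.mp h1 with h | h
    · exact hp'p h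
    · exact hw0 h
  · rw [← LinearMap.toMatrix'_comp]
    have : L ∘ₗ L = 0 := LinearMap.ext fun z => hLL z
    rw [this, map_zero]
  · intro z
    rw [LinearMap.toMatrix'_mulVec, hL, hBa, hBa]
  · intro a
    obtain ⟨g, hg, hgz⟩ := heich p (a • w) hQp (by
      rw [hBa, map_smul, hpw, smul_zero])
    refine ⟨g, hg, ?_⟩
    apply Matrix.toLin'.injective
    apply LinearMap.ext
    intro z
    rw [Matrix.toLin'_apply, hgz, Matrix.toLin'_apply, Matrix.add_mulVec, Matrix.one_mulVec,
      Matrix.smul_mulVec, LinearMap.toMatrix'_mulVec, hL]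
    have hQaw : Q (a • w) = 0 := by rw [hQ.smul, hQw, mul_zero]
    rw [hQaw, zero_mul, zero_smul, sub_zero, hBa, hBa, map_smul, smul_eq_mul, smul_sub, smul_smul,
      smul_smul, add_sub_assoc, mul_comm (B z p) a, smul_smul]

end Cfsg.Agent.Lib.Helper80.AschO2
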