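import Mathlib
import Cfsg.Agent.Lib.Helper16.BPInstDefs
import Cfsg.Agent.Lib.Helper16.BPNilDefs
import Cfsg.Agent.Lib.Helper16.BPNorm
import Cfsg.Agent.Lib.Helper16.BPExhaust
import Cfsg.Agent.Lib.Helper16.InducedCent
import Cfsg.Agent.Lib.Helper16.BrauerHom
import Cfsg.Agent.Lib.Helper78.CharMore
import Cfsg.Agent.Lib.Helper78.CharOrtho
import Cfsg.Agent.Lib.Helper78.SMTOrtho2
import Cfsg.Agent.Lib.Helper80.CharBasic

/-!
PROJECT BP (helper92's sheet; helper16's [L4-INST] cut), module BP-[INST-ZSPAN], hypothesis form: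
a generalized character `θ` with `IsStar` for `locSysOf p M P e η` and `χ ∈ B` is an integer
combination of the members of `B`.  The statements of BP-[INST-BR1] and BP-[INST-BR2] are taken as
hypotheses (`BR1Hyp`, `BR2Hyp`).
-/

set_option autoImplicit false
set_option linter.unusedSectionVars false

namespace Cfsg.Agent.Lib.Helper80.BP

open Cfsg Cfsg.Agent.Lib.Helper16 Cfsg.Agent.Lib.Helper16.BP Cfsg.Agent.Lib.Helper78
  Cfsg.Agent.Lib.Helper82 Cfsg.Agent.Lib.Helper92.BP

universe u

variable {G : Type u} [Group G] [Fintype G] {M : Ideal AlgInt} {p : ℕ} [Fact p.Prime]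
  {B : Set (IrrCharacter G)} {P : Subgroup G}
  {e : Set (IrrCharacter (Subgroup.centralizer (P : Set G)))}

/-- the statement of BP-[INST-BR1] for a given local system `μ` and function `χ` -/
def BR1Hyp (M : Ideal AlgInt) [M.IsPrime] (p : ℕ) (μ : LocSys G) (χ : G → ℂ) : Prop :=
  ∀ {u : G} (_ : ∃ k : ℕ, orderOf u = p ^ k) (s : locC u),
    ThetaQ M μ χ (Subgroup.zpowers u) u (MonoidAlgebra.of (localSubring M) G (s : G)) =
      ∑ᶠ f ∈ {f : Set (IrrCharacter (locC u)) | IsPBlock M f},
        μ (Subgroup.zpowers u) f u * blockPart f (fun c : locC u => χ (u * (c : G))) s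

/-- the statement of BP-[INST-BR2] (in universe `u`) -/
def BR2Hyp (M : Ideal AlgInt) (p : ℕ) : Prop :=
  ∀ {H : Type u} [Group H] [Fintype H] (ϑ Θ : H → ℂ) (a : Set (IrrCharacter H) → ℂ),
    (∀ c : H, ¬ p ∣ orderOf c →
      Θ c = ∑ᶠ f ∈ {f : Set (IrrCharacter H) | IsPBlock M f}, a f * blockPart f ϑ c) →
    ∀ {f' : Set (IrrCharacter H)}, IsPBlock M f' → ∀ s : H, ¬ p ∣ orderOf s →
      blockPart f' Θ s = a f' * blockPart f' ϑ s

theorem genChar_isClassFunction {X : Type*} [Group X] {a : X → ℂ}
    (ha : IsGeneralizedCharacter X a) : IsClassFunction X a := by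
  obtain ⟨χ1, ψ1, h1, h2, rfl⟩ := ha
  intro g h
  have e1 := Helper80.isClassFunction_of_isCharacter h1 g h
  have e2 := Helper80.isClassFunction_of_isCharacter h2 g h
  simp only [Pi.sub_apply, e1, e2]

theorem ci_sub_left (f₁ f₂ ψ : G → ℂ) :
    classInner (f₁ - f₂) ψ = classInner f₁ ψ - classInner f₂ ψ := by
  simp [classInner, sub_mul, Finset.sum_sub_distrib, mul_sub]

theorem genChar_classInner_int {θ : G → ℂ} (hθ : IsGeneralizedCharacter G θ) (ψ : IrrCharacter G) :
    ∃ n : ℤ, classInner θ (ψ : G → ℂ) = n := by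
  obtain ⟨χ1, χ2, h1, h2, rfl⟩ := hθ
  obtain ⟨n1, hn1⟩ := Cfsg.Agent.Lib.Helper78.IsCharacter.exists_nat_classInner h1 ψ
  obtain ⟨n2, hn2⟩ := Cfsg.Agent.Lib.Helper78.IsCharacter.exists_nat_classInner h2 ψ
  refine ⟨(n1 : ℤ) - n2, ?_⟩
  rw [ci_sub_left, hn1, hn2]
  push_cast
  rfl

open scoped Classical in
theorem blockPart_eq_sum_smul (S : Set (IrrCharacter G)) (θ : G → ℂ) :
    blockPart S θ = ∑ ξ ∈ Finset.univ.filter (fun ξ : IrrCharacter G => ξ ∈ S),
      classInner θ (ξ : G → ℂ) • (ξ : G → ℂ) := by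
  funext y
  rw [blockPart_apply, Finset.sum_apply]
  rfl

theorem blockPart_add' {H : Type*} [Group H] [Fintype H] (S : Set (IrrCharacter H))
    (f g : H → ℂ) (y : H) :
    blockPart S (f + g) y = blockPart S f y + blockPart S g y := by
  classical
  simp only [blockPart_apply, classInner_add_left, add_mul, Finset.sum_add_distrib]

theorem isClassFunction_blockPart (S : Set (IrrCharacter G)) (θ : G → ℂ) :
    IsClassFunction G (blockPart S θ) := by
  classical
  intro g h
  rw [blockPart_apply, blockPart_apply]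
  apply Finset.sum_congr rfl
  intro ξ _
  rw [isClassFunction_irr ξ g h]

open scoped Classical in
theorem classInner_blockPart' (S : Set (IrrCharacter G)) (Θ : G → ℂ) (ψ : IrrCharacter G) :
    classInner (blockPart S Θ) (ψ : G → ℂ) = if ψ ∈ S then classInner Θ (ψ : G → ℂ) else 0 := by
  rw [blockPart_eq_sum_smul, classInner_sum_left]
  simp only [classInner_smul_left]
  have h2 : ∀ ξ : IrrCharacter G, classInner (ξ : G → ℂ) (ψ : G → ℂ) = if ξ = ψ then 1 else 0 := by
    intro ξ
    rw [classInner_irr ξ.2 ψ.2]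
    by_cases h : ξ = ψ
    · rw [if_pos h, if_pos (by rw [h])]
    · rw [if_neg h, if_neg (fun h' => h (Subtype.ext h'))]
  simp only [h2, mul_ite, mul_one, mul_zero]
  rw [Finset.sum_ite_eq']
  simp

/-- BP-[INST-ZSPAN], hypothesis form -/
theorem isZSpan_of_isStar_of [hMp : M.IsPrime] (hM : IsPModular p M)
    (hmax : IsMaximalBrauerPair p M B P e) (η : P → ℂ) {χ : IrrCharacter G} (hχ : χ ∈ B)
    {θ : G → ℂ} (hθg : IsGeneralizedCharacter G θ)
    (hstar : IsStar M p (locSysOf p M P e η) (χ : G → ℂ) θ)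
    (hBR1 : BR1Hyp M p (locSysOf p M P e η) (χ : G → ℂ)) (hBR2 : BR2Hyp.{u} M p) :
    IsZSpan B θ := by
  classical
  have hB : IsPBlock M B := hmax.1.2.1
  have hθcf : IsClassFunction G θ := genChar_isClassFunction hθg
  choose n hn using genChar_classInner_int hθg
  -- the coefficients outside `B` vanish
  have hzero : ∀ ψ : IrrCharacter G, ψ ∉ B → classInner θ (ψ : G → ℂ) = 0 := by
    intro ψ₀ hψ₀
    have hB' : IsPBlock M (blockOf M (ψ₀ : G → ℂ)) := isPBlock_blockOf ψ₀
    have hψ₀B' : ψ₀ ∈ blockOf M (ψ₀ : G → ℂ) := self_mem_blockOf hMp.ne_top ψ₀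
    have hne : blockOf M (ψ₀ : G → ℂ) ≠ B := fun h => hψ₀ (h ▸ hψ₀B')
    have hχB' : χ ∉ blockOf M (ψ₀ : G → ℂ) := fun h => hne (IsPBlock_eq_of_mem hB' hB h hχ)
    obtain ⟨D, hD⟩ := exists_isDefectGroup p hB'
    obtain ⟨d, hmax'⟩ := exists_isMaximalBrauerPair_of_isDefectGroup hM hB' hD
    have hθ'0 : blockPart (blockOf M (ψ₀ : G → ℂ)) θ = 0 := by
      apply eq_zero_of_local_eq_zero hM hmax' (isClassFunction_blockPart _ _)
      · intro ψ hψ
        rw [classInner_blockPart', if_neg hψ]
      · intro v hv f' hle s hs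
        have hH : ∀ a : G, a ∈ locC v ↔ Commute v a := mem_centralizer_zpowers_iff v
        haveI : Fintype (locC v) := Fintype.ofFinite _
        have hDp : IsPGroup p D := hmax'.1.1.1
        have hvp : ∃ k : ℕ, orderOf v = p ^ k := by
          obtain ⟨k, hk⟩ := (IsPGroup.iff_orderOf.mp hDp) ⟨v, hv⟩
          exact ⟨k, by rw [← hk, Subgroup.orderOf_mk]⟩
        have hpair : IsBrauerPair p M (Subgroup.zpowers v) f' :=
          Cfsg.Agent.S4655.le_pair_left (a := ⟨Subgroup.zpowers v, f'⟩) (b := ⟨D, d⟩) hle hmax'.1.1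
        have hpairOf : IsBrauerPairOf p M (blockOf M (ψ₀ : G → ℂ)) (Subgroup.zpowers v) f' :=
          (Cfsg.Agent.S4658.chain_iff p M hM _ ⟨Subgroup.zpowers v, f'⟩ ⟨D, d⟩ hle).mp hmax'.1
        have hab : Subgroup.zpowers v ≤
            Subgroup.centralizer ((Subgroup.zpowers v : Subgroup G) : Set G) := by
          intro a ha
          rw [mem_centralizer_zpowers_iff]
          obtain ⟨m, rfl⟩ := Subgroup.mem_zpowers_iff.mp ha
          exact (Commute.refl v).zpow_right m
        have hind : IsInducedBlock M (locC v) f' (blockOf M (ψ₀ : G → ℂ)) :=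
          isInducedBlock_of_isBrauerPairOf hM hab hpairOf
        -- step b: replace the `B'`-part of `θ` by `θ`
        have hdiff : IsClassFunction G (θ - blockPart (blockOf M (ψ₀ : G → ℂ)) θ) := by
          intro g h
          simp only [Pi.sub_apply, hθcf g h, isClassFunction_blockPart _ θ g h]
        have horth : ∀ ψ : IrrCharacter G, ψ ∈ blockOf M (ψ₀ : G → ℂ) →
            classInner (θ - blockPart (blockOf M (ψ₀ : G → ℂ)) θ) (ψ : G → ℂ) = 0 := by
          intro ψ hψ
          rw [ci_sub_left, classInner_blockPart', if_pos hψ, sub_self]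
        have h1 := secPart_eq_zero_of_classInner_eq_zero hM v hvp (locC v) hH hind hdiff horth s hs
        unfold secPart at h1
        have hsplit : (fun c : locC v => θ (v * (c : G))) =
            (fun c : locC v => (θ - blockPart (blockOf M (ψ₀ : G → ℂ)) θ) (v * (c : G))) +
            (fun c : locC v => blockPart (blockOf M (ψ₀ : G → ℂ)) θ (v * (c : G))) := by
          funext c
          simp
        -- step c + d : the `f'`-part of the twist of `θ` vanishes
        have h2 : blockPart f' (fun c : locC v => θ (v * (c : G))) s = 0 := by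
          have hΘ : ∀ c : locC v, ¬ p ∣ orderOf c →
              (fun c : locC v => θ (v * (c : G))) c =
                ∑ᶠ f ∈ {f : Set (IrrCharacter (locC v)) | IsPBlock M f},
                  (fun f => locSysOf p M P e η (Subgroup.zpowers v) f v) f *
                    blockPart f (fun c : locC v => (χ : G → ℂ) (v * (c : G))) c := by
            intro c hc
            have hc' : ¬ p ∣ orderOf (c : G) := by rwa [Subgroup.orderOf_coe]
            have hcomm : Commute v (c : G) := (hH c).mp c.2
            show θ (v * (c : G)) = _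
            rw [hstar v (c : G) hvp hc' hcomm, hBR1 hvp c]
          have := hBR2 (fun c : locC v => (χ : G → ℂ) (v * (c : G)))
            (fun c : locC v => θ (v * (c : G)))
            (fun f => locSysOf p M P e η (Subgroup.zpowers v) f v) hΘ hpair.2 s hs
          rw [this]
          have h3 := secPart_eq_zero_of_not_mem hM v hvp (locC v) hH hind χ hχB' s hs
          unfold secPart at h3
          rw [h3, mul_zero]
        -- conclude by linearity
        have h4 : blockPart f' (fun c : locC v => θ (v * (c : G))) s =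
            blockPart f' (fun c : locC v =>
              (θ - blockPart (blockOf M (ψ₀ : G → ℂ)) θ) (v * (c : G))) s +
            blockPart f' (fun c : locC v => blockPart (blockOf M (ψ₀ : G → ℂ)) θ (v * (c : G))) s := by
          rw [hsplit, blockPart_add']
        rw [h2, h1, zero_add] at h4
        exact h4.symm
    have h5 := classInner_blockPart' (blockOf M (ψ₀ : G → ℂ)) θ ψ₀
    rw [hθ'0, if_pos hψ₀B'] at h5
    rw [← h5]
    simp [classInner]
  -- assemble
  refine ⟨n, fun g => ?_⟩
  have hexp := congrFun (classFunction_eq_sum_irr hθcf) g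
  rw [Finset.sum_apply] at hexp
  simp only [Pi.smul_apply, smul_eq_mul] at hexp
  rw [hexp]
  rw [finsum_mem_eq_sum_of_subset (t := Finset.univ.filter (fun ξ : IrrCharacter G => ξ ∈ B))
      _ (by intro x hx; simpa using hx.1) (by intro x hx; simpa using hx)]
  rw [Finset.sum_filter]
  apply Finset.sum_congr rfl
  intro ψ _
  by_cases hψ : ψ ∈ B
  · rw [if_pos hψ, hn ψ]
  · rw [if_neg hψ, hzero ψ hψ, zero_mul]

end Cfsg.Agent.Lib.Helper80.BP
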