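import Mathlib
import Cfsg.Agent.Lib.Helper80.BPInstZSpan
import Cfsg.Agent.Lib.Helper77.BPInstBr1
import Cfsg.Agent.Lib.Helper78.BPInstBr2

/-!
PROJECT BP (helper16's [L4-INST] cut), module BP-[INST-ZSPAN], exact form: `isZSpan_of_isStar`
(hypothesis form of `BPInstZSpan.lean` + BP-[INST-BR1] (helper77) + BP-[INST-BR2] (helper78)).
-/

set_option autoImplicit false

namespace Cfsg.Agent.Lib.Helper80.BP

open Cfsg Cfsg.Agent.Lib.Helper16 Cfsg.Agent.Lib.Helper16.BP Cfsg.Agent.Lib.Helper78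
  Cfsg.Agent.Lib.Helper92.BP

universe u

variable {G : Type u} [Group G] [Fintype G] {M : Ideal AlgInt} {p : ℕ} [Fact p.Prime]
  {B : Set (IrrCharacter G)} {P : Subgroup G}
  {e : Set (IrrCharacter (Subgroup.centralizer (P : Set G)))}

/-- BP-[INST-ZSPAN] : a generalized character with `IsStar` for `locSysOf` and `χ ∈ B` is an integer
combination of `B`. -/
theorem isZSpan_of_isStar [hMp : M.IsPrime] (hM : IsPModular p M)
    (hmax : IsMaximalBrauerPair p M B P e) (η : P → ℂ) {χ : IrrCharacter G} (hχ : χ ∈ B)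
    {θ : G → ℂ} (hθg : IsGeneralizedCharacter G θ)
    (hstar : IsStar M p (locSysOf p M P e η) (χ : G → ℂ) θ) : IsZSpan B θ := by
  refine isZSpan_of_isStar_of hM hmax η hχ hθg hstar ?_ ?_
  · intro u hu s
    exact Cfsg.Agent.Lib.Helper77.BP.thetaQ_of_eq_sum_blockPart hM _ (isClassFunction_irr χ) hu s
  · intro H _ _ ϑ Θ a hΘ f' hf' s hs
    exact Cfsg.Agent.Lib.Helper78.BP.blockPart_eq_of_regular_eq hM ϑ Θ a hΘ hf' s hs

end Cfsg.Agent.Lib.Helper80.BP
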