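import Mathlib

/-!
# Camina pairs (helper80)

Elementary group-theoretic tools for Camina's theorem: if `N ⊴ G` is such that every `g ∉ N` is
conjugate to all of `gN`, then `G` is Frobenius with kernel `N`, or `N` or `G/N` has prime power
order.
-/

set_option autoImplicit false

namespace Cfsg.Agent.Lib.Helper80

universe u

section camina

variable {G : Type u} [Group G]

/-- the Camina condition on a normal subgroup -/
def IsCamina (N : Subgroup G) : Prop :=
  ∀ g : G, g ∉ N → ∀ n ∈ N, ∃ x : G, x * g * x⁻¹ = g * n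

/-- Frobenius-type condition -/
def IsFrobType (N : Subgroup G) : Prop :=
  ∀ x ∈ N, x ≠ 1 → Subgroup.centralizer ({x} : Set G) ≤ N

theorem camina_pow_eq_one {N : Subgroup G} (hcam : IsCamina N) {g : G} (hg : g ∉ N) {m : ℕ}
    (hgm : g ^ m = 1) {x : G} (hx : x ∈ N) (hc : Commute g x) : x ^ m = 1 := by
  obtain ⟨t, ht⟩ := hcam g hg x hx
  have h1 : (g * x) ^ m = 1 := by
    rw [← ht, conj_pow, hgm, mul_one, mul_inv_cancel]
  rw [hc.mul_pow, hgm, one_mul] at h1
  exact h1

/-- an element outside `N` has a prime-power-order power outside `N` -/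
theorem exists_prime_pow_not_mem [Finite G] {N : Subgroup G} [N.Normal] {g : G} (hg : g ∉ N) :
    ∃ q : ℕ, q.Prime ∧ ∃ m k : ℕ, g ^ m ∉ N ∧ (g ^ m) ^ (q ^ k) = 1 ∧ q ∣ N.index := by
  have hne : ((g : G) : G ⧸ N) ≠ 1 := by
    intro h
    exact hg ((QuotientGroup.eq_one_iff g).1 h)
  have hord : orderOf ((g : G) : G ⧸ N) ≠ 1 := by
    intro h
    exact hne (orderOf_eq_one_iff.1 h)
  obtain ⟨q, hq, hqd⟩ := Nat.exists_prime_and_dvd hord
  have hpos : 0 < orderOf g := orderOf_pos g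
  obtain ⟨k, m, hm, hkm⟩ := Nat.exists_eq_pow_mul_and_not_dvd hpos.ne' q hq.ne_one
  refine ⟨q, hq, m, k, ?_, ?_, ?_⟩
  · intro hmem
    have h1 : ((g : G) : G ⧸ N) ^ m = 1 := by
      rw [← QuotientGroup.mk_pow]
      exact (QuotientGroup.eq_one_iff _).2 hmem
    have h2 : orderOf ((g : G) : G ⧸ N) ∣ m := orderOf_dvd_of_pow_eq_one h1
    exact hm (hqd.trans h2)
  · rw [← pow_mul, mul_comm, ← hkm, pow_orderOf_eq_one]
  · have h2 : orderOf ((g : G) : G ⧸ N) ∣ Nat.card (G ⧸ N) := orderOf_dvd_natCard _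
    rw [Subgroup.index_eq_card]
    exact hqd.trans h2

/-- no common prime divisor: Frobenius type -/
theorem isFrobType_of_coprime [Finite G] {N : Subgroup G} [N.Normal] (hcam : IsCamina N)
    (hcop : ∀ q : ℕ, q.Prime → q ∣ Nat.card N → q ∣ N.index → False) : IsFrobType N := by
  intro x hx hx1 g hgc
  by_contra hg
  obtain ⟨q, hq, m, k, hgm, hgmk, hqi⟩ := exists_prime_pow_not_mem hg
  have hc : Commute (g ^ m) x := by
    rw [Subgroup.mem_centralizer_iff] at hgc
    have : x * g = g * x := hgc x (Set.mem_singleton x)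
    exact (Commute.pow_left this.symm m)
  have hxq : x ^ (q ^ k) = 1 := camina_pow_eq_one hcam hgm hgmk hx hc
  have hox : orderOf x ∣ q ^ k := orderOf_dvd_of_pow_eq_one hxq
  have hox1 : orderOf x ≠ 1 := fun h => hx1 (orderOf_eq_one_iff.1 h)
  obtain ⟨j, hj, hoj⟩ := (Nat.dvd_prime_pow hq).1 hox
  have hj0 : j ≠ 0 := by
    intro h0
    rw [h0, pow_zero] at hoj
    exact hox1 hoj
  have hqx : q ∣ orderOf x := by
    rw [hoj]
    exact dvd_pow_self q hj0
  have hxN : orderOf x ∣ Nat.card N := Subgroup.orderOf_dvd_natCard N hx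
  exact hcop q hq (hqx.trans hxN) hqi

/-- orbit-stabilizer for a subgroup acting by conjugation on an element -/
theorem relIndex_centralizer_eq_ncard (Z : Subgroup G) (g : G) :
    (Subgroup.centralizer ({g} : Set G)).relIndex Z =
      Set.ncard {h : G | ∃ z ∈ Z, z * g * z⁻¹ = h} := by
  classical
  rw [Subgroup.relIndex, Subgroup.index_eq_card, ← Nat.card_coe_set_eq]
  apply Nat.card_congr
  let f : ↥Z → {h : G | ∃ z ∈ Z, z * g * z⁻¹ = h} := fun z => ⟨z * g * z⁻¹, z, z.2, rfl⟩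
  have hf : ∀ a b : ↥Z, QuotientGroup.leftRel ((Subgroup.centralizer ({g} : Set G)).subgroupOf Z) a b →
      f a = f b := by
    intro a b hab
    rw [QuotientGroup.leftRel_apply, Subgroup.mem_subgroupOf, Subgroup.mem_centralizer_iff] at hab
    have h1 : g * ((a : G)⁻¹ * (b : G)) = ((a : G)⁻¹ * (b : G)) * g := by
      have := hab g (Set.mem_singleton g)
      simpa using this
    apply Subtype.ext
    show (a : G) * g * (a : G)⁻¹ = (b : G) * g * (b : G)⁻¹
    have h2 : g * (a : G)⁻¹ * (b : G) = (a : G)⁻¹ * (b : G) * g := by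
      rw [mul_assoc]; exact h1
    calc (a : G) * g * (a : G)⁻¹ = (a : G) * (g * (a : G)⁻¹ * (b : G)) * (b : G)⁻¹ := by group
      _ = (a : G) * ((a : G)⁻¹ * (b : G) * g) * (b : G)⁻¹ := by rw [h2]
      _ = (b : G) * g * (b : G)⁻¹ := by group
  refine Equiv.ofBijective (Quotient.lift f hf) ⟨?_, ?_⟩
  · intro a b
    induction a using Quotient.inductionOn with | _ a => ?_
    induction b using Quotient.inductionOn with | _ b => ?_
    intro hab
    apply Quotient.sound
    show QuotientGroup.leftRel _ a b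
    rw [QuotientGroup.leftRel_apply, Subgroup.mem_subgroupOf, Subgroup.mem_centralizer_iff]
    intro h hh
    rw [Set.mem_singleton_iff] at hh
    subst hh
    have h1 : (a : G) * h * (a : G)⁻¹ = (b : G) * h * (b : G)⁻¹ := congrArg Subtype.val hab
    show h * (((a⁻¹ * b : ↥Z) : G)) = ((a⁻¹ * b : ↥Z) : G) * h
    have h2 : h * (a : G)⁻¹ * (b : G) = (a : G)⁻¹ * (b : G) * h := by
      calc h * (a : G)⁻¹ * (b : G) = (a : G)⁻¹ * ((a : G) * h * (a : G)⁻¹) * (b : G) := by group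
        _ = (a : G)⁻¹ * ((b : G) * h * (b : G)⁻¹) * (b : G) := by rw [h1]
        _ = (a : G)⁻¹ * (b : G) * h := by group
    simpa [mul_assoc] using h2
  · rintro ⟨h, z, hz, rfl⟩
    exact ⟨Quotient.mk'' ⟨z, hz⟩, rfl⟩

theorem card_eq_card_inf_mul_relIndex [Finite G] (C Z : Subgroup G) :
    Nat.card Z = Nat.card ↥(C ⊓ Z) * C.relIndex Z := by
  have h1 := Subgroup.card_mul_index (C.subgroupOf Z)
  have h2 : Nat.card ↥(C.subgroupOf Z) = Nat.card ↥(C ⊓ Z) := by
    have : C.subgroupOf Z = (C ⊓ Z).subgroupOf Z := by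
      ext x
      simp [Subgroup.mem_subgroupOf]
    rw [this]
    exact Nat.card_congr (Subgroup.subgroupOfEquivOfLe (inf_le_right : C ⊓ Z ≤ Z)).toEquiv
  rw [← h1, h2]
  rfl

theorem ncard_mul_left_image [Finite G] (g : G) (M : Subgroup G) :
    Set.ncard {h : G | ∃ n ∈ M, h = g * n} = Nat.card M := by
  have h1 : {h : G | ∃ n ∈ M, h = g * n} = (fun n => g * n) '' (M : Set G) := by
    ext h
    constructor
    · rintro ⟨n, hn, rfl⟩
      exact ⟨n, hn, rfl⟩
    · rintro ⟨n, hn, rfl⟩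
      exact ⟨n, hn, rfl⟩
  rw [h1, Set.ncard_image_of_injective _ (mul_right_injective g)]
  exact (Nat.card_coe_set_eq (M : Set G)).symm

/-- centralizer orders in a Camina pair -/
theorem card_centralizer_eq_of_camina [Finite G] {N : Subgroup G} [N.Normal] (hcam : IsCamina N)
    {g : G} (hg : g ∉ N) :
    Nat.card (Subgroup.centralizer ({g} : Set G)) =
      Nat.card (Subgroup.centralizer ({(g : G ⧸ N)} : Set (G ⧸ N))) := by
  classical
  set clG : Set G := {h : G | ∃ z ∈ (⊤ : Subgroup G), z * g * z⁻¹ = h} with hclG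
  set clQ : Set (G ⧸ N) := {q : G ⧸ N | ∃ z ∈ (⊤ : Subgroup (G ⧸ N)), z * (g : G ⧸ N) * z⁻¹ = q}
    with hclQ
  have hpre : clG = (QuotientGroup.mk : G → G ⧸ N) ⁻¹' clQ := by
    ext h
    constructor
    · rintro ⟨z, -, rfl⟩
      exact ⟨(z : G ⧸ N), Subgroup.mem_top _, by simp⟩
    · rintro ⟨zq, -, hz⟩
      obtain ⟨z, rfl⟩ := QuotientGroup.mk_surjective zq
      have h1 : ((z * g * z⁻¹ : G) : G ⧸ N) = (h : G ⧸ N) := by
        simpa using hz
      have h2 : (z * g * z⁻¹)⁻¹ * h ∈ N := QuotientGroup.eq.1 h1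
      have h3 : z⁻¹ * ((z * g * z⁻¹)⁻¹ * h) * z⁻¹⁻¹ ∈ N := ‹N.Normal›.conj_mem _ h2 z⁻¹
      obtain ⟨x, hx⟩ := hcam g hg _ h3
      refine ⟨z * x, Subgroup.mem_top _, ?_⟩
      calc z * x * g * (z * x)⁻¹ = z * (x * g * x⁻¹) * z⁻¹ := by group
        _ = z * (g * (z⁻¹ * ((z * g * z⁻¹)⁻¹ * h) * z⁻¹⁻¹)) * z⁻¹ := by rw [hx]
        _ = h := by group
  have hcard : Set.ncard clG = Nat.card N * Set.ncard clQ := by
    rw [hpre, ← Nat.card_coe_set_eq, ← Nat.card_coe_set_eq]
    exact QuotientGroup.card_preimage_mk N clQ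
  have hG : Nat.card (Subgroup.centralizer ({g} : Set G)) * Set.ncard clG = Nat.card G := by
    rw [hclG, ← relIndex_centralizer_eq_ncard, Subgroup.relIndex_top_right,
      Subgroup.card_mul_index]
  have hQ : Nat.card (Subgroup.centralizer ({(g : G ⧸ N)} : Set (G ⧸ N))) * Set.ncard clQ =
      Nat.card (G ⧸ N) := by
    rw [hclQ, ← relIndex_centralizer_eq_ncard, Subgroup.relIndex_top_right,
      Subgroup.card_mul_index]
  have hNQ : Nat.card N * Nat.card (G ⧸ N) = Nat.card G := by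
    rw [← Subgroup.index_eq_card, Subgroup.card_mul_index]
  have hpos : 0 < Nat.card N * Set.ncard clQ := by
    apply Nat.mul_pos Nat.card_pos
    rw [Set.ncard_pos (Set.toFinite _)]
    exact ⟨(g : G ⧸ N), 1, Subgroup.mem_top _, by simp⟩
  have : Nat.card N * Set.ncard clQ * Nat.card (Subgroup.centralizer ({g} : Set G)) =
      Nat.card N * Set.ncard clQ *
        Nat.card (Subgroup.centralizer ({(g : G ⧸ N)} : Set (G ⧸ N))) := by
    calc Nat.card N * Set.ncard clQ * Nat.card (Subgroup.centralizer ({g} : Set G))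
        = Nat.card (Subgroup.centralizer ({g} : Set G)) * (Nat.card N * Set.ncard clQ) := by ring
      _ = Nat.card (Subgroup.centralizer ({g} : Set G)) * Set.ncard clG := by rw [hcard]
      _ = Nat.card G := hG
      _ = Nat.card N * Nat.card (G ⧸ N) := hNQ.symm
      _ = Nat.card N * (Nat.card (Subgroup.centralizer ({(g : G ⧸ N)} : Set (G ⧸ N))) *
            Set.ncard clQ) := by rw [hQ]
      _ = _ := by ring
  exact Nat.eq_of_mul_eq_mul_left hpos this

/-- supplements of `N` inherit the Camina condition, and contain the centralizers of their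
elements outside `N` -/
theorem supplement_camina [Finite G] {N : Subgroup G} [hN : N.Normal] (hcam : IsCamina N)
    (X : Subgroup G) (hX : X ⊔ N = ⊤) {g : G} (hgX : g ∈ X) (hgN : g ∉ N) :
    Subgroup.centralizer ({g} : Set G) ≤ X ∧
      ∀ n ∈ N ⊓ X, ∃ x ∈ X, x * g * x⁻¹ = g * n := by
  classical
  set C := Subgroup.centralizer ({g} : Set G) with hC
  set Y : Subgroup G :=
    (Subgroup.centralizer ({(g : G ⧸ N)} : Set (G ⧸ N))).comap (QuotientGroup.mk' N) with hYdef
  have hY : ∀ y : G, y ∈ Y ↔ ∃ n ∈ N, y * g * y⁻¹ = g * n := by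
    intro y
    rw [hYdef, Subgroup.mem_comap, Subgroup.mem_centralizer_iff]
    constructor
    · intro h
      have h1 : (g : G ⧸ N) * (y : G ⧸ N) = (y : G ⧸ N) * (g : G ⧸ N) :=
        h _ (Set.mem_singleton _)
      have h2 : ((g * y : G) : G ⧸ N) = ((y * g : G) : G ⧸ N) := by
        simpa using h1
      have h3 : (g * y)⁻¹ * (y * g) ∈ N := QuotientGroup.eq.1 h2
      refine ⟨y * ((g * y)⁻¹ * (y * g)) * y⁻¹, hN.conj_mem _ h3 y, ?_⟩
      group
    · rintro ⟨n, hn, hyn⟩ h hh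
      rw [Set.mem_singleton_iff] at hh
      subst hh
      show (g : G ⧸ N) * (y : G ⧸ N) = (y : G ⧸ N) * (g : G ⧸ N)
      have h1 : ((y * g * y⁻¹ : G) : G ⧸ N) = (g : G ⧸ N) := by
        rw [hyn, QuotientGroup.mk_mul, (QuotientGroup.eq_one_iff n).2 hn, mul_one]
      have h2 : (y : G ⧸ N) * (g : G ⧸ N) * (y : G ⧸ N)⁻¹ = (g : G ⧸ N) := by
        simpa using h1
      calc (g : G ⧸ N) * (y : G ⧸ N)
          = ((y : G ⧸ N) * (g : G ⧸ N) * (y : G ⧸ N)⁻¹) * (y : G ⧸ N) := by rw [h2]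
        _ = (y : G ⧸ N) * (g : G ⧸ N) := by group
  have hNY : N ≤ Y := by
    intro n hn
    rw [hY]
    refine ⟨g⁻¹ * n * g * n⁻¹, ?_, by group⟩
    have : g⁻¹ * n * g⁻¹⁻¹ ∈ N := hN.conj_mem n hn g⁻¹
    have h2 := N.mul_mem this (N.inv_mem hn)
    simpa [mul_assoc] using h2
  have hCY : C ≤ Y := by
    intro c hc
    rw [hY]
    refine ⟨1, N.one_mem, ?_⟩
    rw [hC, Subgroup.mem_centralizer_iff] at hc
    have := hc g (Set.mem_singleton g)
    rw [mul_one, ← this]; group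
  -- orbits
  have horbY : {h : G | ∃ z ∈ Y, z * g * z⁻¹ = h} = {h : G | ∃ n ∈ N, h = g * n} := by
    ext h
    constructor
    · rintro ⟨z, hz, rfl⟩
      obtain ⟨n, hn, hzn⟩ := (hY z).1 hz
      exact ⟨n, hn, hzn⟩
    · rintro ⟨n, hn, rfl⟩
      obtain ⟨x, hx⟩ := hcam g hgN n hn
      exact ⟨x, (hY x).2 ⟨n, hn, hx⟩, hx⟩
  have horbX : {h : G | ∃ z ∈ Y ⊓ X, z * g * z⁻¹ = h} ⊆ {h : G | ∃ n ∈ N ⊓ X, h = g * n} := by
    rintro h ⟨z, ⟨hzY, hzX⟩, rfl⟩
    obtain ⟨n, hn, hzn⟩ := (hY z).1 hzY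
    refine ⟨n, ⟨hn, ?_⟩, hzn⟩
    have : n = g⁻¹ * (z * g * z⁻¹) := by rw [hzn]; group
    rw [this]
    exact X.mul_mem (X.inv_mem hgX) (X.mul_mem (X.mul_mem hzX hgX) (X.inv_mem hzX))
  have hYsup : Y = N ⊔ (Y ⊓ X) := by
    apply le_antisymm
    · intro y hy
      have hytop : y ∈ X ⊔ N := by rw [hX]; exact Subgroup.mem_top y
      obtain ⟨x, hx, n, hn, rfl⟩ := Subgroup.mem_sup_of_normal_right.1 hytop
      have hxY : x ∈ Y := by
        have : x = x * n * n⁻¹ := by group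
        rw [this]
        exact Y.mul_mem hy (Y.inv_mem (hNY hn))
      have : x * n ∈ (Y ⊓ X) ⊔ N :=
        Subgroup.mul_mem_sup (⟨hxY, hx⟩ : x ∈ Y ⊓ X) hn
      rwa [sup_comm] at this
    · exact sup_le hNY inf_le_left
  -- numbers
  have e1 : Nat.card Y = Nat.card ↥(C ⊓ Y) * C.relIndex Y := card_eq_card_inf_mul_relIndex C Y
  have e2 : Nat.card Y = Nat.card ↥(N ⊓ Y) * N.relIndex Y := card_eq_card_inf_mul_relIndex N Y
  have e3 : Nat.card ↥(Y ⊓ X) = Nat.card ↥(C ⊓ (Y ⊓ X)) * C.relIndex (Y ⊓ X) :=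
    card_eq_card_inf_mul_relIndex C (Y ⊓ X)
  have e4 : Nat.card ↥(Y ⊓ X) = Nat.card ↥(N ⊓ (Y ⊓ X)) * N.relIndex (Y ⊓ X) :=
    card_eq_card_inf_mul_relIndex N (Y ⊓ X)
  have i1 : C ⊓ Y = C := inf_eq_left.2 hCY
  have i2 : N ⊓ Y = N := inf_eq_left.2 hNY
  have i3 : C ⊓ (Y ⊓ X) = C ⊓ X := by rw [← inf_assoc, i1]
  have i4 : N ⊓ (Y ⊓ X) = N ⊓ X := by rw [← inf_assoc, i2]
  rw [i1] at e1
  rw [i2] at e2
  rw [i3] at e3
  rw [i4] at e4
  have r1 : C.relIndex Y = Nat.card N := by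
    rw [relIndex_centralizer_eq_ncard, horbY, ncard_mul_left_image]
  have r2 : N.relIndex Y = N.relIndex (Y ⊓ X) := by
    conv_lhs => rw [hYsup]
    exact Subgroup.relIndex_sup_left _ _
  have r3 : C.relIndex (Y ⊓ X) ≤ Nat.card ↥(N ⊓ X) := by
    rw [relIndex_centralizer_eq_ncard, ← ncard_mul_left_image g (N ⊓ X)]
    exact Set.ncard_le_ncard horbX (Set.toFinite _)
  have r4 : Nat.card ↥(C ⊓ X) ≤ Nat.card C :=
    Nat.card_mono (Set.toFinite _) (show ((C ⊓ X : Subgroup G) : Set G) ⊆ (C : Set G) from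
      fun x hx => hx.1)
  have pC : 0 < Nat.card C := Nat.card_pos
  have pN : 0 < Nat.card N := Nat.card_pos
  have pNX : 0 < Nat.card ↥(N ⊓ X) := Nat.card_pos
  have pCX : 0 < Nat.card ↥(C ⊓ X) := Nat.card_pos
  have hi : N.relIndex Y = Nat.card C := by
    have : Nat.card N * N.relIndex Y = Nat.card N * Nat.card C := by
      rw [← e2, e1, r1, mul_comm]
    exact Nat.eq_of_mul_eq_mul_left pN this
  have hkey : Nat.card ↥(C ⊓ X) * C.relIndex (Y ⊓ X) = Nat.card ↥(N ⊓ X) * Nat.card C := by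
    rw [← e3, e4, ← r2, hi]
  have hcX : Nat.card ↥(C ⊓ X) = Nat.card C := by
    by_contra hne
    have hlt : Nat.card ↥(C ⊓ X) < Nat.card C := lt_of_le_of_ne r4 hne
    have h1 : Nat.card ↥(C ⊓ X) * C.relIndex (Y ⊓ X) ≤
        Nat.card ↥(C ⊓ X) * Nat.card ↥(N ⊓ X) := Nat.mul_le_mul_left _ r3
    have h2 : Nat.card ↥(C ⊓ X) * Nat.card ↥(N ⊓ X) < Nat.card C * Nat.card ↥(N ⊓ X) :=
      Nat.mul_lt_mul_of_pos_right hlt pNX
    rw [hkey, mul_comm (Nat.card ↥(N ⊓ X))] at h1
    omega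
  have hoX : C.relIndex (Y ⊓ X) = Nat.card ↥(N ⊓ X) := by
    rw [hcX, mul_comm] at hkey
    exact Nat.eq_of_mul_eq_mul_right pC hkey
  constructor
  · have : C ⊓ X = C := by
      apply Subgroup.eq_of_le_of_card_ge inf_le_left
      rw [hcX]
    rw [← this]
    exact inf_le_right
  · intro n hn
    have hset : {h : G | ∃ z ∈ Y ⊓ X, z * g * z⁻¹ = h} = {h : G | ∃ n ∈ N ⊓ X, h = g * n} := by
      apply Set.eq_of_subset_of_ncard_le horbX _ (Set.toFinite _)
      rw [ncard_mul_left_image, ← hoX, relIndex_centralizer_eq_ncard]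
    have hmem : g * n ∈ {h : G | ∃ n ∈ N ⊓ X, h = g * n} := ⟨n, hn, rfl⟩
    rw [← hset] at hmem
    obtain ⟨z, hz, hzg⟩ := hmem
    exact ⟨z, hz.2, hzg⟩

/-- if a supplement `X` of `N` is of Frobenius type (relative to `N ⊓ X`), so is `G` -/
theorem isFrobType_of_supplement [Finite G] {N : Subgroup G} [hN : N.Normal] (hcam : IsCamina N)
    (X : Subgroup G) (hX : X ⊔ N = ⊤)
    (hXF : ∀ x ∈ N ⊓ X, x ≠ 1 → ∀ c ∈ X, Commute c x → c ∈ N) : IsFrobType N := by
  intro x hx hx1 g hgc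
  by_contra hg
  have hgtop : g ∈ X ⊔ N := by rw [hX]; exact Subgroup.mem_top g
  obtain ⟨x₀, hx₀, n, hn, rfl⟩ := Subgroup.mem_sup_of_normal_right.1 hgtop
  have hx₀N : x₀ ∉ N := fun h => hg (N.mul_mem h hn)
  obtain ⟨t, ht⟩ := hcam x₀ hx₀N n hn
  have hcomm : x * (x₀ * n) = (x₀ * n) * x := by
    rw [Subgroup.mem_centralizer_iff] at hgc
    exact hgc x (Set.mem_singleton x)
  set x' := t⁻¹ * x * t with hx'
  have hx'N : x' ∈ N := by
    have := hN.conj_mem x hx t⁻¹
    simpa using this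
  have hx'1 : x' ≠ 1 := by
    intro h
    apply hx1
    have : x = t * x' * t⁻¹ := by rw [hx']; group
    rw [this, h]; group
  have hc : Commute x₀ x' := by
    show x₀ * x' = x' * x₀
    have h1 : x₀ = t⁻¹ * (x₀ * n) * t := by rw [← ht]; group
    calc x₀ * x' = t⁻¹ * ((x₀ * n) * x) * t := by
          rw [hx']; nth_rewrite 1 [h1]; group
      _ = t⁻¹ * (x * (x₀ * n)) * t := by rw [hcomm]
      _ = x' * x₀ := by
          rw [hx']; nth_rewrite 2 [h1]; group
  have hcent := (supplement_camina hcam X hX hx₀ hx₀N).1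
  have hx'X : x' ∈ X := by
    apply hcent
    rw [Subgroup.mem_centralizer_iff]
    intro h hh
    rw [Set.mem_singleton_iff] at hh
    subst hh
    exact hc
  exact hx₀N (hXF x' ⟨hx'N, hx'X⟩ hx'1 x₀ hx₀ hc)

/-- the inductive step: proper supplements meet `N` in a group of prime power order -/
theorem isPrimePow_card_inf_of_supplement [Finite G] {N : Subgroup G} [hN : N.Normal]
    (IH : ∀ (H : Type u) [Group H] [Finite H], Nat.card H < Nat.card G →
      ∀ (M : Subgroup H) [M.Normal], M ≠ ⊥ → M ≠ ⊤ → IsCamina M →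
        IsFrobType M ∨ IsPrimePow (Nat.card M) ∨ IsPrimePow M.index)
    (hcam : IsCamina N) (hN2 : N ≠ ⊤) (hnF : ¬ IsFrobType N) (hidx : ¬ IsPrimePow N.index)
    (X : Subgroup G) (hX : X ⊔ N = ⊤) (hXtop : X ≠ ⊤) : IsPrimePow (Nat.card ↥(N ⊓ X)) := by
  classical
  have hlt : Nat.card X < Nat.card G := by
    apply lt_of_le_of_ne (Subgroup.card_le_card_group X)
    intro h
    exact hXtop (Subgroup.eq_top_of_card_eq X h)
  have hMtop : N.subgroupOf X ≠ ⊤ := by
    intro h
    rw [Subgroup.subgroupOf_eq_top] at h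
    apply hN2
    rw [← hX]
    exact (sup_eq_right.2 h).symm
  by_cases hMbot : N.subgroupOf X = ⊥
  · exfalso
    apply hnF
    apply isFrobType_of_supplement hcam X hX
    intro x hx hx1
    exfalso
    have : (⟨x, hx.2⟩ : ↥X) ∈ N.subgroupOf X := by
      rw [Subgroup.mem_subgroupOf]; exact hx.1
    rw [hMbot, Subgroup.mem_bot] at this
    exact hx1 (congrArg Subtype.val this)
  · have hcamM : IsCamina (N.subgroupOf X) := by
      intro g hg n hn
      rw [Subgroup.mem_subgroupOf] at hg hn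
      obtain ⟨x, hx, hxg⟩ := (supplement_camina hcam X hX g.2 hg).2 (n : G) ⟨hn, n.2⟩
      exact ⟨⟨x, hx⟩, Subtype.ext hxg⟩
    rcases IH ↥X hlt (N.subgroupOf X) hMbot hMtop hcamM with h | h | h
    · exfalso
      apply hnF
      apply isFrobType_of_supplement hcam X hX
      intro x hx hx1 c hc hcx
      have h1 : (⟨x, hx.2⟩ : ↥X) ∈ N.subgroupOf X := by
        rw [Subgroup.mem_subgroupOf]; exact hx.1
      have h2 : (⟨x, hx.2⟩ : ↥X) ≠ 1 := by
        intro h'
        exact hx1 (congrArg Subtype.val h')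
      have h3 : (⟨c, hc⟩ : ↥X) ∈ Subgroup.centralizer ({(⟨x, hx.2⟩ : ↥X)} : Set ↥X) := by
        rw [Subgroup.mem_centralizer_iff]
        intro y hy
        rw [Set.mem_singleton_iff] at hy
        subst hy
        exact Subtype.ext hcx.symm
      have h4 := h _ h1 h2 h3
      rw [Subgroup.mem_subgroupOf] at h4
      exact h4
    · have : Nat.card ↥(N.subgroupOf X) = Nat.card ↥(N ⊓ X) := by
        have h' : N.subgroupOf X = (N ⊓ X).subgroupOf X := by
          ext x
          simp [Subgroup.mem_subgroupOf]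
        rw [h']
        exact Nat.card_congr (Subgroup.subgroupOfEquivOfLe (inf_le_right : N ⊓ X ≤ X)).toEquiv
      rw [← this]
      exact h
    · exfalso
      apply hidx
      have h1 : (N.subgroupOf X).index = N.relIndex X := rfl
      have h2 : N.relIndex X = N.relIndex (X ⊔ N) := (Subgroup.relIndex_sup_right X N).symm
      rw [h1, h2, hX, Subgroup.relIndex_top_right] at h
      exact h

/-- lift of a `p`-element of the quotient to a `p`-element -/
theorem exists_lift_pelement [Finite G] (N : Subgroup G) [N.Normal] {p : ℕ} (hp : p.Prime)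
    (a' : G ⧸ N) (n : ℕ) (ha' : a' ^ (p ^ n) = 1) :
    ∃ a : G, (a : G ⧸ N) = a' ∧ ∃ k : ℕ, a ^ (p ^ k) = 1 := by
  obtain ⟨a₀, rfl⟩ := QuotientGroup.mk_surjective a'
  have hpos : 0 < orderOf a₀ := orderOf_pos a₀
  obtain ⟨s, m, hm, hsm⟩ := Nat.exists_eq_pow_mul_and_not_dvd hpos.ne' p hp.ne_one
  by_cases hn : n = 0
  · subst hn
    rw [pow_zero, pow_one] at ha'
    exact ⟨1, by rw [ha']; rfl, 0, by simp⟩
  have hcop : Nat.Coprime m (p ^ n) :=
    Nat.Coprime.pow_right n ((Nat.Coprime.symm ((Nat.Prime.coprime_iff_not_dvd hp).2 hm)))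
  have h1lt : 1 < p ^ n := Nat.one_lt_pow hn hp.one_lt
  obtain ⟨m', -, hmm'⟩ := Nat.exists_mul_mod_eq_one_of_coprime hcop h1lt
  refine ⟨a₀ ^ (m * m'), ?_, s, ?_⟩
  · rw [QuotientGroup.mk_pow, pow_eq_pow_mod _ ha', hmm', pow_one]
  · rw [← pow_mul]
    have : m * m' * p ^ s = orderOf a₀ * m' := by rw [hsm]; ring
    rw [this, pow_mul, pow_orderOf_eq_one, one_pow]


/-- a `p`-element has a nontrivial fixed point on a normal subgroup of order divisible by `p` -/
theorem exists_commute_of_pelement [Finite G] (M : Subgroup G) [hM : M.Normal] (p : ℕ)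
    [hp : Fact p.Prime] (hpM : p ∣ Nat.card M) {a : G} {k : ℕ} (ha : a ^ (p ^ k) = 1) :
    ∃ y ∈ M, y ≠ 1 ∧ Commute a y := by
  classical
  set Q : Subgroup G := Subgroup.zpowers a with hQ
  have hQp : IsPGroup p Q := by
    rintro ⟨x, hx⟩
    obtain ⟨i, rfl⟩ := Subgroup.mem_zpowers_iff.1 hx
    refine ⟨k, Subtype.ext ?_⟩
    show (a ^ i) ^ (p ^ k) = 1
    rw [← zpow_natCast, ← zpow_mul, mul_comm, zpow_mul, zpow_natCast, ha, one_zpow]
  let _ : MulAction ↥Q ↥M :=
    MulAction.compHom ↥M ((MulAut.conjNormal (H := M)).comp Q.subtype)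
  have hsmul : ∀ (q : ↥Q) (m : ↥M), ((q • m : ↥M) : G) = (q : G) * (m : G) * (q : G)⁻¹ := by
    intro q m
    rfl
  have h1 : (1 : ↥M) ∈ MulAction.fixedPoints ↥Q ↥M := by
    intro q
    apply Subtype.ext
    rw [hsmul]
    simp
  obtain ⟨b, hb, hb1⟩ := hQp.exists_fixed_point_of_prime_dvd_card_of_fixed_point ↥M hpM h1
  refine ⟨(b : G), b.2, ?_, ?_⟩
  · intro h
    apply hb1
    exact Subtype.ext h.symm
  · have := hb ⟨a, Subgroup.mem_zpowers a⟩
    have h2 := congrArg Subtype.val this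
    rw [hsmul] at h2
    show a * (b : G) = (b : G) * a
    have h3 : a * (b : G) * a⁻¹ = (b : G) := h2
    calc a * (b : G) = (a * (b : G) * a⁻¹) * a := by group
      _ = (b : G) * a := by rw [h3]

/-- a bad prime yields a `p`-element outside `N` with a nontrivial centralizer in `N` -/
theorem exists_pelement_commuting [Finite G] {N : Subgroup G} [hN : N.Normal] (p : ℕ)
    [hp : Fact p.Prime] (hpN : p ∣ Nat.card N) (hpI : p ∣ N.index) :
    ∃ g : G, g ∉ N ∧ (∃ k : ℕ, g ^ (p ^ k) = 1) ∧ ∃ y ∈ N, y ≠ 1 ∧ Commute g y := by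
  rw [Subgroup.index_eq_card] at hpI
  obtain ⟨g', hg'⟩ := exists_prime_orderOf_dvd_card' p hpI
  have hg'p : g' ^ (p ^ 1) = 1 := by rw [pow_one, ← hg', pow_orderOf_eq_one]
  obtain ⟨g, hgg', k, hgk⟩ := exists_lift_pelement N hp.out g' 1 hg'p
  have hgN : g ∉ N := by
    intro h
    have : (g : G ⧸ N) = 1 := (QuotientGroup.eq_one_iff g).2 h
    rw [hgg'] at this
    rw [this, orderOf_one] at hg'
    exact hp.out.one_lt.ne hg'
  obtain ⟨y, hy, hy1, hc⟩ := exists_commute_of_pelement N p hpN hgk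
  exact ⟨g, hgN, ⟨k, hgk⟩, y, hy, hy1, hc⟩

/-- the supplement hypothesis of a minimal counterexample -/
def SuppHyp (N : Subgroup G) : Prop :=
  ∀ X : Subgroup G, X ⊔ N = ⊤ → X ≠ ⊤ → IsPrimePow (Nat.card ↥(N ⊓ X))

/-- a conjugate of a centralized element lies in a given supplement -/
theorem exists_conj_mem_inf [Finite G] {N : Subgroup G} [hN : N.Normal] (hcam : IsCamina N)
    (X : Subgroup G) (hX : X ⊔ N = ⊤) {g : G} (hg : g ∉ N) {y : G} (hy : y ∈ N)
    (hgy : Commute g y) : ∃ t : G, t⁻¹ * y * t ∈ N ⊓ X := by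
  have hgtop : g ∈ X ⊔ N := by rw [hX]; exact Subgroup.mem_top g
  obtain ⟨x₀, hx₀, n, hn, rfl⟩ := Subgroup.mem_sup_of_normal_right.1 hgtop
  have hx₀N : x₀ ∉ N := fun h => hg (N.mul_mem h hn)
  obtain ⟨t, ht⟩ := hcam x₀ hx₀N n hn
  have hcomm : y * (x₀ * n) = (x₀ * n) * y := hgy.eq.symm
  refine ⟨t, ?_, ?_⟩
  · have := hN.conj_mem y hy t⁻¹
    simpa using this
  · have hc : x₀ * (t⁻¹ * y * t) = (t⁻¹ * y * t) * x₀ := by
      have h1 : x₀ = t⁻¹ * (x₀ * n) * t := by rw [← ht]; group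
      calc x₀ * (t⁻¹ * y * t) = t⁻¹ * ((x₀ * n) * y) * t := by
            nth_rewrite 1 [h1]; group
        _ = t⁻¹ * (y * (x₀ * n)) * t := by rw [hcomm]
        _ = (t⁻¹ * y * t) * x₀ := by
            nth_rewrite 2 [h1]; group
    apply (supplement_camina hcam X hX hx₀ hx₀N).1
    rw [Subgroup.mem_centralizer_iff]
    intro h hh
    rw [Set.mem_singleton_iff] at hh
    subst hh
    exact hc

/-- In a minimal counterexample with bad prime `p`, the Sylow `r`-subgroups of `N` (`r ≠ p`)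
are normal in `G`. -/
theorem normalizer_map_sylow_eq_top [Finite G] {N : Subgroup G} [hN : N.Normal]
    (hcam : IsCamina N) (hS : SuppHyp N) {p : ℕ} [hp : Fact p.Prime] {g : G} (hgN : g ∉ N)
    {k : ℕ} (hgk : g ^ (p ^ k) = 1) {y : G} (hyN : y ∈ N) (hy1 : y ≠ 1) (hgy : Commute g y)
    {r : ℕ} [hr : Fact r.Prime] (hrp : r ≠ p) (R : Sylow r ↥N) :
    Subgroup.normalizer (((R : Subgroup ↥N).map N.subtype : Subgroup G) : Set G) = ⊤ := by
  classical
  by_contra hne
  set R' : Subgroup G := (R : Subgroup ↥N).map N.subtype with hR'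
  set X : Subgroup G := Subgroup.normalizer (R' : Set G) with hXdef
  have hX : X ⊔ N = ⊤ := Sylow.normalizer_sup_eq_top R
  have hpp := hS X hX hne
  rw [isPrimePow_nat_iff] at hpp
  obtain ⟨t, e, ht, he, hte⟩ := hpp
  have hR'le : R' ≤ N ⊓ X := by
    apply le_inf
    · exact Subgroup.map_subtype_le _
    · exact Subgroup.le_normalizer
  obtain ⟨c, hc⟩ := exists_conj_mem_inf hcam X hX hgN hyN hgy
  set y' := c⁻¹ * y * c with hy'
  have hy'1 : y' ≠ 1 := by
    intro h
    apply hy1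
    have : y = c * y' * c⁻¹ := by rw [hy']; group
    rw [this, h]; group
  have hy'p : y' ^ (p ^ k) = 1 := by
    have h1 : y ^ (p ^ k) = 1 := camina_pow_eq_one hcam hgN hgk hyN hgy
    have : y' = c⁻¹ * y * c⁻¹⁻¹ := by rw [hy']; group
    rw [this, conj_pow, h1]; group
  have hpt : p = t := by
    have ho : orderOf y' ∣ p ^ k := orderOf_dvd_of_pow_eq_one hy'p
    obtain ⟨j, -, hj⟩ := (Nat.dvd_prime_pow hp.out).1 ho
    have hj0 : j ≠ 0 := by
      intro h0
      rw [h0, pow_zero] at hj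
      exact hy'1 (orderOf_eq_one_iff.1 hj)
    have hp1 : p ∣ orderOf y' := by rw [hj]; exact dvd_pow_self p hj0
    have hp2 : orderOf y' ∣ Nat.card ↥(N ⊓ X) := Subgroup.orderOf_dvd_natCard _ hc
    have hp3 : p ∣ t ^ e := hte ▸ (hp1.trans hp2)
    exact (Nat.prime_dvd_prime_iff_eq hp.out ht).1 (hp.out.dvd_of_dvd_pow hp3)
  by_cases hRbot : (R : Subgroup ↥N) = ⊥
  · apply hne
    rw [hXdef, hR', hRbot, Subgroup.map_bot]
    exact Subgroup.normalizer_eq_top_iff.2 inferInstance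
  · have hcardR : r ∣ Nat.card (R : Subgroup ↥N) := by
      rcases R.2.card_eq_or_dvd with h | h
      · exact absurd (Subgroup.card_eq_one.1 h) hRbot
      · exact h
    have hcardR' : Nat.card R' = Nat.card (R : Subgroup ↥N) :=
      Subgroup.card_map_of_injective N.subtype_injective
    have h1 : r ∣ Nat.card ↥(N ⊓ X) := by
      rw [← hcardR'] at hcardR
      exact hcardR.trans (Subgroup.card_dvd_of_le hR'le)
    rw [← hte, ← hpt] at h1
    exact hrp ((Nat.prime_dvd_prime_iff_eq hr.out hp.out).1 (hr.out.dvd_of_dvd_pow h1))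

end camina

section abstractLemmas

open Finset

/-- Frobenius partition trick: a Frobenius group `K ⋊ ⟨h⟩` acting on an abelian group with
`C_A(K) = 1` and all conjugates of powers of `h` fixed point free forces `v ^ |K| = 1`. -/
theorem pow_card_eq_one_of_frobenius_action {A : Type*} [CommGroup A] {F : Type*} [Group F]
    (ρ : F →* MulAut A) (K : Subgroup F) [Finite K] (h : F) (q : ℕ) (hq : q.Prime)
    (hh : h ^ q = 1)
    (hnorm : ∀ k ∈ K, ∀ i : ℕ, (h ^ i)⁻¹ * k * h ^ i ∈ K)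
    (hfpf : ∀ k ∈ K, ∀ i, 0 < i → i < q → ∀ v : A, ρ (k⁻¹ * h ^ i * k) v = v → v = 1)
    (hK : ∀ v : A, (∀ k ∈ K, ρ k v = v) → v = 1)
    (hCK : ∀ i, 0 < i → i < q → ∀ k ∈ K, h ^ i * k = k * h ^ i → k = 1) :
    ∀ v : A, v ^ Nat.card K = 1 := by
  classical
  intro v
  have : Fintype ↥K := Fintype.ofFinite ↥K
  set f : ↥K → ℕ → A := fun k i => ρ ((k : F)⁻¹ * h ^ i * k) v with hf
  have hf0 : ∀ k : ↥K, f k 0 = v := by
    intro k
    simp [hf]
  have hfq : ∀ k : ↥K, f k q = v := by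
    intro k
    show ρ ((k : F)⁻¹ * h ^ q * k) v = v
    rw [hh]
    simp
  -- Step A
  have hT : ∀ k : ↥K, ∏ i ∈ range q, f k i = 1 := by
    intro k
    apply hfpf k k.2 1 Nat.one_pos hq.one_lt
    rw [map_prod]
    have hshift : ∀ i : ℕ, ρ ((k : F)⁻¹ * h ^ 1 * k) (f k i) = f k (i + 1) := by
      intro i
      simp only [hf]
      rw [← MulAut.mul_apply, ← map_mul]
      congr 2
      rw [pow_one, pow_succ']
      group
    simp_rw [hshift]
    have e1 := prod_range_succ' (f k) q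
    have e2 := prod_range_succ (f k) q
    rw [hf0] at e1
    rw [hfq] at e2
    rw [e1] at e2
    exact mul_right_cancel e2
  -- Step B
  have hsplit : ∀ k : ↥K, ∏ i ∈ range q, f k i = v * ∏ i ∈ Ico 1 q, f k i := by
    intro k
    rw [range_eq_Ico, prod_eq_prod_Ico_succ_bot hq.pos, hf0]
  -- Step C
  have hC : ∀ i ∈ Ico 1 q, ∏ k : ↥K, f k i = 1 := by
    intro i hi
    rw [mem_Ico] at hi
    set σ : ↥K → ↥K := fun k =>
      ⟨(h ^ i)⁻¹ * (k : F)⁻¹ * h ^ i * k, K.mul_mem (hnorm _ (K.inv_mem k.2) i) k.2⟩ with hσ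
    have hσinj : Function.Injective σ := by
      intro k k' hkk'
      have h1 : (h ^ i)⁻¹ * (k : F)⁻¹ * h ^ i * k = (h ^ i)⁻¹ * (k' : F)⁻¹ * h ^ i * k' :=
        congrArg Subtype.val hkk'
      have h2 : h ^ i * ((k : F) * (k' : F)⁻¹) = ((k : F) * (k' : F)⁻¹) * h ^ i := by
        have h3 : (k : F)⁻¹ * h ^ i * k = (k' : F)⁻¹ * h ^ i * k' := by
          have := congrArg (fun x => h ^ i * x) h1
          simpa [mul_assoc] using this
        calc h ^ i * ((k : F) * (k' : F)⁻¹)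
            = (k : F) * ((k : F)⁻¹ * h ^ i * k) * (k' : F)⁻¹ := by group
          _ = (k : F) * ((k' : F)⁻¹ * h ^ i * k') * (k' : F)⁻¹ := by rw [h3]
          _ = ((k : F) * (k' : F)⁻¹) * h ^ i := by group
      have h4 := hCK i hi.1 hi.2 _ (K.mul_mem k.2 (K.inv_mem k'.2)) h2
      apply Subtype.ext
      exact mul_inv_eq_one.1 h4
    have hσbij : Function.Bijective σ := Finite.injective_iff_bijective.1 hσinj
    have hre : ∀ k : ↥K, f k i = ρ (h ^ i) (ρ ((σ k : ↥K) : F) v) := by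
      intro k
      simp only [hf, hσ]
      rw [← MulAut.mul_apply, ← map_mul]
      congr 2
      group
    simp_rw [hre]
    rw [hσbij.prod_comp (fun k' : ↥K => ρ (h ^ i) (ρ (k' : F) v)), ← map_prod]
    have hw : ∏ k' : ↥K, ρ (k' : F) v = 1 := by
      apply hK
      intro k₀ hk₀
      rw [map_prod]
      have : ∀ k' : ↥K, ρ k₀ (ρ (k' : F) v) = ρ (((⟨k₀, hk₀⟩ : ↥K) * k' : ↥K) : F) v := by
        intro k'
        rw [← MulAut.mul_apply, ← map_mul]
        rfl
      simp_rw [this]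
      exact Fintype.prod_equiv (Equiv.mulLeft (⟨k₀, hk₀⟩ : ↥K))
        (fun k' : ↥K => ρ (((⟨k₀, hk₀⟩ : ↥K) * k' : ↥K) : F) v) (fun k' : ↥K => ρ (k' : F) v)
        (fun k' => rfl)
    rw [hw, map_one]
  -- Step D
  have hD : ∏ k : ↥K, ∏ i ∈ range q, f k i = 1 := by
    apply prod_eq_one
    intro k _
    exact hT k
  simp_rw [hsplit] at hD
  rw [prod_mul_distrib, prod_const, prod_comm, prod_eq_one hC, mul_one, card_univ,
    ← Nat.card_eq_fintype_card] at hD
  exact hD

/-- norm trick: two commuting automorphisms of order `p` of an abelian group such that all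
nontrivial products of powers are fixed point free force `v ^ p = 1`. -/
theorem pow_prime_eq_one_of_rank_two_action {A : Type*} [CommGroup A] (α β : MulAut A)
    (hcomm : Commute α β) (p : ℕ) (hp : p.Prime) (hα : α ^ p = 1) (hβ : β ^ p = 1)
    (hfpf : ∀ j t : ℕ, ¬ (p ∣ j ∧ p ∣ t) → ∀ v : A, (α ^ j * β ^ t) v = v → v = 1) :
    ∀ v : A, v ^ p = 1 := by
  classical
  intro v
  -- norm of a fixed point free automorphism of order dividing p
  have hnorm : ∀ γ : MulAut A, γ ^ p = 1 → (∀ w : A, γ w = w → w = 1) →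
      ∀ w : A, ∏ s ∈ range p, (γ ^ s) w = 1 := by
    intro γ hγ hγf w
    apply hγf
    rw [map_prod]
    have hshift : ∀ s : ℕ, γ ((γ ^ s) w) = (γ ^ (s + 1)) w := by
      intro s
      rw [pow_succ', MulAut.mul_apply]
    simp_rw [hshift]
    have e1 := prod_range_succ' (fun s => (γ ^ s) w) p
    have e2 := prod_range_succ (fun s => (γ ^ s) w) p
    simp only [pow_zero, MulAut.one_apply, hγ] at e1 e2
    rw [e1] at e2
    exact mul_right_cancel e2
  have hL : ∏ i ∈ range p, ∏ j ∈ range p, ((α * β ^ i) ^ j) v = 1 := by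
    apply prod_eq_one
    intro i _
    apply hnorm (α * β ^ i)
    · rw [(hcomm.pow_right i).mul_pow, hα, ← pow_mul, mul_comm, pow_mul, hβ, one_pow, one_mul]
    · intro w hw
      apply hfpf 1 i _ w
      · rw [pow_one]; exact hw
      · rintro ⟨h1, -⟩
        exact hp.one_lt.ne' (Nat.dvd_one.1 h1)
  have hterm : ∀ i j : ℕ, ((α * β ^ i) ^ j) v = (α ^ j) (((β ^ j) ^ i) v) := by
    intro i j
    rw [(hcomm.pow_right i).mul_pow, MulAut.mul_apply, ← pow_mul, ← pow_mul, mul_comm]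
  simp_rw [hterm] at hL
  rw [prod_comm] at hL
  have hR : ∀ j ∈ range p, ∏ i ∈ range p, (α ^ j) (((β ^ j) ^ i) v) =
      if j = 0 then v ^ p else 1 := by
    intro j hj
    rw [mem_range] at hj
    by_cases hj0 : j = 0
    · subst hj0
      simp
    · rw [if_neg hj0, ← map_prod]
      have : ∏ i ∈ range p, ((β ^ j) ^ i) v = 1 := by
        apply hnorm (β ^ j)
        · rw [← pow_mul, mul_comm, pow_mul, hβ, one_pow]
        · intro w hw
          apply hfpf 0 j _ w
          · rw [pow_zero, one_mul]; exact hw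
          · rintro ⟨-, h2⟩
            exact hj0 (Nat.eq_zero_of_dvd_of_lt h2 hj)
      rw [this, map_one]
  rw [prod_congr rfl hR, prod_ite_eq' ] at hL
  simpa [hp.pos] using hL

end abstractLemmas


section camina4

variable {G : Type u} [Group G]

/-- the centre of a subgroup, as a subgroup of the ambient group -/
def zsub (R : Subgroup G) : Subgroup G := R ⊓ Subgroup.centralizer (R : Set G)

instance zsub_normal (R : Subgroup G) [R.Normal] : (zsub R).Normal := by
  unfold zsub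
  infer_instance

theorem zsub_le (R : Subgroup G) : zsub R ≤ R := inf_le_left

theorem mem_zsub {R : Subgroup G} {a : G} :
    a ∈ zsub R ↔ a ∈ R ∧ ∀ b ∈ R, b * a = a * b := by
  unfold zsub
  rw [Subgroup.mem_inf, Subgroup.mem_centralizer_iff]
  rfl

theorem zsub_comm (R : Subgroup G) {a b : G} (ha : a ∈ zsub R) (hb : b ∈ zsub R) :
    a * b = b * a :=
  (mem_zsub.1 hb).2 a (mem_zsub.1 ha).1

theorem zsub_ne_bot [Finite G] (R : Subgroup G) (r : ℕ) [Fact r.Prime] (hR : IsPGroup r R)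
    (hne : R ≠ ⊥) : zsub R ≠ ⊥ := by
  have hnt : Nontrivial ↥R := (Subgroup.nontrivial_iff_ne_bot R).2 hne
  have hc : Nontrivial (Subgroup.center ↥R) := hR.center_nontrivial
  obtain ⟨z, hz⟩ := exists_ne (1 : Subgroup.center ↥R)
  intro hbot
  have hmem : ((z : ↥R) : G) ∈ zsub R := by
    rw [mem_zsub]
    refine ⟨(z : ↥R).2, ?_⟩
    intro b hb
    have h1 := z.2
    rw [Subgroup.mem_center_iff] at h1
    have h2 := h1 ⟨b, hb⟩
    exact congrArg Subtype.val h2
  rw [hbot, Subgroup.mem_bot] at hmem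
  apply hz
  apply Subtype.ext
  apply Subtype.ext
  exact hmem

/-- coprime prime powers -/
theorem eq_one_of_pow_pow {H : Type*} [Group H] {a : H} {q r : ℕ} (hq : q.Prime) (hr : r.Prime)
    (hqr : q ≠ r) {k j : ℕ} (h1 : a ^ (q ^ k) = 1) (h2 : a ^ (r ^ j) = 1) : a = 1 := by
  have d1 : orderOf a ∣ q ^ k := orderOf_dvd_of_pow_eq_one h1
  have d2 : orderOf a ∣ r ^ j := orderOf_dvd_of_pow_eq_one h2
  have hc : Nat.Coprime (q ^ k) (r ^ j) :=
    Nat.Coprime.pow k j ((Nat.coprime_primes hq hr).2 hqr)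
  exact orderOf_eq_one_iff.1 (Nat.eq_one_of_dvd_coprimes hc d1 d2)

/-- elements of the image of a Sylow subgroup have prime power order -/
theorem pow_eq_one_of_mem_map_sylow {N : Subgroup G} {r : ℕ} [Fact r.Prime] (R : Sylow r ↥N)
    {a : G} (ha : a ∈ (R : Subgroup ↥N).map N.subtype) : ∃ j : ℕ, a ^ (r ^ j) = 1 := by
  obtain ⟨b, hb, rfl⟩ := ha
  obtain ⟨j, hj⟩ := R.2 ⟨b, hb⟩
  refine ⟨j, ?_⟩
  have h1 := congrArg Subtype.val hj
  have h2 := congrArg Subtype.val h1
  simpa using h2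

theorem isPGroup_map_sylow {N : Subgroup G} {r : ℕ} [Fact r.Prime] (R : Sylow r ↥N) :
    IsPGroup r ↥((R : Subgroup ↥N).map N.subtype) := R.2.map N.subtype

end camina4


section camina5

variable {G : Type u} [Group G]

theorem commute_of_conjNormal_eq {A : Subgroup G} [A.Normal] {g : G} {v : ↥A}
    (h : MulAut.conjNormal g v = v) : Commute g (v : G) := by
  have h1 := congrArg Subtype.val h
  rw [MulAut.conjNormal_apply] at h1
  show g * (v : G) = (v : G) * g
  calc g * (v : G) = (g * (v : G) * g⁻¹) * g := by group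
    _ = (v : G) * g := by rw [h1]

open scoped IsMulCommutative in
/-- Case II: the Sylow `p`-subgroup of `N` is not normal in `G`. -/
theorem caseII_false [Finite G] {N : Subgroup G} [hN : N.Normal] (hcam : IsCamina N)
    (hS : SuppHyp N) (hidx : ¬ IsPrimePow N.index) {p : ℕ} [hp : Fact p.Prime]
    (hpN : p ∣ Nat.card N) (hpI : p ∣ N.index) (P : Sylow p ↥N)
    (hPn : Subgroup.normalizer (((P : Subgroup ↥N).map N.subtype : Subgroup G) : Set G) ≠ ⊤)
    {r : ℕ} [hr : Fact r.Prime] (hrp : r ≠ p) (R : Sylow r ↥N)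
    (hRn : ((R : Subgroup ↥N).map N.subtype).Normal) (hRnt : (R : Subgroup ↥N) ≠ ⊥) : False := by
  classical
  set P' : Subgroup G := (P : Subgroup ↥N).map N.subtype with hP'
  set R' : Subgroup G := (R : Subgroup ↥N).map N.subtype with hR'
  set X := Subgroup.normalizer (P' : Set G) with hXdef
  have hX : X ⊔ N = ⊤ := Sylow.normalizer_sup_eq_top P
  obtain ⟨t, e, ht, he, hte⟩ := (isPrimePow_nat_iff _).1 (hS X hX hPn)
  have hP'le : P' ≤ N ⊓ X := le_inf (Subgroup.map_subtype_le _) Subgroup.le_normalizer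
  have hPne : (P : Subgroup ↥N) ≠ ⊥ := P.ne_bot_of_dvd_card hpN
  have hcardP' : Nat.card P' = Nat.card (P : Subgroup ↥N) :=
    Subgroup.card_map_of_injective N.subtype_injective
  have hpcardP : p ∣ Nat.card (P : Subgroup ↥N) := by
    rcases P.2.card_eq_or_dvd with h | h
    · exact absurd (Subgroup.card_eq_one.1 h) hPne
    · exact h
  have htp : t = p := by
    have h1 : p ∣ Nat.card ↥(N ⊓ X) := by
      rw [← hcardP'] at hpcardP
      exact hpcardP.trans (Subgroup.card_dvd_of_le hP'le)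
    rw [← hte] at h1
    exact ((Nat.prime_dvd_prime_iff_eq hp.out ht).1 (hp.out.dvd_of_dvd_pow h1)).symm
  rw [htp] at hte
  have hNXp : ∀ x ∈ N ⊓ X, x ^ (p ^ e) = 1 := by
    intro x hx
    have h1 : (⟨x, hx⟩ : ↥(N ⊓ X)) ^ Nat.card ↥(N ⊓ X) = 1 := pow_card_eq_one'
    rw [← hte] at h1
    exact congrArg Subtype.val h1
  obtain ⟨q, hq, hqp, hqI⟩ : ∃ q : ℕ, q.Prime ∧ q ≠ p ∧ q ∣ N.index := by
    by_contra hno
    push Not at hno
    apply hidx
    have hidx0 : N.index ≠ 0 := Subgroup.index_ne_zero_of_finite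
    have h1 := Nat.eq_prime_pow_of_unique_prime_dvd hidx0 (p := p)
      (fun {d} hd hdn => by
        by_contra hdp
        exact hno d hd hdp hdn)
    rw [h1]
    refine hp.out.isPrimePow.pow ?_
    intro h0
    rw [h0, pow_zero] at h1
    rw [h1] at hpI
    exact hp.out.one_lt.ne' (Nat.dvd_one.1 hpI)
  have hqN : ¬ q ∣ Nat.card N := by
    intro hqN
    have : Fact q.Prime := ⟨hq⟩
    obtain ⟨g, hgN, ⟨k, hgk⟩, y, hyN, hy1, hgy⟩ := exists_pelement_commuting q hqN hqI
    exact hPn (normalizer_map_sylow_eq_top hcam hS hgN hgk hyN hy1 hgy (Ne.symm hqp) P)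
  have hcardX : q ∣ Nat.card X := by
    have h1 := card_eq_card_inf_mul_relIndex N X
    have h2 : N.relIndex X = N.index := by
      rw [← Subgroup.relIndex_sup_right X N, hX, Subgroup.relIndex_top_right]
    rw [h1, h2]
    exact dvd_mul_of_dvd_right hqI _
  have : Fact q.Prime := ⟨hq⟩
  obtain ⟨h, hh⟩ := exists_prime_orderOf_dvd_card' q hcardX
  set h₀ : G := (h : G) with hh₀
  have hh₀ord : orderOf h₀ = q := by rw [hh₀, Subgroup.orderOf_coe, hh]
  have hh₀q : h₀ ^ q = 1 := by rw [← hh₀ord, pow_orderOf_eq_one]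
  have hh₀X : h₀ ∈ X := h.2
  have hpowq : ∀ i : ℕ, (h₀ ^ i) ^ q = 1 := by
    intro i
    rw [← pow_mul, mul_comm, pow_mul, hh₀q, one_pow]
  have hpowN : ∀ i, 0 < i → i < q → h₀ ^ i ∉ N := by
    intro i hi0 hiq hmem
    have h2 : orderOf (h₀ ^ i) ∣ q := orderOf_dvd_of_pow_eq_one (hpowq i)
    rcases (Nat.dvd_prime hq).1 h2 with h3 | h3
    · have h4 : h₀ ^ i = 1 := orderOf_eq_one_iff.1 h3
      have h5 : q ∣ i := by rw [← hh₀ord]; exact orderOf_dvd_of_pow_eq_one h4
      exact absurd (Nat.le_of_dvd hi0 h5) (not_le.2 hiq)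
    · apply hqN
      rw [← h3]
      exact Subgroup.orderOf_dvd_natCard N hmem
  have := hRn
  have hR'ne : R' ≠ ⊥ := by
    intro h
    exact hRnt ((Subgroup.map_eq_bot_iff_of_injective _ N.subtype_injective).1 h)
  have hrN : r ∣ Nat.card N := by
    have h1 : r ∣ Nat.card (R : Subgroup ↥N) := by
      rcases R.2.card_eq_or_dvd with h | h
      · exact absurd (Subgroup.card_eq_one.1 h) hRnt
      · exact h
    exact h1.trans (Subgroup.card_subgroup_dvd_card _)
  have hqr : q ≠ r := by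
    intro h
    exact hqN (h ▸ hrN)
  set A₀ := zsub R' with hA₀
  have hA₀ne : A₀ ≠ ⊥ := zsub_ne_bot R' r (isPGroup_map_sylow R) hR'ne
  have hA₀N : A₀ ≤ N := (zsub_le R').trans (Subgroup.map_subtype_le _)
  have hA₀r : ∀ a ∈ A₀, ∃ j : ℕ, a ^ (r ^ j) = 1 :=
    fun a ha => pow_eq_one_of_mem_map_sylow R (zsub_le R' ha)
  have : IsMulCommutative ↥A₀ := ⟨⟨fun a b => Subtype.ext (zsub_comm R' a.2 b.2)⟩⟩
  have hP'p : ∀ k ∈ P', ∃ j : ℕ, k ^ (p ^ j) = 1 := fun k hk => pow_eq_one_of_mem_map_sylow P hk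
  have hP'N : P' ≤ N := Subgroup.map_subtype_le _
  have key := pow_card_eq_one_of_frobenius_action (A := ↥A₀) (MulAut.conjNormal (H := A₀))
    P' h₀ q hq hh₀q ?_ ?_ ?_ ?_
  · obtain ⟨a, ha⟩ := Subgroup.ne_bot_iff_exists_ne_one.1 hA₀ne
    apply ha
    obtain ⟨s, hs⟩ := IsPGroup.iff_card.1 (isPGroup_map_sylow P)
    have h1 := key a
    rw [hs] at h1
    obtain ⟨j, hj⟩ := hA₀r a a.2
    have h2 : (a : G) ^ (p ^ s) = 1 := by
      have := congrArg Subtype.val h1
      simpa using this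
    exact Subtype.ext (eq_one_of_pow_pow hp.out hr.out (Ne.symm hrp) h2 hj)
  · -- hnorm
    intro k hk i
    have h1 : (h₀ ^ i)⁻¹ ∈ X := X.inv_mem (X.pow_mem hh₀X i)
    have h2 := (Subgroup.mem_set_normalizer_iff.1 h1 k).1 hk
    rwa [inv_inv] at h2
  · -- hfpf
    intro k hk i hi0 hiq v hv
    have hc := commute_of_conjNormal_eq hv
    have hfN : k⁻¹ * h₀ ^ i * k ∉ N := by
      intro hmem
      apply hpowN i hi0 hiq
      have h1 := hN.conj_mem _ hmem k
      have h2 : k * (k⁻¹ * h₀ ^ i * k) * k⁻¹ = h₀ ^ i := by group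
      rwa [h2] at h1
    have hfq : (k⁻¹ * h₀ ^ i * k) ^ q = 1 := by
      have : k⁻¹ * h₀ ^ i * k = k⁻¹ * h₀ ^ i * k⁻¹⁻¹ := by rw [inv_inv]
      rw [this, conj_pow, hpowq]; group
    have h1 : (v : G) ^ q = 1 := camina_pow_eq_one hcam hfN hfq (hA₀N v.2) hc
    obtain ⟨j, hj⟩ := hA₀r v v.2
    have h1' : (v : G) ^ (q ^ 1) = 1 := by rw [pow_one]; exact h1
    exact Subtype.ext (eq_one_of_pow_pow hq hr.out hqr h1' hj)
  · -- hK
    intro v hv
    have hcomm : ∀ k ∈ P', Commute k (v : G) := fun k hk => commute_of_conjNormal_eq (hv k hk)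
    have hvX : (v : G) ∈ X := by
      rw [hXdef, Subgroup.mem_set_normalizer_iff]
      intro k
      constructor
      · intro hk
        have : (v : G) * k * (v : G)⁻¹ = k := by
          rw [← (hcomm k hk).eq]; group
        rw [this]; exact hk
      · intro hk
        have h1 := (hcomm _ hk).eq
        have h3 : (v : G) * k = (v : G) * ((v : G) * k * (v : G)⁻¹) := by
          rw [← h1]; group
        have h2 : k = (v : G) * k * (v : G)⁻¹ := mul_left_cancel h3
        rw [h2]; exact hk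
    have h1 := hNXp (v : G) ⟨hA₀N v.2, hvX⟩
    obtain ⟨j, hj⟩ := hA₀r v v.2
    exact Subtype.ext (eq_one_of_pow_pow hp.out hr.out (Ne.symm hrp) h1 hj)
  · -- hCK
    intro i hi0 hiq k hk hcomm
    have hc : Commute (h₀ ^ i) k := hcomm
    have h1 : k ^ q = 1 := camina_pow_eq_one hcam (hpowN i hi0 hiq) (hpowq i) (hP'N hk) hc
    have h1' : k ^ (q ^ 1) = 1 := by rw [pow_one]; exact h1
    obtain ⟨j, hj⟩ := hP'p k hk
    exact eq_one_of_pow_pow hq hp.out hqp h1' hj

end camina5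

section rank2

variable {H : Type*} [Group H] [Finite H]

/-- a `p`-element of maximal order -/
theorem exists_pelement_max_order (p : ℕ) [hp : Fact p.Prime] (hdvd : p ∣ Nat.card H) :
    ∃ (a : H) (n : ℕ), 1 ≤ n ∧ orderOf a = p ^ n ∧
      ∀ x : H, (∃ k : ℕ, x ^ (p ^ k) = 1) → x ^ (p ^ n) = 1 := by
  classical
  have : Fintype H := Fintype.ofFinite H
  obtain ⟨x₀, hx₀⟩ := exists_prime_orderOf_dvd_card' p hdvd
  set S : Finset H := Finset.univ.filter (fun x => ∃ k : ℕ, x ^ (p ^ k) = 1) with hS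
  have hx₀S : x₀ ∈ S := by
    rw [hS, Finset.mem_filter]
    exact ⟨Finset.mem_univ _, 1, by rw [pow_one, ← hx₀, pow_orderOf_eq_one]⟩
  obtain ⟨a, haS, hamax⟩ := Finset.exists_max_image S orderOf ⟨x₀, hx₀S⟩
  rw [hS, Finset.mem_filter] at haS
  obtain ⟨k, hk⟩ := haS.2
  obtain ⟨n, -, hn⟩ := (Nat.dvd_prime_pow hp.out).1 (orderOf_dvd_of_pow_eq_one hk)
  refine ⟨a, n, ?_, hn, ?_⟩
  · have h1 := hamax x₀ hx₀S
    rw [hx₀, hn] at h1
    by_contra h0
    have : n = 0 := by omega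
    rw [this, pow_zero] at h1
    exact absurd h1 (not_le.2 hp.out.one_lt)
  · rintro x ⟨k', hk'⟩
    have hxS : x ∈ S := by
      rw [hS, Finset.mem_filter]
      exact ⟨Finset.mem_univ _, k', hk'⟩
    obtain ⟨m, -, hm⟩ := (Nat.dvd_prime_pow hp.out).1 (orderOf_dvd_of_pow_eq_one hk')
    have h1 := hamax x hxS
    rw [hm, hn] at h1
    have hmn : m ≤ n := (Nat.pow_le_pow_iff_right hp.out.one_lt).1 h1
    have : orderOf x ∣ p ^ n := by rw [hm]; exact pow_dvd_pow p hmn
    exact orderOf_dvd_iff_pow_eq_one.1 this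

/-- if the centralizer of a `p`-element of maximal order `p ^ n` has order divisible by
`p ^ (n + 1)`, the group contains a copy of `C_p × C_p`. -/
theorem exists_rank_two (p : ℕ) [hp : Fact p.Prime] (a : H) (n : ℕ) (hn : 1 ≤ n)
    (ha : orderOf a = p ^ n) (hmax : ∀ x : H, (∃ k : ℕ, x ^ (p ^ k) = 1) → x ^ (p ^ n) = 1)
    (hdiv : p ^ (n + 1) ∣ Nat.card (Subgroup.centralizer ({a} : Set H))) :
    ∃ c z : H, Commute c z ∧ c ^ p = 1 ∧ z ^ p = 1 ∧
      ∀ j t : ℕ, ¬ (p ∣ j ∧ p ∣ t) → c ^ j * z ^ t ≠ 1 := by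
  classical
  set C := Subgroup.centralizer ({a} : Set H) with hC
  -- a p-element of the centralizer outside ⟨a⟩
  obtain ⟨b, hbC, hbp, hbz⟩ : ∃ b : H, b ∈ C ∧ (∃ k : ℕ, b ^ (p ^ k) = 1) ∧
      b ∉ Subgroup.zpowers a := by
    by_contra hno
    push Not at hno
    let S : Sylow p ↥C := default
    have hcard : Nat.card (S : Subgroup ↥C) = p ^ (Nat.card ↥C).factorization p :=
      S.card_eq_multiplicity
    have hle : n + 1 ≤ (Nat.card ↥C).factorization p :=
      (hp.out.pow_dvd_iff_le_factorization Nat.card_pos.ne').1 hdiv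
    have hsub : ((S : Subgroup ↥C).map C.subtype) ≤ Subgroup.zpowers a := by
      rintro x ⟨y, hy, rfl⟩
      apply hno
      · exact y.2
      · obtain ⟨k, hk⟩ := S.2 ⟨y, hy⟩
        refine ⟨k, ?_⟩
        have h1 := congrArg Subtype.val hk
        have h2 := congrArg Subtype.val h1
        simpa using h2
    have h1 : Nat.card ((S : Subgroup ↥C).map C.subtype) = Nat.card (S : Subgroup ↥C) :=
      Subgroup.card_map_of_injective C.subtype_injective
    have h2 : Nat.card ((S : Subgroup ↥C).map C.subtype) ≤ Nat.card (Subgroup.zpowers a) :=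
      Nat.le_of_dvd Nat.card_pos (Subgroup.card_dvd_of_le hsub)
    rw [h1, hcard, Nat.card_zpowers, ha] at h2
    have h3 : (Nat.card ↥C).factorization p ≤ n := (Nat.pow_le_pow_iff_right hp.out.one_lt).1 h2
    omega
  have hba : Commute b a := by
    rw [hC, Subgroup.mem_centralizer_iff] at hbC
    exact (hbC a (Set.mem_singleton a)).symm
  -- b₁ with b₁ ^ p ∈ ⟨a⟩, b₁ ∉ ⟨a⟩
  have hex : ∃ k : ℕ, b ^ (p ^ k) ∈ Subgroup.zpowers a := by
    obtain ⟨k, hk⟩ := hbp
    exact ⟨k, by rw [hk]; exact Subgroup.one_mem _⟩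
  set k₀ := Nat.find hex with hk₀
  have hk₀spec : b ^ (p ^ k₀) ∈ Subgroup.zpowers a := Nat.find_spec hex
  have hk₀pos : k₀ ≠ 0 := by
    intro h0
    rw [h0, pow_zero, pow_one] at hk₀spec
    exact hbz hk₀spec
  set b₁ := b ^ (p ^ (k₀ - 1)) with hb₁
  have hb₁z : b₁ ∉ Subgroup.zpowers a := Nat.find_min hex (by omega : k₀ - 1 < k₀)
  have hb₁p : b₁ ^ p ∈ Subgroup.zpowers a := by
    have : b₁ ^ p = b ^ (p ^ k₀) := by
      rw [hb₁, ← pow_mul, ← pow_succ]
      congr 2
      omega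
    rw [this]; exact hk₀spec
  have hb₁a : Commute b₁ a := hba.pow_left _
  have hb₁pe : ∃ k : ℕ, b₁ ^ (p ^ k) = 1 := by
    obtain ⟨k, hk⟩ := hbp
    exact ⟨k, by rw [hb₁, ← pow_mul, mul_comm, pow_mul, hk, one_pow]⟩
  have hb₁n : b₁ ^ (p ^ n) = 1 := hmax b₁ hb₁pe
  obtain ⟨j, hj⟩ : ∃ j : ℕ, a ^ j = b₁ ^ p := by
    have h1 : b₁ ^ p ∈ Submonoid.powers a := (mem_powers_iff_mem_zpowers).2 hb₁p
    exact (Submonoid.mem_powers_iff _ _).1 h1
  have hpj : p ∣ j := by
    have h1 : a ^ (j * p ^ (n - 1)) = 1 := by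
      rw [pow_mul, hj, ← pow_mul, ← pow_succ']
      have : n - 1 + 1 = n := by omega
      rw [this]; exact hb₁n
    have h2 : p ^ n ∣ j * p ^ (n - 1) := by
      rw [← ha]; exact orderOf_dvd_of_pow_eq_one h1
    have h3 : p ^ n = p * p ^ (n - 1) := by
      rw [← pow_succ']
      congr 1
      omega
    rw [h3] at h2
    exact Nat.dvd_of_mul_dvd_mul_right (pow_pos hp.out.pos _) h2
  obtain ⟨j', rfl⟩ := hpj
  set c := b₁ * (a ^ j')⁻¹ with hc
  set z := a ^ (p ^ (n - 1)) with hz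
  have hcomm_b₁_aj : Commute b₁ ((a ^ j')⁻¹) := (hb₁a.pow_right j').inv_right
  have hcp : c ^ p = 1 := by
    rw [hc, hcomm_b₁_aj.mul_pow, ← hj, inv_pow, ← pow_mul, mul_comm j' p]
    exact mul_inv_cancel _
  have hcz' : c ∉ Subgroup.zpowers a := by
    intro hmem
    apply hb₁z
    have : b₁ = c * a ^ j' := by rw [hc]; group
    rw [this]
    exact Subgroup.mul_mem _ hmem (Subgroup.pow_mem _ (Subgroup.mem_zpowers a) j')
  have hzp : z ^ p = 1 := by
    rw [hz, ← pow_mul, ← pow_succ]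
    have : n - 1 + 1 = n := by omega
    rw [this, ← ha, pow_orderOf_eq_one]
  have hz1 : z ≠ 1 := by
    intro h
    have h1 : p ^ n ∣ p ^ (n - 1) := by
      rw [← ha]; exact orderOf_dvd_of_pow_eq_one h
    have h2 : n ≤ n - 1 := (Nat.pow_dvd_pow_iff_le_right hp.out.one_lt).1 h1
    omega
  have hzord : orderOf z = p := orderOf_eq_prime hzp hz1
  have hca : Commute c a := by
    rw [hc]
    exact hb₁a.mul_left ((Commute.refl a).pow_left j').inv_left
  have hcz : Commute c z := hca.pow_right _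
  refine ⟨c, z, hcz, hcp, hzp, ?_⟩
  intro j t hjt hone
  by_cases hpj : p ∣ j
  · have hcj : c ^ j = 1 := by
      obtain ⟨j'', rfl⟩ := hpj
      rw [pow_mul, hcp, one_pow]
    rw [hcj, one_mul] at hone
    have : p ∣ t := by rw [← hzord]; exact orderOf_dvd_of_pow_eq_one hone
    exact hjt ⟨hpj, this⟩
  · apply hcz'
    have hcop : Nat.Coprime j p := (Nat.Coprime.symm ((Nat.Prime.coprime_iff_not_dvd hp.out).2 hpj))
    obtain ⟨m, -, hm⟩ := Nat.exists_mul_mod_eq_one_of_coprime hcop hp.out.one_lt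
    have h1 : c ^ j = (z ^ t)⁻¹ := eq_inv_of_mul_eq_one_left hone
    have h2 : c = (c ^ j) ^ m := by
      rw [← pow_mul, pow_eq_pow_mod _ hcp, hm, pow_one]
    rw [h2, h1]
    apply Subgroup.pow_mem
    apply Subgroup.inv_mem
    apply Subgroup.pow_mem
    rw [hz]
    exact Subgroup.pow_mem _ (Subgroup.mem_zpowers a) _

end rank2


section camina6

variable {G : Type u} [Group G]

/-- if all Sylow subgroups of `N` are normal in `G`, then `N` centralizes the centre of each -/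
theorem commute_zsub_of_sylows_normal [Finite G] {N : Subgroup G} [hN : N.Normal] {r : ℕ}
    [hr : Fact r.Prime] (R : Sylow r ↥N) (hRn : ((R : Subgroup ↥N).map N.subtype).Normal)
    (hall : ∀ (t : ℕ) [Fact t.Prime], t ≠ r →
      ∃ T : Sylow t ↥N, ((T : Subgroup ↥N).map N.subtype).Normal) :
    ∀ n ∈ N, ∀ a ∈ zsub ((R : Subgroup ↥N).map N.subtype), n * a = a * n := by
  classical
  set R' : Subgroup G := (R : Subgroup ↥N).map N.subtype with hR'
  set M : Subgroup G := N ⊓ Subgroup.centralizer (zsub R' : Set G) with hM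
  have hkey : ∀ (t : ℕ) [Fact t.Prime], ∀ T : Sylow t ↥N,
      ((T : Subgroup ↥N).map N.subtype) ≤ Subgroup.centralizer (zsub R' : Set G) →
      (Nat.card N).factorization t ≤ (Nat.card M).factorization t := by
    intro t ht T hT
    have h1 : ((T : Subgroup ↥N).map N.subtype) ≤ M := le_inf (Subgroup.map_subtype_le _) hT
    have h2 : Nat.card ((T : Subgroup ↥N).map N.subtype) = t ^ (Nat.card N).factorization t := by
      rw [Subgroup.card_map_of_injective N.subtype_injective]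
      exact T.card_eq_multiplicity
    have h3 : t ^ (Nat.card N).factorization t ∣ Nat.card M := by
      rw [← h2]; exact Subgroup.card_dvd_of_le h1
    exact (ht.out.pow_dvd_iff_le_factorization Nat.card_pos.ne').1 h3
  have hdvd : Nat.card N ∣ Nat.card M := by
    rw [← Nat.factorization_prime_le_iff_dvd Nat.card_pos.ne' Nat.card_pos.ne']
    intro t ht
    have : Fact t.Prime := ⟨ht⟩
    by_cases htr : t = r
    · subst htr
      apply hkey t R
      intro x hx
      rw [Subgroup.mem_centralizer_iff]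
      intro a ha
      exact ((mem_zsub.1 ha).2 x hx).symm
    · obtain ⟨T, hTn⟩ := hall t htr
      apply hkey t T
      intro x hx
      rw [Subgroup.mem_centralizer_iff]
      intro a ha
      have hdis : Disjoint ((T : Subgroup ↥N).map N.subtype) R' :=
        IsPGroup.disjoint_of_ne t r htr _ _ (isPGroup_map_sylow T) (isPGroup_map_sylow R)
      have := Subgroup.commute_of_normal_of_disjoint _ _ hTn hRn hdis x a hx (zsub_le R' ha)
      exact this.eq.symm
  have hMN : M = N :=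
    Subgroup.eq_of_le_of_card_ge inf_le_left (Nat.le_of_dvd Nat.card_pos hdvd)
  intro n hn a ha
  have hnM : n ∈ M := by rw [hMN]; exact hn
  rw [hM] at hnM
  have h1 := (Subgroup.mem_inf.1 hnM).2
  rw [Subgroup.mem_centralizer_iff] at h1
  exact (h1 a ha).symm

open scoped IsMulCommutative in
/-- Case I: `N` centralizes the abelian normal `r`-subgroup `A₀`. -/
theorem caseI_false [Finite G] {N : Subgroup G} [hN : N.Normal] (hcam : IsCamina N)
    {p : ℕ} [hp : Fact p.Prime] (hpN : p ∣ Nat.card N) (hpI : p ∣ N.index)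
    {r : ℕ} [hr : Fact r.Prime] (hrp : r ≠ p) (R : Sylow r ↥N)
    (hRn : ((R : Subgroup ↥N).map N.subtype).Normal) (hRnt : (R : Subgroup ↥N) ≠ ⊥)
    (hcent : ∀ n ∈ N, ∀ a ∈ zsub ((R : Subgroup ↥N).map N.subtype), n * a = a * n) : False := by
  classical
  set R' : Subgroup G := (R : Subgroup ↥N).map N.subtype with hR'
  have := hRn
  have hR'ne : R' ≠ ⊥ := by
    intro h
    exact hRnt ((Subgroup.map_eq_bot_iff_of_injective _ N.subtype_injective).1 h)
  set A₀ := zsub R' with hA₀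
  have hA₀ne : A₀ ≠ ⊥ := zsub_ne_bot R' r (isPGroup_map_sylow R) hR'ne
  have hA₀N : A₀ ≤ N := (zsub_le R').trans (Subgroup.map_subtype_le _)
  have hA₀r : ∀ a ∈ A₀, ∃ j : ℕ, a ^ (r ^ j) = 1 :=
    fun a ha => pow_eq_one_of_mem_map_sylow R (zsub_le R' ha)
  have : IsMulCommutative ↥A₀ := ⟨⟨fun a b => Subtype.ext (zsub_comm R' a.2 b.2)⟩⟩
  set ρ : G →* MulAut ↥A₀ := MulAut.conjNormal (H := A₀) with hρ
  have hker : N ≤ ρ.ker := by
    intro n hn
    rw [MonoidHom.mem_ker]
    ext v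
    rw [hρ, MulAut.conjNormal_apply, MulAut.one_apply, hcent n hn v v.2]
    group
  set ρb : G ⧸ N →* MulAut ↥A₀ := QuotientGroup.lift N ρ hker with hρb
  have hfpfb : ∀ x' : G ⧸ N, x' ≠ 1 → x' ^ p = 1 → ∀ v : ↥A₀, ρb x' v = v → v = 1 := by
    intro x' hx'1 hx'p v hv
    obtain ⟨x, rfl, k, hxk⟩ := exists_lift_pelement N hp.out x' 1 (by rw [pow_one]; exact hx'p)
    have hxN : x ∉ N := by
      intro h
      exact hx'1 ((QuotientGroup.eq_one_iff x).2 h)
    have hv' : ρ x v = v := by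
      rw [hρb] at hv
      exact hv
    have hc := commute_of_conjNormal_eq hv'
    have h1 : (v : G) ^ (p ^ k) = 1 := camina_pow_eq_one hcam hxN hxk (hA₀N v.2) hc
    obtain ⟨j, hj⟩ := hA₀r v v.2
    exact Subtype.ext (eq_one_of_pow_pow hp.out hr.out (Ne.symm hrp) h1 hj)
  have hpQ : p ∣ Nat.card (G ⧸ N) := by rw [← Subgroup.index_eq_card]; exact hpI
  obtain ⟨a', n, hn, hord, hmax⟩ := exists_pelement_max_order (H := G ⧸ N) p hpQ
  obtain ⟨a, haa', k, hak⟩ :=
    exists_lift_pelement N hp.out a' n (by rw [← hord, pow_orderOf_eq_one])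
  have ha'1 : a' ≠ 1 := by
    intro h
    rw [h, orderOf_one] at hord
    have : 1 < p ^ n := Nat.one_lt_pow (by omega) hp.out.one_lt
    omega
  have haN : a ∉ N := by
    intro h
    apply ha'1
    rw [← haa']
    exact (QuotientGroup.eq_one_iff a).2 h
  have hdiv : p ^ (n + 1) ∣ Nat.card (Subgroup.centralizer ({a'} : Set (G ⧸ N))) := by
    rw [← haa', ← card_centralizer_eq_of_camina hcam haN]
    set C := Subgroup.centralizer ({a} : Set G) with hC
    set f : ↥C →* G ⧸ N := (QuotientGroup.mk' N).comp C.subtype with hf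
    have h1 : Nat.card f.ker * Nat.card f.range = Nat.card ↥C := by
      rw [← Subgroup.index_ker, Subgroup.card_mul_index]
    have haC : a ∈ C := by
      rw [hC, Subgroup.mem_centralizer_iff]
      intro x hx
      rw [Set.mem_singleton_iff] at hx
      rw [hx]
    have h2 : p ^ n ∣ Nat.card f.range := by
      have hmem : (a : G ⧸ N) ∈ f.range := ⟨⟨a, haC⟩, rfl⟩
      have := Subgroup.orderOf_dvd_natCard f.range hmem
      rwa [haa', hord] at this
    obtain ⟨y, hyN, hy1, hay⟩ := exists_commute_of_pelement N p hpN hak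
    have hyC : y ∈ C := by
      rw [hC, Subgroup.mem_centralizer_iff]
      intro x hx
      rw [Set.mem_singleton_iff] at hx
      rw [hx]
      exact hay.eq
    have h3 : p ∣ Nat.card f.ker := by
      have hmem : (⟨y, hyC⟩ : ↥C) ∈ f.ker := by
        rw [MonoidHom.mem_ker]
        exact (QuotientGroup.eq_one_iff y).2 hyN
      have h4 := Subgroup.orderOf_dvd_natCard f.ker hmem
      rw [Subgroup.orderOf_mk] at h4
      have hyp : y ^ (p ^ k) = 1 := camina_pow_eq_one hcam haN hak hyN hay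
      obtain ⟨m, -, hm⟩ := (Nat.dvd_prime_pow hp.out).1 (orderOf_dvd_of_pow_eq_one hyp)
      have hm0 : m ≠ 0 := by
        intro h0
        rw [h0, pow_zero] at hm
        exact hy1 (orderOf_eq_one_iff.1 hm)
      have : p ∣ orderOf y := by rw [hm]; exact dvd_pow_self p hm0
      exact this.trans h4
    rw [← h1, pow_succ, mul_comm (Nat.card f.ker)]
    exact mul_dvd_mul h2 h3
  obtain ⟨c, z, hcz, hcp, hzp, hne⟩ := exists_rank_two p a' n hn hord hmax hdiv
  have key := pow_prime_eq_one_of_rank_two_action (A := ↥A₀) (ρb c) (ρb z) (hcz.map ρb) p hp.out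
    (by rw [← map_pow, hcp, map_one]) (by rw [← map_pow, hzp, map_one]) ?_
  · obtain ⟨v, hv⟩ := Subgroup.ne_bot_iff_exists_ne_one.1 hA₀ne
    apply hv
    obtain ⟨j, hj⟩ := hA₀r v v.2
    have h1 : (v : G) ^ (p ^ 1) = 1 := by
      have := congrArg Subtype.val (key v)
      simpa using this
    exact Subtype.ext (eq_one_of_pow_pow hp.out hr.out (Ne.symm hrp) h1 hj)
  · intro j t hjt v hv
    rw [← map_pow, ← map_pow, ← map_mul] at hv
    apply hfpfb (c ^ j * z ^ t) (hne j t hjt) _ v hv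
    rw [(hcz.pow_pow j t).mul_pow, ← pow_mul, ← pow_mul, mul_comm j p, mul_comm t p, pow_mul,
      pow_mul, hcp, hzp, one_pow, one_pow, one_mul]

end camina6

section caminaMain

/-- **Camina's theorem.** -/
theorem camina_main : ∀ (n : ℕ) (G : Type u) [Group G] [Finite G], Nat.card G = n →
    ∀ (N : Subgroup G) [N.Normal], N ≠ ⊥ → N ≠ ⊤ → IsCamina N →
      IsFrobType N ∨ IsPrimePow (Nat.card N) ∨ IsPrimePow N.index := by
  intro n
  induction n using Nat.strong_induction_on with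
  | _ n ih =>
    intro G _ _ hcard N _ hN1 hN2 hcam
    classical
    by_contra hcon
    push Not at hcon
    obtain ⟨hnF, hnN, hnI⟩ := hcon
    have IH : ∀ (H : Type u) [Group H] [Finite H], Nat.card H < Nat.card G →
        ∀ (M : Subgroup H) [M.Normal], M ≠ ⊥ → M ≠ ⊤ → IsCamina M →
          IsFrobType M ∨ IsPrimePow (Nat.card M) ∨ IsPrimePow M.index := by
      intro H _ _ hlt M _ h1 h2 h3
      exact ih (Nat.card H) (hcard ▸ hlt) H rfl M h1 h2 h3
    have hS : SuppHyp N := fun X hX hXt =>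
      isPrimePow_card_inf_of_supplement IH hcam hN2 hnF hnI X hX hXt
    obtain ⟨p, hp, hpN, hpI⟩ : ∃ p : ℕ, p.Prime ∧ p ∣ Nat.card N ∧ p ∣ N.index := by
      by_contra hno
      push Not at hno
      exact hnF (isFrobType_of_coprime hcam (fun q hq h1 h2 => hno q hq h1 h2))
    have : Fact p.Prime := ⟨hp⟩
    obtain ⟨g, hgN, ⟨k, hgk⟩, y, hyN, hy1, hgy⟩ := exists_pelement_commuting p hpN hpI
    obtain ⟨r, hr, hrp, hrN⟩ : ∃ r : ℕ, r.Prime ∧ r ≠ p ∧ r ∣ Nat.card N := by
      by_contra hno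
      push Not at hno
      apply hnN
      have h0 : Nat.card N ≠ 0 := Nat.card_pos.ne'
      have h1 := Nat.eq_prime_pow_of_unique_prime_dvd h0 (p := p)
        (fun {d} hd hdn => by
          by_contra hdp
          exact hno d hd hdp hdn)
      rw [h1]
      refine hp.isPrimePow.pow ?_
      intro h0'
      rw [h0', pow_zero] at h1
      rw [h1] at hpN
      exact hp.one_lt.ne' (Nat.dvd_one.1 hpN)
    have : Fact r.Prime := ⟨hr⟩
    let R : Sylow r ↥N := default
    have hRnt : (R : Subgroup ↥N) ≠ ⊥ := R.ne_bot_of_dvd_card hrN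
    have hRn : ((R : Subgroup ↥N).map N.subtype).Normal :=
      Subgroup.normalizer_eq_top_iff.1
        (normalizer_map_sylow_eq_top hcam hS hgN hgk hyN hy1 hgy hrp R)
    let P : Sylow p ↥N := default
    by_cases hPn : Subgroup.normalizer
        (((P : Subgroup ↥N).map N.subtype : Subgroup G) : Set G) = ⊤
    · have hPn' : ((P : Subgroup ↥N).map N.subtype).Normal :=
        Subgroup.normalizer_eq_top_iff.1 hPn
      have hall : ∀ (t : ℕ) [Fact t.Prime], t ≠ r →
          ∃ T : Sylow t ↥N, ((T : Subgroup ↥N).map N.subtype).Normal := by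
        intro t ht htr
        by_cases htp : t = p
        · subst htp
          exact ⟨P, hPn'⟩
        · exact ⟨default, Subgroup.normalizer_eq_top_iff.1
            (normalizer_map_sylow_eq_top hcam hS hgN hgk hyN hy1 hgy htp default)⟩
      exact caseI_false hcam hpN hpI hrp R hRn hRnt
        (commute_zsub_of_sylows_normal R hRn hall)
    · exact caseII_false hcam hS hnI hpN hpI P hPn hrp R hRn hRnt

end caminaMain

end Cfsg.Agent.Lib.Helper80
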