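import Mathlib
import Cfsg.Prelude.Def_Blocks
import Cfsg.Agent.Lib.Helper76.Central
import Cfsg.Agent.Lib.Helper77.Linear
import Cfsg.Agent.Lib.Helper81.Gallagher
import Cfsg.Agent.S4448
import Cfsg.Agent.S4449

set_option autoImplicit false

namespace Cfsg.Agent.Lib.Helper80

open Cfsg

universe u

section Arith

/-- split `o` into a part all of whose prime divisors divide `n` and a part coprime to `n` -/
theorem exists_split_coprime (n : ℕ) : ∀ o : ℕ, 0 < o →
    ∃ a b : ℕ, o = a * b ∧ Nat.Coprime b n ∧ ∀ q : ℕ, q.Prime → q ∣ a → q ∣ n := by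
  intro o
  induction o using Nat.strong_induction_on with
  | _ o ih =>
    intro ho
    by_cases hc : Nat.Coprime o n
    · exact ⟨1, o, (one_mul o).symm, hc, fun q hq h1 => absurd (Nat.dvd_one.mp h1) hq.ne_one⟩
    · set g := Nat.gcd o n with hg
      have hg1 : g ≠ 1 := hc
      have hg0 : 0 < g := Nat.gcd_pos_of_pos_left n ho
      have hgo : g ∣ o := Nat.gcd_dvd_left o n
      have hgn : g ∣ n := Nat.gcd_dvd_right o n
      have hlt : o / g < o := Nat.div_lt_self ho (by omega)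
      have hpos : 0 < o / g := Nat.div_pos (Nat.le_of_dvd ho hgo) hg0
      obtain ⟨a, b, hab, hb, ha⟩ := ih (o / g) hlt hpos
      refine ⟨g * a, b, ?_, hb, ?_⟩
      · rw [mul_assoc, ← hab, Nat.mul_div_cancel' hgo]
      · intro q hq hqa
        rcases (Nat.Prime.dvd_mul hq).mp hqa with h | h
        · exact dvd_trans h hgn
        · exact ha q hq h

end Arith

section SplitElement

variable {A : Type*} [CommGroup A]

/-- split an element of finite order `o = a * b` (`a`, `b` coprime) -/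
theorem exists_split_of_pow_eq_one (x : A) (a b : ℕ) (hab : Nat.Coprime a b)
    (hx : x ^ (a * b) = 1) : ∃ y z : A, x = y * z ∧ y ^ a = 1 ∧ z ^ b = 1 := by
  -- Bezout
  have hbez : (a : ℤ) * Nat.gcdA a b + b * Nat.gcdB a b = 1 := by
    have := Nat.gcd_eq_gcd_ab a b
    rw [hab] at this
    exact_mod_cast this.symm
  refine ⟨x ^ ((b : ℤ) * Nat.gcdB a b), x ^ ((a : ℤ) * Nat.gcdA a b), ?_, ?_, ?_⟩
  · rw [← zpow_add, add_comm, hbez, zpow_one]
  · rw [← zpow_natCast, ← zpow_mul]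
    have : (b : ℤ) * Nat.gcdB a b * a = ((a * b : ℕ) : ℤ) * Nat.gcdB a b := by push_cast; ring
    rw [this, zpow_mul, zpow_natCast, hx, one_zpow]
  · rw [← zpow_natCast, ← zpow_mul]
    have : (a : ℤ) * Nat.gcdA a b * b = ((a * b : ℕ) : ℤ) * Nat.gcdA a b := by push_cast; ring
    rw [this, zpow_mul, zpow_natCast, hx, one_zpow]

end SplitElement

section Transfer

variable {K : Type*} [Group K] [Finite K]

/-- A homomorphism on a central subgroup whose order is coprime to the index extends to the whole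
group (via the transfer), and the extension is invariant under every automorphism fixing the
central subgroup pointwise. -/
theorem exists_extension_of_central_of_coprime (Z : Subgroup K) (hZ : Z ≤ Subgroup.center K)
    (lam : Z →* ℂˣ) (b : ℕ) (hb : lam ^ b = 1) (hcop : Nat.Coprime b Z.index) :
    ∃ μ : K →* ℂˣ, (∀ z : Z, μ z = lam z) ∧
      ∀ α : K ≃* K, (∀ z : K, z ∈ Z → α z = z) → ∀ x : K, μ (α x) = μ x := by
  classical
  have key : ∀ (g : K) (k : ℕ) (g₀ : K), g₀⁻¹ * g ^ k * g₀ ∈ Z → g₀⁻¹ * g ^ k * g₀ = g ^ k := by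
    intro g k g₀ h
    have hc := Subgroup.mem_center_iff.mp (hZ h) g₀
    -- g₀ * (g₀⁻¹ g^k g₀) = (g₀⁻¹ g^k g₀) * g₀
    have h1 : g₀ * (g₀⁻¹ * g ^ k * g₀) = g ^ k * g₀ := by group
    rw [h1] at hc
    exact (mul_right_cancel hc).symm
  have hT : ∀ g : K, MonoidHom.transfer lam g =
      lam ⟨g ^ Z.index, MonoidHom.transfer_eq_pow_aux g (key g)⟩ :=
    fun g => MonoidHom.transfer_eq_pow lam g (key g)
  have hbez : (b : ℤ) * Nat.gcdA b Z.index + Z.index * Nat.gcdB b Z.index = 1 := by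
    have := Nat.gcd_eq_gcd_ab b Z.index
    rw [hcop] at this
    exact_mod_cast this.symm
  refine ⟨(MonoidHom.transfer lam) ^ (Nat.gcdB b Z.index), ?_, ?_⟩
  · intro z
    rw [MonoidHom.zpow_apply, hT]
    have h2 : (⟨(z : K) ^ Z.index, MonoidHom.transfer_eq_pow_aux (z : K) (key z)⟩ : Z) = z ^ Z.index :=
      Subtype.ext (by simp)
    rw [h2, map_pow, ← zpow_natCast, ← zpow_mul]
    have h3 : lam z ^ ((b : ℤ) * Nat.gcdA b Z.index) = 1 := by
      rw [zpow_mul, zpow_natCast]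
      have := congrArg (fun f : Z →* ℂˣ => f z) hb
      simp only [MonoidHom.pow_apply, MonoidHom.one_apply] at this
      rw [this, one_zpow]
    calc lam z ^ ((Z.index : ℤ) * Nat.gcdB b Z.index)
        = lam z ^ ((b : ℤ) * Nat.gcdA b Z.index) * lam z ^ ((Z.index : ℤ) * Nat.gcdB b Z.index) := by
          rw [h3, one_mul]
      _ = lam z := by rw [← zpow_add, hbez, zpow_one]
  · intro α hα x
    rw [MonoidHom.zpow_apply, MonoidHom.zpow_apply, hT, hT]
    congr 2
    apply Subtype.ext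
    show (α x) ^ Z.index = x ^ Z.index
    rw [← map_pow]
    exact hα _ (MonoidHom.transfer_eq_pow_aux x (key x))

end Transfer

section CentralChar

open scoped ComplexConjugate

variable {E : Type*} [Group E]

/-- If an irreducible character of `H` lies over the linear character `lam` of a central subgroup
`Z`, then `χ (z x) = lam z * χ x`. -/
theorem central_mul_of_classInner_ne_zero (H Z : Subgroup E) [Fintype H] [Fintype Z] (hZH : Z ≤ H)
    (hZc : ∀ z ∈ Z, ∀ x ∈ H, z * x = x * z) {χ : H → ℂ} (hχ : IsIrrCharacter H χ)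
    (lam : Z →* ℂˣ)
    (h : classInner (fun z : Z => χ ⟨z, hZH z.2⟩) (fun z : Z => ((lam z : ℂˣ) : ℂ)) ≠ 0)
    (z : Z) (x : H) : χ (⟨z, hZH z.2⟩ * x) = ((lam z : ℂˣ) : ℂ) * χ x := by
  classical
  obtain ⟨n, ρ, hirr, rfl⟩ := hχ
  have hcen : ∀ z : Z, (⟨z, hZH z.2⟩ : H) ∈ Subgroup.center H := by
    intro z
    rw [Subgroup.mem_center_iff]
    intro y
    apply Subtype.ext
    exact (hZc z z.2 y y.2).symm
  have hmul : ∀ (z : Z) (x : H), ρ.character (⟨z, hZH z.2⟩ * x) =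
      ρ.character ⟨z, hZH z.2⟩ / (Module.finrank ℂ (Fin n → ℂ) : ℂ) * ρ.character x :=
    fun z x => Helper76.character_central_mul ρ _ (hcen z) x
  set ω : Z → ℂ := fun z => ρ.character ⟨z, hZH z.2⟩ / (Module.finrank ℂ (Fin n → ℂ) : ℂ) with hω
  have hlamconj : ∀ z : Z, ((lam z : ℂˣ) : ℂ) * conj ((lam z : ℂˣ) : ℂ) = 1 :=
    fun z => Helper81.monoidHom_units_mul_conj lam z
  suffices hkey : ∀ z : Z, ω z = ((lam z : ℂˣ) : ℂ) by
    rw [hmul z x]
    show ω z * _ = _
    rw [hkey z]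
  intro z₀
  by_contra hne
  apply h
  unfold classInner
  have hS : ∑ z : Z, ρ.character ⟨z, hZH z.2⟩ * conj ((lam z : ℂˣ) : ℂ) = 0 := by
    set S := ∑ z : Z, ρ.character ⟨z, hZH z.2⟩ * conj ((lam z : ℂˣ) : ℂ) with hSdef
    have h1 : S = ∑ z : Z, ρ.character ⟨(z₀ * z : Z), hZH (z₀ * z).2⟩ *
        conj ((lam (z₀ * z) : ℂˣ) : ℂ) := by
      rw [hSdef]
      exact (Fintype.sum_equiv (Equiv.mulLeft z₀) _ _ (fun z => rfl)).symm
    have h2 : S = (ω z₀ * conj ((lam z₀ : ℂˣ) : ℂ)) * S := by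
      conv_lhs => rw [h1]
      rw [hSdef, Finset.mul_sum]
      apply Finset.sum_congr rfl
      intro z _
      have h3 : (⟨((z₀ * z : Z) : E), hZH (z₀ * z).2⟩ : H) = ⟨z₀, hZH z₀.2⟩ * ⟨z, hZH z.2⟩ := rfl
      rw [h3, hmul z₀, map_mul, Units.val_mul, map_mul]
      ring
    have h4 : (1 - ω z₀ * conj ((lam z₀ : ℂˣ) : ℂ)) * S = 0 := by
      rw [sub_mul, one_mul, ← h2, sub_self]
    rcases mul_eq_zero.mp h4 with h5 | h5
    · exfalso
      apply hne
      have h6 : ω z₀ * conj ((lam z₀ : ℂˣ) : ℂ) = 1 := (sub_eq_zero.mp h5).symm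
      calc ω z₀ = ω z₀ * (((lam z₀ : ℂˣ) : ℂ) * conj ((lam z₀ : ℂˣ) : ℂ)) := by
            rw [hlamconj, mul_one]
        _ = (ω z₀ * conj ((lam z₀ : ℂˣ) : ℂ)) * ((lam z₀ : ℂˣ) : ℂ) := by ring
        _ = ((lam z₀ : ℂˣ) : ℂ) := by rw [h6, one_mul]
    · exact h5
  rw [hS, mul_zero]

end CentralChar

section CoprimeCase

variable {E : Type u} [Group E] [Finite E]

omit [Finite E] in
theorem isSolvable_of_derivedSeries_le_of_disjoint (H S : Subgroup E) (hd : Disjoint H S)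
    (h : ∃ k, derivedSeries E k ≤ H) : Group.IsSolvable S := by
  obtain ⟨k, hk⟩ := h
  rw [Group.isSolvable_def]
  refine ⟨k, ?_⟩
  have h1 : (derivedSeries S k).map S.subtype ≤ H ⊓ S := by
    apply le_inf
    · exact le_trans (map_derivedSeries_le_derivedSeries S.subtype k) hk
    · rintro _ ⟨x, -, rfl⟩
      exact x.2
  rw [hd.eq_bot, le_bot_iff] at h1
  exact (Subgroup.map_eq_bot_iff_of_injective _ S.subtype_injective).mp h1

omit [Finite E] in
theorem isSolvable_quotient_of_derivedSeries_le {K : Type*} [Group K] (Z : Subgroup K) [Z.Normal]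
    (h : ∃ k, derivedSeries K k ≤ Z) : Group.IsSolvable (K ⧸ Z) := by
  obtain ⟨k, hk⟩ := h
  rw [Group.isSolvable_def]
  refine ⟨k, ?_⟩
  have h1 := map_derivedSeries_eq (f := QuotientGroup.mk' Z) (QuotientGroup.mk'_surjective Z) k
  rw [← h1, Subgroup.map_eq_bot_iff, QuotientGroup.ker_mk']
  exact hk

/-- The central case with full coprimeness. -/
theorem exists_invariant_over_central_of_coprime (H Z : Subgroup E)
    [hHn : H.Normal] (hZc : Z ≤ Subgroup.center E) (hZH : Z ≤ H)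
    (hcop : (Nat.card H).Coprime H.index)
    (hsolv : (∃ k, derivedSeries E k ≤ H) ∨ (∃ k, derivedSeries H k ≤ Z.subgroupOf H))
    (lam : Z →* ℂˣ) :
    ∃ β : H → ℂ, IsIrrCharacter H β ∧
      (∀ (z : Z) (x : H), β (⟨z, hZH z.2⟩ * x) = ((lam z : ℂˣ) : ℂ) * β x) ∧
      (∀ (e : E) (x : H), β ⟨e * x * e⁻¹, hHn.conj_mem x x.2 e⟩ = β x) := by
  classical
  let _ : Fintype E := Fintype.ofFinite E
  obtain ⟨S, hS⟩ := Subgroup.exists_right_complement'_of_coprime hcop
  have hScard : H.index = Nat.card S := hS.symm.index_eq_card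
  have hcen : ∀ z ∈ Z, ∀ g : E, g * z * g⁻¹ = z := by
    intro z hz g
    have := Subgroup.mem_center_iff.mp (hZc hz) g
    rw [this, mul_inv_cancel_right]
  let θ : IrrCharacter Z := ⟨fun z => ((lam z : ℂˣ) : ℂ), Helper77.isIrrCharacter_of_monoidHom lam⟩
  have hnorm : ∀ s ∈ S, ∀ g ∈ H, s * g * s⁻¹ ∈ H := fun s _ g hg => hHn.conj_mem g hg s
  have hNS : ∀ s ∈ S, ∀ n ∈ Z, s * n * s⁻¹ ∈ Z := by
    intro s _ n hn
    rw [hcen n hn s]; exact hn
  have hinv : ∀ s ∈ S, ∀ g g' : Z, (g' : E) = s * g * s⁻¹ → (θ : Z → ℂ) g' = (θ : Z → ℂ) g := by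
    intro s _ g g' hgg'
    rw [hcen g g.2 s] at hgg'
    rw [Subtype.ext hgg']
  have hex : ∃ χ : IrrCharacter H,
      classInner (fun n : Z => (χ : H → ℂ) ⟨n, hZH n.2⟩) (θ : Z → ℂ) ≠ 0 ∧
      (∀ s ∈ S, ∀ g g' : H, (g' : E) = s * g * s⁻¹ → (χ : H → ℂ) g' = (χ : H → ℂ) g) := by
    rcases hsolv with h | h
    · have hSsolv : Group.IsSolvable S := isSolvable_of_derivedSeries_le_of_disjoint H S hS.disjoint h
      have hNnormal : ∀ g ∈ H, ∀ n ∈ Z, g * n * g⁻¹ ∈ Z := by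
        intro g _ n hn
        rw [hcen n hn g]; exact hn
      exact Cfsg.Agent.S4449.result H S Z hnorm hZH hNnormal hNS (by rw [← hScard]; exact hcop)
        hSsolv θ hinv
    · have hZn : (Z.subgroupOf H).Normal := by
        constructor
        intro n hn g
        rw [Subgroup.mem_subgroupOf] at hn ⊢
        show (g : E) * n * (g : E)⁻¹ ∈ Z
        rw [hcen _ hn]; exact hn
      have hsolv' : Group.IsSolvable (H ⧸ Z.subgroupOf H) :=
        isSolvable_quotient_of_derivedSeries_le (Z.subgroupOf H) h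
      have hcop' : (Z.relIndex H).Coprime (Nat.card S) := by
        rw [← hScard]
        exact Nat.Coprime.coprime_dvd_left (Subgroup.relIndex_dvd_card Z H) hcop
      exact Cfsg.Agent.S4448.result H S Z hnorm hZH hNS hcop' hsolv' θ hinv
  obtain ⟨χ, hχθ, hχS⟩ := hex
  refine ⟨(χ : H → ℂ), χ.2, ?_, ?_⟩
  · intro z x
    exact central_mul_of_classInner_ne_zero H Z hZH
      (fun z hz x _ => (Subgroup.mem_center_iff.mp (hZc hz) x).symm) χ.2 lam hχθ z x
  · intro e x
    -- write `e = h * s`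
    obtain ⟨⟨⟨h, hh⟩, ⟨s, hs⟩⟩, hhs, -⟩ := Subgroup.IsComplement.existsUnique hS e
    have hhs' : h * s = e := hhs
    subst hhs'
    have hcf := Helper78.IsCharacter.isClassFunction (Helper78.IsIrrCharacter.isCharacter χ.2)
    have h1 : (χ : H → ℂ) ⟨s * x * s⁻¹, hHn.conj_mem x x.2 s⟩ = (χ : H → ℂ) x :=
      hχS s hs x ⟨s * x * s⁻¹, hHn.conj_mem x x.2 s⟩ rfl
    have h2 : (⟨h * s * x * (h * s)⁻¹, hHn.conj_mem x x.2 (h * s)⟩ : H) =
        ⟨h, hh⟩ * ⟨s * x * s⁻¹, hHn.conj_mem x x.2 s⟩ * ⟨h, hh⟩⁻¹ := by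
      apply Subtype.ext
      show h * s * x * (h * s)⁻¹ = h * (s * x * s⁻¹) * h⁻¹
      group
    rw [h2, hcf, h1]

/-- The central case, when the order of `lam` is coprime to the index of `H`. -/
theorem exists_invariant_over_central_of_order_coprime (H Z : Subgroup E)
    [hHn : H.Normal] (hZc : Z ≤ Subgroup.center E) (hZH : Z ≤ H)
    (hcop : (H.index).Coprime (Z.relIndex H))
    (hsolv : (∃ k, derivedSeries E k ≤ H) ∨ (∃ k, derivedSeries H k ≤ Z.subgroupOf H))
    (lam : Z →* ℂˣ) (a : ℕ) (ha : lam ^ a = 1) (hacop : Nat.Coprime a H.index) :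
    ∃ β : H → ℂ, IsIrrCharacter H β ∧
      (∀ (z : Z) (x : H), β (⟨z, hZH z.2⟩ * x) = ((lam z : ℂˣ) : ℂ) * β x) ∧
      (∀ (e : E) (x : H), β ⟨e * x * e⁻¹, hHn.conj_mem x x.2 e⟩ = β x) := by
  classical
  -- the kernel of `lam`, as a subgroup of `E`
  obtain ⟨Z₁, hZ₁⟩ : ∃ Z₁ : Subgroup E, Z₁ = (lam.ker).map Z.subtype := ⟨_, rfl⟩
  have hZ₁Z : Z₁ ≤ Z := by
    rw [hZ₁]; rintro _ ⟨x, -, rfl⟩; exact x.2
  have hmemZ₁ : ∀ z : Z, (z : E) ∈ Z₁ ↔ lam z = 1 := by
    intro z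
    rw [hZ₁]
    constructor
    · rintro ⟨y, hy, hyz⟩
      have : y = z := Subtype.ext hyz
      rw [← this]; exact hy
    · intro h
      exact ⟨z, h, rfl⟩
  have hcen : ∀ z ∈ Z, ∀ g : E, g * z * g⁻¹ = z := by
    intro z hz g
    have := Subgroup.mem_center_iff.mp (hZc hz) g
    rw [this, mul_inv_cancel_right]
  have hZ₁n : Z₁.Normal := by
    constructor
    intro z hz g
    rw [hcen z (hZ₁Z hz) g]; exact hz
  -- the quotient
  let mk : E →* E ⧸ Z₁ := QuotientGroup.mk' Z₁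
  have hmk : Function.Surjective mk := QuotientGroup.mk'_surjective Z₁
  have hker : mk.ker = Z₁ := QuotientGroup.ker_mk' Z₁
  have hHbarn : (H.map mk).Normal := Subgroup.Normal.map hHn mk hmk
  have hZbarc : Z.map mk ≤ Subgroup.center (E ⧸ Z₁) := by
    rintro _ ⟨z, hz, rfl⟩
    rw [Subgroup.mem_center_iff]
    intro y
    obtain ⟨e, rfl⟩ := hmk y
    rw [← map_mul, ← map_mul, Subgroup.mem_center_iff.mp (hZc hz) e]
  have hZHbar : Z.map mk ≤ H.map mk := Subgroup.map_mono hZH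
  have hindex : (H.map mk).index = H.index :=
    Subgroup.index_map_eq H hmk (by rw [hker]; exact le_trans hZ₁Z hZH)
  have hrel : (Z.map mk).relIndex (H.map mk) = Z.relIndex H := by
    rw [Subgroup.relIndex_map_map, hker, sup_eq_left.mpr hZ₁Z, sup_eq_left.mpr (le_trans hZ₁Z hZH)]
  -- coprimeness
  have hexp : ∀ x : Z.map mk, x ^ a = 1 := by
    rintro ⟨_, z, hz, rfl⟩
    apply Subtype.ext
    show (mk z) ^ a = 1
    rw [← map_pow]
    show ((z ^ a : E) : E ⧸ Z₁) = 1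
    rw [QuotientGroup.eq_one_iff]
    have h1 := (hmemZ₁ (⟨z, hz⟩ ^ a)).mpr (by
      have := congrArg (fun f : Z →* ℂˣ => f ⟨z, hz⟩) ha
      rw [map_pow]
      simpa using this)
    exact h1
  have hcardZ : (Nat.card (Z.map mk)).Coprime H.index :=
    Helper79.coprime_card_of_forall_pow_eq_one hexp hacop
  have hcardH : (Nat.card (H.map mk)).Coprime (H.map mk).index := by
    rw [hindex]
    have h1 : Nat.card ((Z.map mk).subgroupOf (H.map mk)) * (Z.map mk).relIndex (H.map mk) =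
        Nat.card (H.map mk) := Subgroup.card_mul_index _
    rw [← h1, hrel]
    apply Nat.Coprime.mul_left
    · rw [Nat.card_congr (Subgroup.subgroupOfEquivOfLe hZHbar).toEquiv]
      exact hcardZ
    · exact hcop.symm
  -- solvability
  have hsolv' : (∃ k, derivedSeries (E ⧸ Z₁) k ≤ H.map mk) ∨
      (∃ k, derivedSeries (H.map mk) k ≤ (Z.map mk).subgroupOf (H.map mk)) := by
    rcases hsolv with ⟨k, hk⟩ | ⟨k, hk⟩
    · left
      refine ⟨k, ?_⟩
      rw [← map_derivedSeries_eq hmk k]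
      exact Subgroup.map_mono hk
    · right
      refine ⟨k, ?_⟩
      rw [← map_derivedSeries_eq (MonoidHom.subgroupMap_surjective mk H) k]
      rintro _ ⟨x, hx, rfl⟩
      have h2 := hk hx
      rw [Subgroup.mem_subgroupOf] at h2 ⊢
      exact ⟨(x : E), h2, rfl⟩
  -- the character on the image of `Z`
  have hkerle : (mk.subgroupMap Z).ker ≤ lam.ker := by
    intro z hz
    rw [MonoidHom.mem_ker] at hz ⊢
    have h1 : mk (z : E) = 1 := congrArg Subtype.val hz
    have h2 : (z : E) ∈ Z₁ := by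
      rw [← hker]; exact h1
    exact (hmemZ₁ z).mp h2
  let lambar : Z.map mk →* ℂˣ :=
    (mk.subgroupMap Z).liftOfSurjective (MonoidHom.subgroupMap_surjective mk Z) ⟨lam, hkerle⟩
  have hlambar : ∀ z : Z, lambar (mk.subgroupMap Z z) = lam z := by
    intro z
    exact MonoidHom.liftOfRightInverse_comp_apply _ _ _ ⟨lam, hkerle⟩ z
  obtain ⟨βbar, hβirr, hβZ, hβinv⟩ :=
    exists_invariant_over_central_of_coprime (H.map mk) (Z.map mk) hZbarc hZHbar hcardH hsolv' lambar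
  refine ⟨βbar ∘ (mk.subgroupMap H), ?_, ?_, ?_⟩
  · exact Helper81.isIrrCharacter_comp_surjective hβirr _ (MonoidHom.subgroupMap_surjective mk H)
  · intro z x
    show βbar (mk.subgroupMap H (⟨z, hZH z.2⟩ * x)) = _ * βbar (mk.subgroupMap H x)
    rw [← hlambar z, ← hβZ]
    rfl
  · intro e x
    show βbar (mk.subgroupMap H ⟨e * x * e⁻¹, hHn.conj_mem x x.2 e⟩) = βbar (mk.subgroupMap H x)
    rw [← hβinv (mk e) (mk.subgroupMap H x)]
    congr 1

/-- **The central case**: `Z ≤ H` with `Z` central in `E`, `H` normal in `E`,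
`(|E : H|, |H : Z|) = 1` and `E / H` or `H / Z` solvable.  Then every linear character of `Z`
lies under an `E`-invariant irreducible character of `H`. -/
theorem exists_invariant_over_central (H Z : Subgroup E)
    [hHn : H.Normal] (hZc : Z ≤ Subgroup.center E) (hZH : Z ≤ H)
    (hcop : (H.index).Coprime (Z.relIndex H))
    (hsolv : (∃ k, derivedSeries E k ≤ H) ∨ (∃ k, derivedSeries H k ≤ Z.subgroupOf H))
    (lam : Z →* ℂˣ) :
    ∃ β : H → ℂ, IsIrrCharacter H β ∧
      (∀ (z : Z) (x : H), β (⟨z, hZH z.2⟩ * x) = ((lam z : ℂˣ) : ℂ) * β x) ∧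
      (∀ (e : E) (x : H), β ⟨e * x * e⁻¹, hHn.conj_mem x x.2 e⟩ = β x) := by
  classical
  have ho : 0 < Nat.card Z := Nat.card_pos
  have hlamo : lam ^ (Nat.card Z) = 1 := by
    ext z
    rw [MonoidHom.pow_apply, ← map_pow, pow_card_eq_one', map_one, MonoidHom.one_apply]
  obtain ⟨a, b, hab, hb, ha⟩ := exists_split_coprime (Z.relIndex H) (Nat.card Z) ho
  have hab_cop : Nat.Coprime a b := by
    by_contra h
    obtain ⟨q, hq, hqa, hqb⟩ := Nat.Prime.not_coprime_iff_dvd.mp h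
    exact (Nat.Prime.not_coprime_iff_dvd.mpr ⟨q, hq, hqb, ha q hq hqa⟩) hb
  have ha_cop : Nat.Coprime a H.index := by
    by_contra h
    obtain ⟨q, hq, hqa, hqm⟩ := Nat.Prime.not_coprime_iff_dvd.mp h
    exact (Nat.Prime.not_coprime_iff_dvd.mpr ⟨q, hq, hqm, ha q hq hqa⟩) hcop
  obtain ⟨lam_a, lam_b, hlam, hlam_a, hlam_b⟩ :=
    exists_split_of_pow_eq_one lam a b hab_cop (by rw [← hab]; exact hlamo)
  -- the transfer part
  have hZ'c : Z.subgroupOf H ≤ Subgroup.center H := by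
    intro z hz
    rw [Subgroup.mem_center_iff]
    intro y
    apply Subtype.ext
    exact Subgroup.mem_center_iff.mp (hZc (Subgroup.mem_subgroupOf.mp hz)) y
  let lam_b' : Z.subgroupOf H →* ℂˣ := lam_b.comp (Subgroup.subgroupOfEquivOfLe hZH).toMonoidHom
  have hlam_b' : lam_b' ^ b = 1 := by
    apply MonoidHom.ext
    intro z
    rw [MonoidHom.pow_apply, MonoidHom.one_apply]
    show (lam_b ((Subgroup.subgroupOfEquivOfLe hZH) z)) ^ b = _
    have := congrArg (fun f : Z →* ℂˣ => f ((Subgroup.subgroupOfEquivOfLe hZH) z)) hlam_b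
    simpa using this
  obtain ⟨μ, hμZ, hμinv⟩ := exists_extension_of_central_of_coprime (Z.subgroupOf H) hZ'c lam_b' b
    hlam_b' hb
  have hμZ' : ∀ z : Z, μ ⟨z, hZH z.2⟩ = lam_b z := by
    intro z
    have h1 := hμZ ⟨⟨z, hZH z.2⟩, Subgroup.mem_subgroupOf.mpr z.2⟩
    rw [h1]
    show lam_b ((Subgroup.subgroupOfEquivOfLe hZH) _) = lam_b z
    congr 1
  have hμinv' : ∀ (e : E) (x : H), μ ⟨e * x * e⁻¹, hHn.conj_mem x x.2 e⟩ = μ x := by
    intro e x
    have h1 := hμinv (MulAut.conjNormal e : H ≃* H) (by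
      intro z hz
      apply Subtype.ext
      rw [MulAut.conjNormal_apply]
      have := Subgroup.mem_center_iff.mp (hZc (Subgroup.mem_subgroupOf.mp hz)) e
      rw [this, mul_inv_cancel_right]) x
    rw [← h1]
    congr 1
  -- the other part
  obtain ⟨β₀, hβ₀irr, hβ₀Z, hβ₀inv⟩ :=
    exists_invariant_over_central_of_order_coprime H Z hZc hZH hcop hsolv lam_a a hlam_a ha_cop
  refine ⟨fun x => ((μ x : ℂˣ) : ℂ) * β₀ x, Helper81.isIrrCharacter_monoidHom_mul μ hβ₀irr, ?_, ?_⟩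
  · intro z x
    show ((μ (⟨z, hZH z.2⟩ * x) : ℂˣ) : ℂ) * β₀ (⟨z, hZH z.2⟩ * x) = _
    rw [map_mul, hμZ', hβ₀Z, hlam, MonoidHom.mul_apply, Units.val_mul, Units.val_mul]
    ring
  · intro e x
    show ((μ _ : ℂˣ) : ℂ) * β₀ _ = _
    rw [hμinv', hβ₀inv]

end CoprimeCase

end Cfsg.Agent.Lib.Helper80
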