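import Cfsg.Agent.Lib.Helper80.CharOrth
import Mathlib.RepresentationTheory.Maschke

/-!
# Complete reducibility and completeness of irreducible characters (helper80)
-/

set_option autoImplicit false

namespace Cfsg.Agent.Lib.Helper80

open Cfsg Module Polynomial Representation
open scoped ComplexConjugate

universe u v w

section decomp

variable {G : Type u} [Group G] [Finite G] {V : Type v} [AddCommGroup V] [Module ℂ V]

theorem neZero_card_complex : NeZero (Nat.card G : ℂ) :=
  ⟨by exact_mod_cast Nat.card_pos.ne'⟩

/-- Maschke: a non-irreducible representation on a nontrivial space splits. -/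
theorem exists_isCompl_subrep (ρ : Representation ℂ G V) [Nontrivial V]
    (h : ¬ ρ.IsIrreducible) :
    ∃ S S' : Subrepresentation ρ, IsCompl S S' ∧ S ≠ ⊥ ∧ S ≠ ⊤ := by
  have := neZero_card_complex (G := G)
  have hnt : Nontrivial (Subrepresentation ρ) := by
    refine ⟨⊥, ⊤, fun hbt => ?_⟩
    have h1 := congrArg Subrepresentation.toSubmodule hbt
    exact bot_ne_top h1
  have : ∃ S : Subrepresentation ρ, S ≠ ⊥ ∧ S ≠ ⊤ := by
    by_contra hcon
    push Not at hcon
    apply h
    exact { exists_pair_ne := hnt.exists_pair_ne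
            eq_bot_or_eq_top := fun S => by
              by_cases hS : S = ⊥
              · exact Or.inl hS
              · exact Or.inr (hcon S hS) }
  obtain ⟨S, hS1, hS2⟩ := this
  obtain ⟨S', hS'⟩ := exists_isCompl S
  exact ⟨S, S', hS', hS1, hS2⟩

omit [Finite G] in
theorem isCompl_toSubmodule {ρ : Representation ℂ G V} {S S' : Subrepresentation ρ}
    (h : IsCompl S S') : IsCompl S.toSubmodule S'.toSubmodule := by
  constructor
  · rw [disjoint_iff]
    have := h.inf_eq_bot
    have h2 := congrArg Subrepresentation.toSubmodule this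
    exact h2
  · rw [codisjoint_iff]
    have := h.sup_eq_top
    have h2 := congrArg Subrepresentation.toSubmodule this
    exact h2

omit [Finite G] in
/-- A representation is equivalent to the product of two complementary subrepresentations. -/
noncomputable def equivProdOfIsCompl {ρ : Representation ℂ G V} {S S' : Subrepresentation ρ}
    (h : IsCompl S S') :
    Representation.Equiv (S.toRepresentation.prod S'.toRepresentation) ρ :=
  Representation.Equiv.mk
    (Submodule.prodEquivOfIsCompl S.toSubmodule S'.toSubmodule (isCompl_toSubmodule h))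
    (fun g => by
      ext x <;> simp [Subrepresentation.toRepresentation])

omit [Finite G] in
/-- Product of equivalences of representations. -/
noncomputable def equivProdCongr {V₁ V₂ W₁ W₂ : Type*} [AddCommGroup V₁] [Module ℂ V₁]
    [AddCommGroup V₂] [Module ℂ V₂] [AddCommGroup W₁] [Module ℂ W₁] [AddCommGroup W₂] [Module ℂ W₂]
    {ρ₁ : Representation ℂ G V₁} {ρ₂ : Representation ℂ G V₂} {σ₁ : Representation ℂ G W₁}
    {σ₂ : Representation ℂ G W₂} (e₁ : Representation.Equiv ρ₁ σ₁)
    (e₂ : Representation.Equiv ρ₂ σ₂) : Representation.Equiv (ρ₁.prod ρ₂) (σ₁.prod σ₂) :=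
  Representation.Equiv.mk (LinearEquiv.prodCongr e₁.toLinearEquiv e₂.toLinearEquiv)
    (fun g => by
      ext x
      · simp [IntertwiningMap.isIntertwining _ _ e₁.toIntertwiningMap g]
      · simp
      · simp
      · simp [IntertwiningMap.isIntertwining _ _ e₂.toIntertwiningMap g])

/-- Induction principle for finite-dimensional complex representations of a finite group
(complete reducibility): a property holds for all representations on coordinate spaces as soon as
it holds for the zero-dimensional ones, for the irreducible ones, and is inherited by anything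
equivalent to a product of two representations having the property. -/
theorem rep_induction
    (P : ∀ n : ℕ, Representation ℂ G (Fin n → ℂ) → Prop)
    (h0 : ∀ ρ : Representation ℂ G (Fin 0 → ℂ), P 0 ρ)
    (hirr : ∀ (n : ℕ) (ρ : Representation ℂ G (Fin n → ℂ)), ρ.IsIrreducible → P n ρ)
    (hprod : ∀ (n m k : ℕ) (ρ : Representation ℂ G (Fin n → ℂ))
      (σ : Representation ℂ G (Fin m → ℂ)) (τ : Representation ℂ G (Fin k → ℂ)),
      P n ρ → P m σ → Representation.Equiv (ρ.prod σ) τ → P k τ) :
    ∀ (n : ℕ) (ρ : Representation ℂ G (Fin n → ℂ)), P n ρ := by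
  intro n
  induction n using Nat.strong_induction_on with
  | _ n ih =>
    intro ρ
    rcases Nat.eq_zero_or_pos n with rfl | hn
    · exact h0 ρ
    by_cases hirr' : ρ.IsIrreducible
    · exact hirr n ρ hirr'
    have : Nonempty (Fin n) := ⟨⟨0, hn⟩⟩
    have : Nontrivial (Fin n → ℂ) := inferInstance
    obtain ⟨S, S', hc, hb, ht⟩ := exists_isCompl_subrep ρ hirr'
    have hcs := isCompl_toSubmodule hc
    have hadd : finrank ℂ S.toSubmodule + finrank ℂ S'.toSubmodule = n := by
      have := Submodule.finrank_add_eq_of_isCompl hcs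
      simpa using this
    have hSb : S.toSubmodule ≠ ⊥ := fun h => hb (Subrepresentation.toSubmodule_injective h)
    have hSt : S.toSubmodule ≠ ⊤ := fun h => ht (Subrepresentation.toSubmodule_injective h)
    have ha0 : 0 < finrank ℂ S.toSubmodule := by
      rw [Module.finrank_pos_iff]
      exact (Submodule.nontrivial_iff_ne_bot).mpr hSb
    have han : finrank ℂ S.toSubmodule < n := by
      have := Submodule.finrank_lt hSt
      simpa using this
    have hbn : finrank ℂ S'.toSubmodule < n := by omega
    let e₁ : S.toSubmodule ≃ₗ[ℂ] (Fin (finrank ℂ S.toSubmodule) → ℂ) :=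
      (Module.finBasis ℂ S.toSubmodule).equivFun
    let e₂ : S'.toSubmodule ≃ₗ[ℂ] (Fin (finrank ℂ S'.toSubmodule) → ℂ) :=
      (Module.finBasis ℂ S'.toSubmodule).equivFun
    have h1 := ih _ han (repConj e₁ S.toRepresentation)
    have h2 := ih _ hbn (repConj e₂ S'.toRepresentation)
    refine hprod _ _ _ _ _ ρ h1 h2 ?_
    exact (equivProdCongr (repConjEquiv e₁ S.toRepresentation).symm
      (repConjEquiv e₂ S'.toRepresentation).symm).trans (equivProdOfIsCompl hc)

/-- Every character of a finite group is a sum of irreducible characters. -/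
theorem exists_multiset_irr {χ : G → ℂ} (h : IsCharacter G χ) :
    ∃ l : Multiset (IrrCharacter G), χ = (l.map (fun ψ : IrrCharacter G => ψ.1)).sum := by
  obtain ⟨n, ρ, rfl⟩ := h
  revert n ρ
  apply rep_induction
  · intro ρ
    refine ⟨0, ?_⟩
    ext g
    have : ρ g = 0 := Subsingleton.elim _ _
    simp [character, this]
  · intro n ρ hirr
    exact ⟨{⟨ρ.character, n, ρ, hirr, rfl⟩}, by simp⟩
  · rintro n m k ρ σ τ ⟨l₁, h₁⟩ ⟨l₂, h₂⟩ e
    refine ⟨l₁ + l₂, ?_⟩
    rw [← char_iso e, rep_char_prod, h₁, h₂, Multiset.map_add, Multiset.sum_add]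

end decomp

section complete

variable {G : Type u} [Group G] [Fintype G]

/-- The operator `∑ g, f g • ρ g⁻¹` attached to a function `f` and a representation `ρ`. -/
noncomputable def fourierOp {V : Type v} [AddCommGroup V] [Module ℂ V] (f : G → ℂ)
    (ρ : Representation ℂ G V) : Module.End ℂ V :=
  ∑ g : G, f g • ρ g⁻¹

theorem fourierOp_apply {V : Type v} [AddCommGroup V] [Module ℂ V] (f : G → ℂ)
    (ρ : Representation ℂ G V) (v : V) : fourierOp f ρ v = ∑ g : G, f g • ρ g⁻¹ v := by
  simp [fourierOp, LinearMap.sum_apply]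

/-- For a class function `f`, the operator `fourierOp f ρ` commutes with `ρ`. -/
theorem fourierOp_comm {V : Type v} [AddCommGroup V] [Module ℂ V] {f : G → ℂ}
    (hf : IsClassFunction G f) (ρ : Representation ℂ G V) (h : G) :
    fourierOp f ρ ∘ₗ ρ h = ρ h ∘ₗ fourierOp f ρ := by
  ext v
  simp only [LinearMap.comp_apply, fourierOp_apply, map_sum, map_smul]
  -- LHS: ∑ g, f g • ρ g⁻¹ (ρ h v) ; RHS: ∑ g, f g • ρ h (ρ g⁻¹ v)
  rw [← Equiv.sum_comp (MulAut.conj h).toEquiv]
  refine Finset.sum_congr rfl fun g _ => ?_
  have h1 : f ((MulAut.conj h).toEquiv g) = f g := by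
    simp only [MulEquiv.toEquiv_eq_coe, EquivLike.coe_coe, MulAut.conj_apply]
    exact hf g h
  rw [h1]
  congr 1
  simp only [MulEquiv.toEquiv_eq_coe, EquivLike.coe_coe, MulAut.conj_apply]
  rw [← Module.End.mul_apply, ← Module.End.mul_apply, ← map_mul, ← map_mul]
  congr 2
  group

theorem trace_fourierOp {V : Type v} [AddCommGroup V] [Module ℂ V] [FiniteDimensional ℂ V]
    (f : G → ℂ) (ρ : Representation ℂ G V) :
    LinearMap.trace ℂ V (fourierOp f ρ) = (Nat.card G : ℂ) * classInner f ρ.character := by
  rw [classInner_def, ← mul_assoc, mul_inv_cancel₀ card_ne_zero_complex, one_mul, fourierOp,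
    map_sum]
  refine Finset.sum_congr rfl fun g _ => ?_
  rw [map_smul, smul_eq_mul, ← rep_char_inv]
  rfl

omit [Fintype G] in
/-- Schur's lemma: an endomorphism commuting with an irreducible representation is a scalar. -/
theorem exists_eq_smul_one_of_comm {V : Type v} [AddCommGroup V] [Module ℂ V]
    [FiniteDimensional ℂ V] (ρ : Representation ℂ G V) [ρ.IsIrreducible] (T : Module.End ℂ V)
    (hT : ∀ h : G, T ∘ₗ ρ h = ρ h ∘ₗ T) : ∃ c : ℂ, T = c • (1 : Module.End ℂ V) := by
  let F : IntertwiningMap ρ ρ := ⟨T, hT⟩
  obtain ⟨c, hc⟩ := (IsIrreducible.algebraMap_intertwiningMap_bijective_of_isAlgClosed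
    (ρ := ρ)).2 F
  refine ⟨c, ?_⟩
  have := congrArg IntertwiningMap.toLinearMap hc
  rw [IntertwiningMap.algebraMap_apply] at this
  simp only [IntertwiningMap.toLinearMap_smul] at this
  exact this.symm

/-- If `f` is a class function orthogonal to the character of the irreducible representation
`ρ`, then `fourierOp f ρ = 0`. -/
theorem fourierOp_eq_zero_of_irr {V : Type v} [AddCommGroup V] [Module ℂ V]
    [FiniteDimensional ℂ V] {f : G → ℂ} (hf : IsClassFunction G f) (ρ : Representation ℂ G V)
    [ρ.IsIrreducible] (h0 : classInner f ρ.character = 0) : fourierOp f ρ = 0 := by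
  obtain ⟨c, hc⟩ := exists_eq_smul_one_of_comm ρ (fourierOp f ρ) (fourierOp_comm hf ρ)
  have htr := trace_fourierOp f ρ
  rw [h0, mul_zero, hc, map_smul, LinearMap.trace_one, smul_eq_mul] at htr
  have hpos : (finrank ℂ V : ℂ) ≠ 0 := by
    have h1 : ρ.character 1 = (finrank ℂ V : ℂ) := char_one ρ
    rw [← h1]
    exact char_one_ne_zero_of_isIrr (isIrrCharacter_of_rep ρ inferInstance)
  rcases mul_eq_zero.mp htr with h | h
  · rw [hc, h, zero_smul]
  · exact absurd h hpos

theorem fourierOp_equiv {V : Type v} [AddCommGroup V] [Module ℂ V] {W : Type w} [AddCommGroup W]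
    [Module ℂ W] (f : G → ℂ) {ρ : Representation ℂ G V} {σ : Representation ℂ G W}
    (e : Representation.Equiv ρ σ) :
    fourierOp f σ = e.toLinearEquiv.conj (fourierOp f ρ) := by
  simp only [fourierOp, map_sum, map_smul]
  refine Finset.sum_congr rfl fun g _ => ?_
  rw [← Representation.Equiv.conj_apply_self g⁻¹ e]

theorem fourierOp_prod {V : Type v} [AddCommGroup V] [Module ℂ V] {W : Type w} [AddCommGroup W]
    [Module ℂ W] (f : G → ℂ) (ρ : Representation ℂ G V) (σ : Representation ℂ G W) :
    fourierOp f (ρ.prod σ) = (fourierOp f ρ).prodMap (fourierOp f σ) := by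
  ext x <;> simp [fourierOp_apply, Prod.fst_sum, Prod.snd_sum]

/-- If the class function `f` is orthogonal to all irreducible characters then
`fourierOp f ρ = 0` for every representation on a coordinate space. -/
theorem fourierOp_eq_zero_fin {f : G → ℂ} (hf : IsClassFunction G f)
    (h0 : ∀ χ : IrrCharacter G, classInner f (χ : G → ℂ) = 0) :
    ∀ (n : ℕ) (ρ : Representation ℂ G (Fin n → ℂ)), fourierOp f ρ = 0 := by
  apply rep_induction
  · intro ρ
    exact Subsingleton.elim _ _
  · intro n ρ hirr
    have := hirr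
    exact fourierOp_eq_zero_of_irr hf ρ (h0 ⟨ρ.character, n, ρ, hirr, rfl⟩)
  · intro n m k ρ σ τ h1 h2 e
    rw [fourierOp_equiv f e, fourierOp_prod, h1, h2]
    simp

/-- The (left) regular representation of `G` on the space of functions `G → ℂ`:
`(g • φ) x = φ (g⁻¹ * x)`. -/
noncomputable def regRep : Representation ℂ G (G → ℂ) where
  toFun g := LinearMap.funLeft ℂ ℂ (fun x => g⁻¹ * x)
  map_one' := by
    ext φ x
    simp [LinearMap.funLeft_apply]
  map_mul' a b := by
    ext φ x
    simp [LinearMap.funLeft_apply, mul_assoc]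

omit [Fintype G] in
theorem regRep_apply (g : G) (φ : G → ℂ) (x : G) : regRep g φ x = φ (g⁻¹ * x) := rfl

/-- `fourierOp f ρ = 0` for every finite-dimensional `ρ` when the class function `f` is
orthogonal to all irreducible characters. -/
theorem fourierOp_eq_zero {V : Type v} [AddCommGroup V] [Module ℂ V] [FiniteDimensional ℂ V]
    {f : G → ℂ} (hf : IsClassFunction G f)
    (h0 : ∀ χ : IrrCharacter G, classInner f (χ : G → ℂ) = 0) (ρ : Representation ℂ G V) :
    fourierOp f ρ = 0 := by
  let e : V ≃ₗ[ℂ] (Fin (Module.finrank ℂ V) → ℂ) := (Module.finBasis ℂ V).equivFun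
  have h1 := fourierOp_eq_zero_fin hf h0 _ (repConj e ρ)
  rw [fourierOp_equiv f (repConjEquiv e ρ)] at h1
  exact (LinearEquiv.map_eq_zero_iff _).mp h1

/-- **Completeness of the irreducible characters**: a class function orthogonal to all
irreducible characters vanishes. -/
theorem eq_zero_of_classInner_irr_eq_zero {f : G → ℂ} (hf : IsClassFunction G f)
    (h0 : ∀ χ : IrrCharacter G, classInner f (χ : G → ℂ) = 0) : f = 0 := by
  classical
  have h := fourierOp_eq_zero hf h0 (regRep (G := G))
  ext x
  have h1 := congrFun (LinearMap.congr_fun h (Pi.single 1 1)) x⁻¹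
  rw [fourierOp_apply] at h1
  simp only [Finset.sum_apply, Pi.smul_apply, regRep_apply, inv_inv, smul_eq_mul,
    LinearMap.zero_apply, Pi.zero_apply] at h1
  rw [Finset.sum_eq_single x] at h1
  · simpa using h1
  · intro g _ hg
    have : g * x⁻¹ ≠ 1 := by
      intro h'
      exact hg (by rw [mul_inv_eq_one] at h'; exact h')
    simp [Pi.single_apply, this]
  · intro hx
    exact absurd (Finset.mem_univ x) hx

end complete

end Cfsg.Agent.Lib.Helper80
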