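import Cfsg.Agent.Lib.Helper77.DefOneDefs
import Cfsg.Agent.Lib.Helper46.DefOneMJ
import Cfsg.Agent.Lib.Helper71.DefOneM2

/-!
# PROJECT BC (defect one), general blocks: MODULE (GM2)

Generalisation of helper71's (M2) from linear characters `μ₁ ≠ μ₂` to arbitrary irreducible
`F[N]`-modules `W, W'` (on which `P` acts trivially) admitting *stable maps* into an `F[N]`-module
`V` (`P ⊴ N` of order `p = char F`, `p ∤ |N : P|`): `N`-equivariant linear maps `f : W → V` such that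
`f w` is a `P`-trace only for `w = 0`.  If there is no nonzero intertwiner `W' → W`, there is an
`F[N]`-endomorphism `β` of `V` such that `β` and `id` are linearly independent modulo the `N`-traces.
-/

set_option autoImplicit false
set_option linter.unusedSectionVars false

namespace Cfsg.Agent.Lib.Helper80.DefOneGen

open scoped BigOperators
open Cfsg.Agent.Lib.Helper77.DefOne Cfsg.Agent.Lib.Helper71.DefOneM2

variable {F : Type*} [Field F] {V : Type*} [AddCommGroup V] [Module F V]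
  {p : ℕ} [hp : Fact p.Prime] [CharP F p]

/-- **MODULE (GM2).** -/
theorem GM2 {N : Type*} [Group N] [Fintype N] [FiniteDimensional F V] (P : Subgroup N) [P.Normal]
    (hP : Nat.card P = p) (hidx : ¬ p ∣ P.index) (ρ : Representation F N V)
    {W W' : Type*} [AddCommGroup W] [Module F W] [AddCommGroup W'] [Module F W']
    (ρW : Representation F N W) (ρW' : Representation F N W')
    [ρW.IsIrreducible] [ρW'.IsIrreducible]
    (hWP : ∀ u ∈ P, ρW u = 1) (hWP' : ∀ u ∈ P, ρW' u = 1)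
    (f₁ : W →ₗ[F] V) (f₂ : W' →ₗ[F] V)
    (h₁ : ∀ n w, ρ n (f₁ w) = f₁ (ρW n w)) (h₂ : ∀ n w, ρ n (f₂ w) = f₂ (ρW' n w))
    (hs₁ : ∀ w, f₁ w ∈ LinearMap.range (trOne ρ P) → w = 0)
    (hs₂ : ∀ w, f₂ w ∈ LinearMap.range (trOne ρ P) → w = 0)
    (hne : ∀ φ : W' →ₗ[F] W, (∀ n w, φ (ρW' n w) = ρW n (φ w)) → φ = 0) :
    ∃ β : V →ₗ[F] V, (∀ n, ρ n ∘ₗ β = β ∘ₗ ρ n) ∧ ∀ c₁ c₂ : F,
      (∃ γ : V →ₗ[F] V, c₁ • β + c₂ • LinearMap.id = ∑ n : N, ρ n ∘ₗ γ ∘ₗ ρ n⁻¹) →
        c₁ = 0 ∧ c₂ = 0 := by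
  classical
  obtain ⟨x, hxP, hxp, hgen⟩ := exists_generator (p := p) P hP
  -- a complement `H` of `P`
  have hcop : Nat.Coprime (Nat.card P) P.index := by
    rw [hP]; exact (Nat.Prime.coprime_iff_not_dvd hp.out).mpr hidx
  obtain ⟨H, hPH⟩ := Subgroup.exists_right_complement'_of_coprime hcop
  have hHcard : Nat.card H = P.index := (hPH.symm.index_eq_card).symm
  have hcH : ((Nat.card H : ℕ) : F) ≠ 0 := by
    rw [hHcard]; intro h; exact hidx ((CharP.cast_eq_zero_iff F p _).mp h)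
  have hcardH : (Fintype.card H : F) = ((Nat.card H : ℕ) : F) := by
    rw [Nat.card_eq_fintype_card]
  have hdecomp : ∀ n : N, ∃ u ∈ P, ∃ h ∈ H, n = u * h := by
    intro n
    obtain ⟨⟨u, h⟩, huh⟩ := hPH.2 n
    exact ⟨u.1, u.2, h.1, h.2, huh.symm⟩
  set ν : V →ₗ[F] V := ρ x - 1 with hν
  have hνp : ν ^ p = 0 := by
    rw [hν, sub_one_pow_char (F := F), ← map_pow, hxp, map_one, sub_self]
  have hfix : ∀ w, ν w = 0 → ∀ u ∈ P, ρ u w = w := by
    intro w hw u hu
    obtain ⟨k, rfl⟩ := hgen u hu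
    apply pow_fixed
    have : ρ x w - w = 0 := by simpa [hν] using hw
    exact sub_eq_zero.mp this
  have hker : ∀ w, (∀ u ∈ P, ρ u w = w) → ν w = 0 := by
    intro w h
    simp [hν, h x hxP]
  have hρmul : ∀ (a c : N) (w : V), ρ a (ρ c w) = ρ (a * c) w := by
    intro a c w
    rw [map_mul, Module.End.mul_apply]
  have hρWmul : ∀ (a c : N) (w : W), ρW a (ρW c w) = ρW (a * c) w := by
    intro a c w
    rw [map_mul, Module.End.mul_apply]
  have hNker : ∀ (n : N) w, ν w = 0 → ν (ρ n w) = 0 := by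
    intro n w hw
    apply hker
    intro u hu
    have hu' : n⁻¹ * u * n ∈ P := by
      have := ‹P.Normal›.conj_mem u hu n⁻¹
      simpa using this
    have h3 := hfix w hw _ hu'
    calc ρ u (ρ n w) = ρ (n * (n⁻¹ * u * n)) w := by
          rw [hρmul]; congr 2; group
      _ = ρ n (ρ (n⁻¹ * u * n) w) := by rw [hρmul]
      _ = ρ n w := by rw [h3]
  have hNrange : ∀ (n : N) (l : ℕ) w, ρ n ((ν ^ l) w) ∈ LinearMap.range (ν ^ l) := by
    intro n l w
    have hc : n * x * n⁻¹ ∈ P := ‹P.Normal›.conj_mem x hxP n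
    obtain ⟨k, hk⟩ := hgen _ hc
    set s : V →ₗ[F] V := ∑ i ∈ Finset.range k, (ρ x) ^ i with hs
    have hνs : ρ (n * x * n⁻¹) - 1 = ν * s := by
      rw [hk, map_pow, hν, hs, mul_geom_sum]
    have hcomm : Commute ν s := by
      rw [hν, hs]
      apply Commute.sum_right
      intro i _
      apply Commute.pow_right
      exact (Commute.refl (ρ x)).sub_left (Commute.one_left _)
    have hconj : ∀ w, ρ n (ν w) = (ν * s) (ρ n w) := by
      intro w
      rw [← hνs]
      simp only [hν, LinearMap.sub_apply, Module.End.one_apply, map_sub]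
      congr 1
      rw [hρmul, hρmul]
      congr 2; group
    have hconjl : ∀ (l : ℕ) w, ρ n ((ν ^ l) w) = ((ν * s) ^ l) (ρ n w) := by
      intro l
      induction l with
      | zero => intro w; simp
      | succ l ih =>
        intro w
        have e1 : (ν ^ (l + 1)) w = ν ((ν ^ l) w) := by rw [pow_succ', Module.End.mul_apply]
        have e2 : ((ν * s) ^ (l + 1)) (ρ n w) = (ν * s) (((ν * s) ^ l) (ρ n w)) := by
          rw [pow_succ', Module.End.mul_apply]
        rw [e1, e2, hconj, ih]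
    rw [hconjl, hcomm.mul_pow, Module.End.mul_apply]
    exact ⟨_, rfl⟩
  -- ranges of powers of `ν` decrease
  have hrange_anti : ∀ {a b : ℕ}, b ≤ a → LinearMap.range (ν ^ a) ≤ LinearMap.range (ν ^ b) := by
    intro a b hab q hq
    obtain ⟨w, rfl⟩ := hq
    refine ⟨(ν ^ (a - b)) w, ?_⟩
    rw [← Module.End.mul_apply, ← pow_add, Nat.add_sub_cancel' hab]
  -- images of the stable maps are `P`-fixed
  have hf₁ν : ∀ w, ν (f₁ w) = 0 := fun w => hker _ fun u hu => by
    rw [h₁, hWP u hu, Module.End.one_apply]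
  have hf₂ν : ∀ w, ν (f₂ w) = 0 := fun w => hker _ fun u hu => by
    rw [h₂, hWP' u hu, Module.End.one_apply]
  have hW : Nontrivial W := by
    by_contra hcon
    rw [not_nontrivial_iff_subsingleton] at hcon
    have : Nontrivial (Subrepresentation ρW) := IsSimpleOrder.toNontrivial
    obtain ⟨a, b, hab⟩ := this
    apply hab
    apply Subrepresentation.toSubmodule_injective
    ext w
    have : w = 0 := Subsingleton.elim _ _
    rw [this]
    simp
  have hW' : Nontrivial W' := by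
    by_contra hcon
    rw [not_nontrivial_iff_subsingleton] at hcon
    have : Nontrivial (Subrepresentation ρW') := IsSimpleOrder.toNontrivial
    obtain ⟨a, b, hab⟩ := this
    apply hab
    apply Subrepresentation.toSubmodule_injective
    ext w
    have : w = 0 := Subsingleton.elim _ _
    rw [this]
    simp
  have hf₁inj : ∀ w, f₁ w = 0 → w = 0 := by
    intro w hw
    apply hs₁
    rw [hw]
    exact Submodule.zero_mem _
  -- the level of `f₁ W`
  set l₁ : ℕ := Nat.findGreatest (fun l => ∀ w, f₁ w ∈ LinearMap.range (ν ^ l)) p with hl₁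
  have hl₁spec : ∀ w, f₁ w ∈ LinearMap.range (ν ^ l₁) := by
    have h0 : (fun l => ∀ w, f₁ w ∈ LinearMap.range (ν ^ l)) 0 := by
      intro w
      exact ⟨f₁ w, by simp⟩
    exact Nat.findGreatest_spec (P := fun l => ∀ w, f₁ w ∈ LinearMap.range (ν ^ l))
      (Nat.zero_le p) h0
  have hl₁lt : l₁ < p := by
    by_contra hge
    have hge' : p ≤ l₁ := not_lt.mp hge
    obtain ⟨w, hw⟩ := exists_ne (0 : W)
    apply hw
    apply hf₁inj
    have := hrange_anti hge' (hl₁spec w)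
    rw [hνp] at this
    obtain ⟨y, hy⟩ := this
    rw [← hy]
    rfl
  -- `f₁ W` meets `range (ν ^ (l₁ + 1))` trivially
  have hlev : ∀ w, f₁ w ∈ LinearMap.range (ν ^ (l₁ + 1)) → w = 0 := by
    let A : Subrepresentation ρW :=
      { toSubmodule := (LinearMap.range (ν ^ (l₁ + 1))).comap f₁
        apply_mem_toSubmodule := by
          intro n w hw
          rw [Submodule.mem_comap] at hw ⊢
          obtain ⟨y, hy⟩ := hw
          rw [← h₁, ← hy]
          exact hNrange n _ y }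
    rcases eq_bot_or_eq_top A with hA | hA
    · intro w hw
      have : w ∈ A := hw
      rw [hA] at this
      exact this
    · exfalso
      have hall : ∀ w, f₁ w ∈ LinearMap.range (ν ^ (l₁ + 1)) := by
        intro w
        have : w ∈ A := by rw [hA]; trivial
        exact this
      have := Nat.le_findGreatest (P := fun l => ∀ w, f₁ w ∈ LinearMap.range (ν ^ l))
        (Nat.succ_le_of_lt hl₁lt) hall
      omega
  -- a linear left inverse of `f₁` vanishing on `range (ν ^ (l₁ + 1))`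
  obtain ⟨g₀, hg₀f, hg₀Y⟩ : ∃ g₀ : V →ₗ[F] W, (∀ w, g₀ (f₁ w) = w) ∧
      ∀ q ∈ LinearMap.range (ν ^ (l₁ + 1)), g₀ q = 0 := by
    set Y : Submodule F V := LinearMap.range (ν ^ (l₁ + 1)) with hY
    have hinj : LinearMap.ker (Y.mkQ ∘ₗ f₁) = ⊥ := by
      rw [LinearMap.ker_eq_bot']
      intro w hw
      apply hlev
      rw [LinearMap.comp_apply, Submodule.mkQ_apply, Submodule.Quotient.mk_eq_zero] at hw
      exact hw
    obtain ⟨gbar, hgbar⟩ := LinearMap.exists_leftInverse_of_injective (Y.mkQ ∘ₗ f₁) hinj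
    refine ⟨gbar ∘ₗ Y.mkQ, ?_, ?_⟩
    · intro w
      have := LinearMap.congr_fun hgbar w
      simpa using this
    · intro q hq
      rw [LinearMap.comp_apply, Submodule.mkQ_apply, (Submodule.Quotient.mk_eq_zero Y).mpr hq,
        map_zero]
  -- average over `H`
  set g : V →ₗ[F] W :=
    ((Nat.card H : ℕ) : F)⁻¹ • ∑ h : H, ρW (h : N) ∘ₗ g₀ ∘ₗ ρ ((h : N)⁻¹) with hgdef
  have hgform : ∀ q, g q =
      ((Nat.card H : ℕ) : F)⁻¹ • ∑ h : H, ρW (h : N) (g₀ (ρ ((h : N)⁻¹) q)) := by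
    intro q
    simp [hgdef, LinearMap.sum_apply]
  have hgf : ∀ w, g (f₁ w) = w := by
    intro w
    rw [hgform]
    have : ∀ h : H, ρW (h : N) (g₀ (ρ ((h : N)⁻¹) (f₁ w))) = w := by
      intro h
      rw [h₁, hg₀f, hρWmul, mul_inv_cancel, map_one, Module.End.one_apply]
    simp only [this, Finset.sum_const, Finset.card_univ]
    rw [← Nat.cast_smul_eq_nsmul F, hcardH, smul_smul, inv_mul_cancel₀ hcH, one_smul]
  have hgY : ∀ q ∈ LinearMap.range (ν ^ (l₁ + 1)), g q = 0 := by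
    intro q hq
    rw [hgform]
    have : ∀ h : H, ρW (h : N) (g₀ (ρ ((h : N)⁻¹) q)) = 0 := by
      intro h
      obtain ⟨y, rfl⟩ := hq
      rw [hg₀Y _ (hNrange _ _ y), map_zero]
    simp [this]
  have hgH : ∀ h₀ ∈ H, ∀ q, g (ρ h₀ q) = ρW h₀ (g q) := by
    intro h₀ hh₀ q
    rw [hgform, hgform, map_smul, map_sum]
    congr 1
    symm
    refine Fintype.sum_equiv (Equiv.mulLeft (⟨h₀, hh₀⟩ : H)) _ _ ?_
    intro h
    simp only [Equiv.coe_mulLeft, Subgroup.coe_mul]
    rw [hρWmul, hρmul]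
    congr 4
    group
  -- the endomorphism `β₀ = f₁ ∘ g`
  set β₀ : V →ₗ[F] V := f₁ ∘ₗ g with hβ₀def
  have hβ₀ : ∀ (l : ℕ) (q : V), ν q = 0 → q ∈ LinearMap.range (ν ^ l) →
      ν (β₀ q) = 0 ∧ β₀ q ∈ LinearMap.range (ν ^ l) := by
    intro l q _ hql
    refine ⟨hf₁ν _, ?_⟩
    by_cases hl : l ≤ l₁
    · exact hrange_anti hl (hl₁spec _)
    · have hl' : l₁ + 1 ≤ l := by omega
      have : g q = 0 := hgY q (hrange_anti hl' hql)
      rw [hβ₀def, LinearMap.comp_apply, this, map_zero]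
      exact Submodule.zero_mem _
  -- Jordan basis and the extension
  obtain ⟨ι, _, e, v, he, hv, hli, hsp⟩ := Cfsg.Agent.Lib.Helper46.DefOneMJ.MJ ν ⟨p, hνp⟩
  let b : Module.Basis (Σ i, Fin (e i)) F V := Module.Basis.mk hli hsp
  have hb : ∀ y, b y = jfam e v ν y := fun y => by
    simp only [b, Module.Basis.mk_apply, jfam]
  obtain ⟨β', hβ'ν, hβ'0⟩ := exists_comm_extension b hb hv he β₀ hβ₀
  have hβ'P : ∀ u ∈ P, ∀ w, β' (ρ u w) = ρ u (β' w) := by
    intro u hu w
    obtain ⟨k, rfl⟩ := hgen u hu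
    exact comm_pow_of_comm ρ β' hβ'ν k w
  -- the averaged endomorphism
  set β : V →ₗ[F] V :=
    ((Nat.card H : ℕ) : F)⁻¹ • ∑ h : H, ρ (h : N) ∘ₗ β' ∘ₗ ρ ((h : N)⁻¹) with hβdef
  have hβform : ∀ w, β w =
      ((Nat.card H : ℕ) : F)⁻¹ • ∑ h : H, ρ (h : N) (β' (ρ ((h : N)⁻¹) w)) := by
    intro w
    simp [hβdef, LinearMap.sum_apply]
  have hβP : ∀ u ∈ P, ∀ w, ρ u (β w) = β (ρ u w) := by
    intro u hu w
    rw [hβform, hβform, map_smul, map_sum]
    congr 1
    refine Finset.sum_congr rfl fun h _ => ?_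
    have hu' : (h : N)⁻¹ * u * (h : N) ∈ P := by
      have := ‹P.Normal›.conj_mem u hu (h : N)⁻¹
      simpa using this
    have e1 : ρ ((h : N)⁻¹) (ρ u w) = ρ ((h : N)⁻¹ * u * (h : N)) (ρ ((h : N)⁻¹) w) := by
      rw [hρmul, hρmul]; congr 2; group
    rw [e1, hβ'P _ hu', hρmul, hρmul]
    congr 2; group
  have hβH : ∀ h₀ ∈ H, ∀ w, ρ h₀ (β w) = β (ρ h₀ w) := by
    intro h₀ hh₀ w
    rw [hβform, hβform, map_smul, map_sum]
    congr 1
    refine Fintype.sum_equiv (Equiv.mulLeft (⟨h₀, hh₀⟩ : H)) _ _ ?_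
    intro h
    simp only [Equiv.coe_mulLeft, Subgroup.coe_mul]
    rw [hρmul, hρmul]
    congr 3; group
  have hβN : ∀ n, ρ n ∘ₗ β = β ∘ₗ ρ n := by
    intro n
    obtain ⟨u, hu, h, hh, rfl⟩ := hdecomp n
    ext w
    simp only [LinearMap.comp_apply]
    rw [← hρmul, ← hρmul, hβH h hh, hβP u hu]
  -- `β` agrees with `β₀` on `ker ν`
  have hβker : ∀ q, ν q = 0 → β q = f₁ (g q) := by
    intro q hq
    rw [hβform]
    have : ∀ h : H, ρ (h : N) (β' (ρ ((h : N)⁻¹) q)) = f₁ (g q) := by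
      intro h
      rw [hβ'0 _ (hNker _ _ hq), hβ₀def, LinearMap.comp_apply, h₁,
        hgH _ (H.inv_mem h.2), hρWmul, mul_inv_cancel, map_one, Module.End.one_apply]
    simp only [this, Finset.sum_const, Finset.card_univ]
    rw [← Nat.cast_smul_eq_nsmul F, hcardH, smul_smul, inv_mul_cancel₀ hcH, one_smul]
  have hβf₁ : ∀ w, β (f₁ w) = f₁ w := by
    intro w
    rw [hβker _ (hf₁ν w), hgf]
  -- `g ∘ f₂` is an intertwiner, hence zero
  have hgf₂ : ∀ w, g (f₂ w) = 0 := by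
    have hφ : (g ∘ₗ f₂) = 0 := by
      apply hne
      intro n w
      obtain ⟨u, hu, h, hh, rfl⟩ := hdecomp n
      simp only [LinearMap.comp_apply]
      rw [← h₂, ← hρmul, hfix _ (hNker _ _ (hf₂ν w)) u hu, hgH h hh, ← hρWmul, hWP u hu,
        Module.End.one_apply]
    intro w
    exact LinearMap.congr_fun hφ w
  have hβf₂ : ∀ w, β (f₂ w) = 0 := by
    intro w
    rw [hβker _ (hf₂ν w), hgf₂, map_zero]
  refine ⟨β, hβN, ?_⟩
  -- `N`-traces map `ker ν` into `range (trOne ρ P)`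
  have hT : ∀ (γ : V →ₗ[F] V) (q : V), ν q = 0 →
      (∑ n : N, ρ n ∘ₗ γ ∘ₗ ρ n⁻¹) q ∈ LinearMap.range (trOne ρ P) := by
    intro γ q hq
    refine ⟨∑ h : H, ρ (h : N) (γ (ρ ((h : N)⁻¹) q)), ?_⟩
    rw [trOne_apply, LinearMap.sum_apply]
    rw [Finset.sum_subtype (Finset.univ.filter fun g : N => g ∈ P) (p := fun g => g ∈ P)
      (by intro g; simp)]
    let φ : ↥P × ↥H ≃ N := Equiv.ofBijective _ hPH
    rw [← Equiv.sum_comp φ, Fintype.sum_prod_type]
    refine Finset.sum_congr rfl fun u _ => ?_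
    rw [map_sum]
    refine Finset.sum_congr rfl fun h _ => ?_
    have hφ : φ (u, h) = (u : N) * (h : N) := rfl
    rw [hφ]
    simp only [LinearMap.comp_apply]
    have hu' : (u : N)⁻¹ ∈ P := P.inv_mem u.2
    have e1 : ρ ((u : N) * (h : N))⁻¹ q = ρ ((h : N)⁻¹) q := by
      rw [mul_inv_rev, ← hρmul, hfix q hq _ hu']
    rw [e1, hρmul]
  intro c₁ c₂ hγ
  obtain ⟨γ, hγ⟩ := hγ
  obtain ⟨w₁, hw₁⟩ := exists_ne (0 : W)
  obtain ⟨w₂, hw₂⟩ := exists_ne (0 : W')
  have hR₁ : f₁ ((c₁ + c₂) • w₁) ∈ LinearMap.range (trOne ρ P) := by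
    have := hT γ (f₁ w₁) (hf₁ν w₁)
    rw [← hγ] at this
    simpa [hβf₁, add_smul] using this
  have hR₂ : f₂ (c₂ • w₂) ∈ LinearMap.range (trOne ρ P) := by
    have := hT γ (f₂ w₂) (hf₂ν w₂)
    rw [← hγ] at this
    simpa [hβf₂] using this
  have hc₂ : c₂ = 0 := by
    have := hs₂ _ hR₂
    rcases smul_eq_zero.mp this with h | h
    · exact h
    · exact absurd h hw₂
  have hc₁₂ : c₁ + c₂ = 0 := by
    have := hs₁ _ hR₁
    rcases smul_eq_zero.mp this with h | h
    · exact h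
    · exact absurd h hw₁
  refine ⟨?_, hc₂⟩
  rw [hc₂, add_zero] at hc₁₂
  exact hc₁₂

end Cfsg.Agent.Lib.Helper80.DefOneGen
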