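import Cfsg.Agent.Lib.Helper80.BC.ModRed
import Cfsg.Agent.Lib.Helper80.CharOrth
import Cfsg.Agent.Lib.Helper77.Deflation
import Cfsg.Agent.Lib.Helper78.CharValues

/-!
# PROJECT BC (defect one), general blocks: MODULE (NRED)

Reduction modulo `M` of the irreducible characters of a finite group `N` having a normal subgroup
`Q` of index prime to `p` in their kernel: a family of pairwise non-isomorphic irreducible
`F[N]`-modules (`F = ResF M`), trivial on `Q`, on which the class functions with values in the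
local ring act by the reductions of the central characters.
-/

set_option autoImplicit false
set_option linter.unusedSectionVars false

namespace Cfsg.Agent.Lib.Helper80.BC

open Cfsg Cfsg.Agent.Lib.Helper16 Cfsg.Agent.Lib.Helper77.Modular
open scoped ComplexConjugate

universe u

variable (M : Ideal AlgInt) [hMp : M.IsPrime]

/-- the central-scalar property linking a modular matrix representation to a complex character -/
def CentralProp {H : Type*} [Group H] [Fintype H] (ψ : H → ℂ) {n : ℕ}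
    (τ : H →* Matrix (Fin n) (Fin n) (ResF M)) : Prop :=
  ∀ z : H → localSubring M, (∀ g h : H, z (h * g * h⁻¹) = z g) →
    ∃ ω : localSubring M, (ω : ℂ) * ψ 1 = ∑ g : H, (z g : ℂ) * ψ g ∧
      ∑ g : H, algebraMap (localSubring M) (ResF M) (z g) • τ g =
        algebraMap (localSubring M) (ResF M) ω • (1 : Matrix (Fin n) (Fin n) (ResF M))

variable {M} {p : ℕ}

/-- reductions of distinct irreducible characters of a `p'`-group admit no nonzero intertwiner -/
theorem intertwiner_eq_zero_of_centralProp (hM : IsPModular p M) {H : Type u} [Group H]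
    [Fintype H] (hp : ¬ p ∣ Fintype.card H) {ψ ψ' : H → ℂ} (hψ : IsIrrCharacter H ψ)
    (hψ' : IsIrrCharacter H ψ') (hne : ψ ≠ ψ') {n n' : ℕ}
    (τ : H →* Matrix (Fin n) (Fin n) (ResF M)) (τ' : H →* Matrix (Fin n') (Fin n') (ResF M))
    (hτ : CentralProp M ψ τ) (hτ' : CentralProp M ψ' τ')
    (Y : Matrix (Fin n) (Fin n') (ResF M)) (hY : ∀ g, τ g * Y = Y * τ' g) : Y = 0 := by
  classical
  have hprime : p.Prime := isPModular_prime hM
  have : Fact p.Prime := ⟨hprime⟩
  have : CharP (ResF M) p := resF_charP hM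
  have hψc : IsCharacter H ψ := Cfsg.Agent.Lib.Helper78.IsIrrCharacter.isCharacter hψ
  have hψ'c : IsCharacter H ψ' := Cfsg.Agent.Lib.Helper78.IsIrrCharacter.isCharacter hψ'
  -- the class function `conj ψ`
  have hmem : ∀ g : H, conj (ψ g) ∈ localSubring M := by
    intro g
    rw [Cfsg.Agent.Lib.Helper80.char_conj_eq_inv hψc g]
    exact memLocalRing_of_isIntegral hMp.ne_top
      (Cfsg.Agent.Lib.Helper78.IsCharacter.isIntegral hψc g⁻¹)
  set z : H → localSubring M := fun g => ⟨conj (ψ g), hmem g⟩ with hz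
  have hzcl : ∀ g h : H, z (h * g * h⁻¹) = z g := by
    intro g h
    apply Subtype.ext
    show conj (ψ (h * g * h⁻¹)) = conj (ψ g)
    rw [Cfsg.Agent.Lib.Helper78.IsCharacter.conj_apply hψc]
  obtain ⟨ω, hω1, hω2⟩ := hτ z hzcl
  obtain ⟨ω', hω'1, hω'2⟩ := hτ' z hzcl
  have hcard : (Nat.card H : ℂ) ≠ 0 := by
    exact_mod_cast (Nat.card_pos (α := H)).ne'
  -- `ω * ψ 1 = |H|`
  have h1 : (ω : ℂ) * ψ 1 = (Fintype.card H : ℂ) := by
    rw [hω1]
    have h2 := Cfsg.Agent.Lib.Helper80.classInner_irr_self hψ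
    rw [Cfsg.Agent.Lib.Helper80.classInner_def] at h2
    have h3 : ∑ g : H, ψ g * conj (ψ g) = (Nat.card H : ℂ) := by
      have := congrArg (fun t => (Nat.card H : ℂ) * t) h2
      simp only [mul_one] at this
      rw [← mul_assoc, mul_inv_cancel₀ hcard, one_mul] at this
      exact this
    rw [Nat.card_eq_fintype_card] at h3
    rw [← h3]
    refine Finset.sum_congr rfl fun g _ => ?_
    show conj (ψ g) * ψ g = ψ g * conj (ψ g)
    rw [mul_comm]
  -- `ω' = 0`
  have h4 : (ω' : ℂ) * ψ' 1 = 0 := by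
    rw [hω'1]
    have h2 := Cfsg.Agent.Lib.Helper80.classInner_irr_ne hψ' hψ (Ne.symm hne)
    rw [Cfsg.Agent.Lib.Helper80.classInner_def] at h2
    have h3 : ∑ g : H, ψ' g * conj (ψ g) = 0 := by
      rcases mul_eq_zero.mp h2 with h | h
      · exact absurd (inv_eq_zero.mp h) hcard
      · exact h
    rw [← h3]
    refine Finset.sum_congr rfl fun g _ => ?_
    show conj (ψ g) * ψ' g = ψ' g * conj (ψ g)
    rw [mul_comm]
  have hdeg' : ψ' 1 ≠ 0 := by
    rw [Cfsg.Agent.Lib.Helper80.char_one_eq_charDegree hψ'c]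
    exact_mod_cast (Cfsg.Agent.Lib.Helper80.charDegree_pos_of_isIrr hψ').ne'
  have hω'0 : ω' = 0 := by
    apply Subtype.ext
    rcases mul_eq_zero.mp h4 with h | h
    · exact h
    · exact absurd h hdeg'
  -- `red ω ≠ 0`
  have hredω : algebraMap (localSubring M) (ResF M) ω ≠ 0 := by
    intro h0
    have h5 : ω * ((charDegree ψ : ℕ) : localSubring M) = ((Fintype.card H : ℕ) : localSubring M) := by
      apply Subtype.ext
      rw [Subring.coe_mul, Subring.coe_natCast, Subring.coe_natCast,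
        ← Cfsg.Agent.Lib.Helper80.char_one_eq_charDegree hψc]
      exact h1
    have h6 := congrArg (algebraMap (localSubring M) (ResF M)) h5
    rw [map_mul, h0, zero_mul, map_natCast] at h6
    exact hp ((CharP.cast_eq_zero_iff (ResF M) p _).mp h6.symm)
  -- compare the two scalars through `Y`
  have h7 : (∑ g : H, algebraMap (localSubring M) (ResF M) (z g) • τ g) * Y =
      Y * ∑ g : H, algebraMap (localSubring M) (ResF M) (z g) • τ' g := by
    rw [Matrix.sum_mul, Matrix.mul_sum]
    refine Finset.sum_congr rfl fun g _ => ?_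
    rw [Matrix.smul_mul, Matrix.mul_smul, hY g]
  rw [hω2, hω'2, hω'0, map_zero, zero_smul, Matrix.mul_zero, Matrix.smul_mul, Matrix.one_mul] at h7
  rcases smul_eq_zero.mp h7 with h | h
  · exact absurd h hredω
  · exact h

section Pullback

/-- pulling back an irreducible representation along a surjective homomorphism -/
theorem isIrreducible_comp_of_surjective {F : Type*} [Field F] {A B : Type*} [Group A] [Group B]
    {V : Type*} [AddCommGroup V] [Module F V] (φ : A →* B) (hφ : Function.Surjective φ)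
    (ρ : Representation F B V) [hρ : ρ.IsIrreducible] :
    Representation.IsIrreducible (ρ.comp φ : Representation F A V) := by
  have hnt : Nontrivial (Subrepresentation (ρ.comp φ : Representation F A V)) := by
    refine ⟨⟨⊥, ⊤, ?_⟩⟩
    intro h
    have h1 : (⊥ : Subrepresentation (ρ.comp φ : Representation F A V)).toSubmodule =
        (⊤ : Subrepresentation (ρ.comp φ : Representation F A V)).toSubmodule := by rw [h]
    have h2 : (⊥ : Subrepresentation ρ) = ⊤ := by
      apply Subrepresentation.toSubmodule_injective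
      exact h1
    exact bot_ne_top h2
  refine @IsSimpleOrder.mk _ _ _ hnt ?_
  intro σ
  let σ' : Subrepresentation ρ :=
    { toSubmodule := σ.toSubmodule
      apply_mem_toSubmodule := by
        intro b v hv
        obtain ⟨a, rfl⟩ := hφ b
        exact σ.apply_mem_toSubmodule a hv }
  rcases eq_bot_or_eq_top σ' with h | h
  · left
    apply Subrepresentation.toSubmodule_injective
    have := congrArg Subrepresentation.toSubmodule h
    exact this
  · right
    apply Subrepresentation.toSubmodule_injective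
    have := congrArg Subrepresentation.toSubmodule h
    exact this

end Pullback

section Family

variable {N : Type u} [Group N] [Fintype N]

/-- the central property pulls back along a quotient map -/
theorem centralProp_comp_mk (Q : Subgroup N) [Q.Normal] [Fintype (N ⧸ Q)] {ψ : N → ℂ}
    {ψ' : N ⧸ Q → ℂ} (hψ' : ∀ g : N, ψ' (g : N ⧸ Q) = ψ g) {n : ℕ}
    (τ : N ⧸ Q →* Matrix (Fin n) (Fin n) (ResF M)) (hτ : CentralProp M ψ' τ) :
    CentralProp M ψ (τ.comp (QuotientGroup.mk' Q)) := by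
  classical
  intro z hz
  -- push the class function forward to the quotient
  set zbar : N ⧸ Q → localSubring M := fun h => ∑ g : N, if (g : N ⧸ Q) = h then z g else 0
    with hzbar
  have hzbar_cl : ∀ g h : N ⧸ Q, zbar (h * g * h⁻¹) = zbar g := by
    intro g h
    obtain ⟨h₀, rfl⟩ := QuotientGroup.mk_surjective h
    show (∑ x : N, if (x : N ⧸ Q) = (h₀ : N ⧸ Q) * g * (h₀ : N ⧸ Q)⁻¹ then z x else 0) =
      ∑ x : N, if (x : N ⧸ Q) = g then z x else 0
    refine (Fintype.sum_equiv (MulAut.conj h₀).toEquiv _ _ ?_).symm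
    intro x
    show (if (x : N ⧸ Q) = g then z x else 0) =
      if ((h₀ * x * h₀⁻¹ : N) : N ⧸ Q) = (h₀ : N ⧸ Q) * g * (h₀ : N ⧸ Q)⁻¹ then
        z (h₀ * x * h₀⁻¹) else 0
    rw [hz x h₀]
    have hiff : ((h₀ * x * h₀⁻¹ : N) : N ⧸ Q) = (h₀ : N ⧸ Q) * g * (h₀ : N ⧸ Q)⁻¹ ↔
        (x : N ⧸ Q) = g := by
      rw [QuotientGroup.mk_mul, QuotientGroup.mk_mul, QuotientGroup.mk_inv]
      constructor
      · intro h
        have h1 := mul_right_cancel h
        exact mul_left_cancel h1
      · intro h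
        rw [h]
    by_cases hx : (x : N ⧸ Q) = g
    · rw [if_pos hx, if_pos (hiff.mpr hx)]
    · rw [if_neg hx, if_neg (fun h => hx (hiff.mp h))]
  obtain ⟨ω, hω1, hω2⟩ := hτ zbar hzbar_cl
  refine ⟨ω, ?_, ?_⟩
  · have h1 : ψ' 1 = ψ 1 := by
      have := hψ' 1
      rw [QuotientGroup.mk_one] at this
      exact this
    rw [← h1, hω1]
    have h2 : ∀ h : N ⧸ Q, ((zbar h : localSubring M) : ℂ) * ψ' h =
        ∑ g : N, if (g : N ⧸ Q) = h then (z g : ℂ) * ψ g else 0 := by
      intro h
      rw [hzbar]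
      show (((∑ g : N, if (g : N ⧸ Q) = h then z g else 0 : localSubring M)) : ℂ) * ψ' h = _
      rw [← Subring.subtype_apply, map_sum, Finset.sum_mul]
      refine Finset.sum_congr rfl fun g _ => ?_
      by_cases hg : (g : N ⧸ Q) = h
      · rw [if_pos hg, if_pos hg, Subring.subtype_apply, ← hg, hψ']
      · rw [if_neg hg, if_neg hg, map_zero, zero_mul]
    rw [Finset.sum_congr rfl (fun h _ => h2 h), Finset.sum_comm]
    refine Finset.sum_congr rfl fun g _ => ?_
    rw [Finset.sum_ite_eq, if_pos (Finset.mem_univ _)]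
  · rw [← hω2]
    have h2 : ∀ h : N ⧸ Q, algebraMap (localSubring M) (ResF M) (zbar h) • τ h =
        ∑ g : N, if (g : N ⧸ Q) = h then
          algebraMap (localSubring M) (ResF M) (z g) • τ (g : N ⧸ Q) else 0 := by
      intro h
      rw [hzbar]
      show algebraMap (localSubring M) (ResF M)
        (∑ g : N, if (g : N ⧸ Q) = h then z g else 0) • τ h = _
      rw [map_sum, Finset.sum_smul]
      refine Finset.sum_congr rfl fun g _ => ?_
      by_cases hg : (g : N ⧸ Q) = h
      · rw [if_pos hg, if_pos hg, hg]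
      · rw [if_neg hg, if_neg hg, map_zero, zero_smul]
    rw [Finset.sum_congr rfl (fun h _ => h2 h), Finset.sum_comm]
    refine Finset.sum_congr rfl fun g _ => ?_
    rw [Finset.sum_ite_eq, if_pos (Finset.mem_univ _)]
    rfl

end Family

section Main

variable {N : Type u} [Group N] [Fintype N]

/-- **MODULE (NRED)**, matrix form. -/
theorem exists_modular_family (hM : IsPModular p M) (Q : Subgroup N) [Q.Normal]
    (hidx : ¬ p ∣ Q.index) :
    ∃ (n : {ψ : IrrCharacter N // ∀ u ∈ Q, (ψ : N → ℂ) u = (ψ : N → ℂ) 1} → ℕ)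
      (τ : ∀ ψ, N →* Matrix (Fin (n ψ)) (Fin (n ψ)) (ResF M)),
      (∀ ψ, 0 < n ψ) ∧
      (∀ ψ, (matRep (τ ψ)).IsIrreducible) ∧
      (∀ ψ, ∀ u ∈ Q, τ ψ u = 1) ∧
      (∀ ψ ψ', ψ ≠ ψ' → ∀ Y : Matrix (Fin (n ψ)) (Fin (n ψ')) (ResF M),
        (∀ g, τ ψ g * Y = Y * τ ψ' g) → Y = 0) ∧
      (∀ ψ : {ψ : IrrCharacter N // ∀ u ∈ Q, (ψ : N → ℂ) u = (ψ : N → ℂ) 1},
        CentralProp M (ψ.1.1) (τ ψ)) := by
  classical
  have : Fintype (N ⧸ Q) := Fintype.ofFinite _
  have hp : ¬ p ∣ Fintype.card (N ⧸ Q) := by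
    rw [← Nat.card_eq_fintype_card, ← Subgroup.index_eq_card]
    exact hidx
  have hex : ∀ ψ : {ψ : IrrCharacter N // ∀ u ∈ Q, (ψ : N → ℂ) u = (ψ : N → ℂ) 1},
      ∃ (ψ' : N ⧸ Q → ℂ) (n : ℕ) (τ' : N ⧸ Q →* Matrix (Fin n) (Fin n) (ResF M)),
        IsIrrCharacter (N ⧸ Q) ψ' ∧ (∀ g : N, ψ' (g : N ⧸ Q) = ((ψ : IrrCharacter N) : N → ℂ) g) ∧
        0 < n ∧ (matRep τ').IsIrreducible ∧ CentralProp M ψ' τ' := by
    intro ψ
    obtain ⟨ψ', hψ', hψ'eq⟩ := Cfsg.Agent.Lib.Helper77.isIrrCharacter_deflate Q ψ.1.2 ψ.2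
    obtain ⟨n, τ', hn, _, hirr, hcen⟩ := exists_modular_rep hM hp hψ'
    exact ⟨ψ', n, τ', hψ', hψ'eq, hn, hirr, hcen⟩
  choose ψ' n τ' h1 h2 h3 h4 h5 using hex
  refine ⟨n, fun ψ => (τ' ψ).comp (QuotientGroup.mk' Q), h3, ?_, ?_, ?_, ?_⟩
  · intro ψ
    have := h4 ψ
    exact isIrreducible_comp_of_surjective (QuotientGroup.mk' Q) (QuotientGroup.mk'_surjective Q)
      (matRep (τ' ψ))
  · intro ψ u hu
    show τ' ψ ((u : N) : N ⧸ Q) = 1
    rw [(QuotientGroup.eq_one_iff u).mpr hu, map_one]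
  · intro ψ₁ ψ₂ hne Y hY
    have hne' : ψ' ψ₁ ≠ ψ' ψ₂ := by
      intro h
      apply hne
      apply Subtype.ext
      apply Subtype.ext
      funext g
      rw [← h2 ψ₁ g, ← h2 ψ₂ g, h]
    apply intertwiner_eq_zero_of_centralProp hM hp (h1 ψ₁) (h1 ψ₂) hne' (τ' ψ₁) (τ' ψ₂)
      (h5 ψ₁) (h5 ψ₂) Y
    intro h
    obtain ⟨g, rfl⟩ := QuotientGroup.mk_surjective h
    exact hY g
  · intro ψ
    exact centralProp_comp_mk Q (h2 ψ) (τ' ψ) (h5 ψ)

end Main

section Convert

variable {F : Type*} [Field F] {G : Type*} [Group G]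

theorem matRep_eq_toLin' {n : ℕ} (τ : G →* Matrix (Fin n) (Fin n) F) (g : G) :
    matRep τ g = Matrix.toLin' (τ g) := rfl

theorem matRep_eq_one {n : ℕ} (τ : G →* Matrix (Fin n) (Fin n) F) {g : G} (h : τ g = 1) :
    matRep τ g = 1 := by
  rw [matRep_eq_toLin', h, Matrix.toLin'_one]
  rfl

/-- matrix intertwiners versus linear intertwiners -/
theorem linearMap_eq_zero_of_matrix {n n' : ℕ} (τ : G →* Matrix (Fin n) (Fin n) F)
    (τ' : G →* Matrix (Fin n') (Fin n') F)
    (h : ∀ Y : Matrix (Fin n') (Fin n) F, (∀ g, τ' g * Y = Y * τ g) → Y = 0)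
    (f : (Fin n → F) →ₗ[F] (Fin n' → F))
    (hf : ∀ g, f ∘ₗ matRep τ g = matRep τ' g ∘ₗ f) : f = 0 := by
  have h1 : LinearMap.toMatrix' f = 0 := by
    apply h
    intro g
    have h2 := congrArg LinearMap.toMatrix' (hf g)
    rw [LinearMap.toMatrix'_comp, LinearMap.toMatrix'_comp, matRep_eq_toLin', matRep_eq_toLin',
      LinearMap.toMatrix'_toLin', LinearMap.toMatrix'_toLin'] at h2
    exact h2.symm
  have h3 := congrArg Matrix.toLin' h1
  rw [Matrix.toLin'_toMatrix'] at h3
  rw [h3]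
  exact map_zero _

variable [Fintype G]

/-- the action of a group algebra element in a matrix representation -/
theorem matRep_asAlgebraHom {n : ℕ} (τ : G →* Matrix (Fin n) (Fin n) F)
    (a : MonoidAlgebra F G) :
    (matRep τ).asAlgebraHom a = Matrix.toLin' (∑ g : G, a.coeff g • τ g) := by
  rw [Representation.asAlgebraHom_def, MonoidAlgebra.lift_apply, Finsupp.sum_fintype]
  · rw [map_sum]
    refine Finset.sum_congr rfl fun g _ => ?_
    rw [map_smul]
    rfl
  · intro g
    simp

end Convert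

end Cfsg.Agent.Lib.Helper80.BC
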