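import Cfsg.Agent.Lib.Helper80.CharOrth
import Cfsg.Agent.Lib.Helper77.Deflation
import Cfsg.Agent.Lib.Helper78.CharValues
import Cfsg.Agent.Lib.Helper16.DefectClass
import Cfsg.Agent.Lib.Helper59.DefOneCS

/-!
# PROJECT BC (defect one), general blocks: MODULE (UNIQ) of #2557

In a finite group `K` with a central subgroup `Q` of order `p` and index prime to `p` (e.g.
`K = C_G(P)`, `Q = P` a Sylow `p`-subgroup of order `p`), two irreducible characters with `Q` in
their kernels that lie in the same `p`-block are equal.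
-/

set_option autoImplicit false
set_option linter.unusedSectionVars false

namespace Cfsg.Agent.Lib.Helper80.DefOneGen

open Cfsg Cfsg.Agent.Lib.Helper16 MonoidAlgebra
open scoped ComplexConjugate

universe u

section Count

variable {K : Type*} [Group K] [Fintype K] {p : ℕ} [Fact p.Prime]

/-- summing a `Q`-invariant function over `K` versus over the kernel of a retraction onto `Q` -/
theorem sum_eq_card_mul_sum_ker (Q : Subgroup K) (π : K →* Q) (hπ : ∀ q : Q, π (q : K) = q)
    (F : K → ℂ) (hF : ∀ (q : Q) (c : K), F ((q : K) * c) = F c) [DecidableEq Q] [Fintype Q] :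
    ∑ c : K, F c = (Fintype.card Q : ℂ) * ∑ c ∈ Finset.univ.filter (fun c : K => π c = 1), F c := by
  classical
  rw [← Finset.sum_fiberwise (Finset.univ : Finset K) (fun c => π c) F]
  have h1 : ∀ u : Q, ∑ c ∈ Finset.univ.filter (fun c : K => π c = u), F c =
      ∑ c ∈ Finset.univ.filter (fun c : K => π c = 1), F c := by
    intro u
    symm
    refine Finset.sum_equiv (Equiv.mulLeft (u : K)) ?_ ?_
    · intro c
      simp only [Finset.mem_filter, Finset.mem_univ, true_and, Equiv.coe_mulLeft]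
      rw [map_mul, hπ]
      constructor
      · intro h
        rw [h, mul_one]
      · intro h
        exact mul_left_cancel (h.trans (mul_one u).symm)
    · intro c _
      exact (hF u c).symm
  rw [Finset.sum_congr rfl (fun u _ => h1 u), Finset.sum_const, Finset.card_univ, nsmul_eq_mul]

end Count

variable {M : Ideal AlgInt} [hMp : M.IsPrime] {p : ℕ} [Fact p.Prime]

/-- generic form of (UNIQ) -/
theorem eq_of_sameBlock_of_central_ker (hM : IsPModular p M) {K : Type u} [Group K] [Fintype K]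
    (Q : Subgroup K) (hQc : Q ≤ Subgroup.center K) (hQ : Nat.card Q = p) (hidx : ¬ p ∣ Q.index)
    (θ ψ : IrrCharacter K) (hθQ : ∀ q ∈ Q, (θ : K → ℂ) q = (θ : K → ℂ) 1)
    (hψQ : ∀ q ∈ Q, (ψ : K → ℂ) q = (ψ : K → ℂ) 1)
    (h : SameBlock M (θ : K → ℂ) (ψ : K → ℂ)) : ψ = θ := by
  classical
  by_contra hne
  have hne' : (ψ : K → ℂ) ≠ (θ : K → ℂ) := fun h' => hne (Subtype.ext h')
  obtain ⟨π, hπ1, _, _⟩ := Cfsg.Agent.Lib.Helper59.DefOneCS.CS Q hQc hQ hidx
  have hθc : IsCharacter K (θ : K → ℂ) := Cfsg.Agent.Lib.Helper78.IsIrrCharacter.isCharacter θ.2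
  have hψc : IsCharacter K (ψ : K → ℂ) := Cfsg.Agent.Lib.Helper78.IsIrrCharacter.isCharacter ψ.2
  -- invariance under `Q`
  obtain ⟨Kθ, -, hKθ, -, hKθmul⟩ := Cfsg.Agent.Lib.Helper77.exists_kernel hθc
  obtain ⟨Kψ, -, hKψ, -, hKψmul⟩ := Cfsg.Agent.Lib.Helper77.exists_kernel hψc
  have hθinv : ∀ (q : Q) (c : K), (θ : K → ℂ) ((q : K) * c) = (θ : K → ℂ) c :=
    fun q c => hKθmul c q ((hKθ q).mpr (hθQ q q.2))
  have hψinv : ∀ (q : Q) (c : K), (ψ : K → ℂ) ((q : K) * c) = (ψ : K → ℂ) c :=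
    fun q c => hKψmul c q ((hKψ q).mpr (hψQ q q.2))
  -- the central element `z`
  have hπconj : ∀ g h : K, π (h * g * h⁻¹) = π g := by
    intro g h
    have : IsCyclic Q := isCyclic_of_prime_card hQ
    rw [map_mul, map_mul, map_inv]
    have hc : π h * π g = π g * π h := IsCyclic.commGroup.mul_comm _ _
    rw [hc, mul_inv_cancel_right]
  set f : K → ℂ := fun c => if π c = 1 then conj ((θ : K → ℂ) c) else 0 with hf
  have hfcl : ∀ g h : K, f (h * g * h⁻¹) = f g := by
    intro g h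
    rw [hf]
    show (if π (h * g * h⁻¹) = 1 then conj ((θ : K → ℂ) (h * g * h⁻¹)) else 0) =
      if π g = 1 then conj ((θ : K → ℂ) g) else 0
    rw [hπconj, Cfsg.Agent.Lib.Helper78.IsCharacter.conj_apply hθc]
  set z₀ : MonoidAlgebra ℂ K := MonoidAlgebra.ofCoeff (Finsupp.equivFunOnFinite.symm f) with hz₀
  have hz₀coeff : ∀ g, z₀.coeff g = f g := fun g => rfl
  have hz₀c : z₀ ∈ Subalgebra.center ℂ (MonoidAlgebra ℂ K) := by
    apply mem_center_of_coeff_conj
    intro g h
    rw [hz₀coeff, hz₀coeff, hfcl]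
  set z : Subalgebra.center ℂ (MonoidAlgebra ℂ K) := ⟨z₀, hz₀c⟩ with hz
  have hzO : z ∈ centerOrder K M := by
    intro g
    show MemLocalRing M (z₀.coeff g)
    rw [hz₀coeff, hf]
    show MemLocalRing M (if π g = 1 then conj ((θ : K → ℂ) g) else 0)
    split_ifs
    · rw [Cfsg.Agent.Lib.Helper80.char_conj_eq_inv hθc g]
      exact memLocalRing_of_isIntegral hMp.ne_top
        (Cfsg.Agent.Lib.Helper78.IsCharacter.isIntegral hθc g⁻¹)
    · exact memLocalRing_zero hMp.ne_top
  have hcong := sameBlock_omegaHom_congr h hzO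
  rw [omegaHom_apply, omegaHom_apply] at hcong
  -- evaluate the two values
  have : Fintype Q := Fintype.ofFinite _
  have hcardQ : (Fintype.card Q : ℂ) = (p : ℂ) := by
    rw [← Nat.card_eq_fintype_card, hQ]
  have hp0 : (p : ℂ) ≠ 0 := by
    exact_mod_cast (Fact.out : p.Prime).ne_zero
  have hsum : ∀ χ : K → ℂ, (∀ (q : Q) (c : K), χ ((q : K) * c) = χ c) →
      ∑ g : K, z₀.coeff g * χ g = (p : ℂ)⁻¹ * ∑ g : K, conj ((θ : K → ℂ) g) * χ g := by
    intro χ hχ
    have h1 := sum_eq_card_mul_sum_ker Q π hπ1 (fun c => conj ((θ : K → ℂ) c) * χ c) (by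
      intro q c
      show conj ((θ : K → ℂ) ((q : K) * c)) * χ ((q : K) * c) = conj ((θ : K → ℂ) c) * χ c
      rw [hθinv, hχ])
    rw [h1, hcardQ, ← mul_assoc, inv_mul_cancel₀ hp0, one_mul, Finset.sum_filter]
    refine Finset.sum_congr rfl fun g _ => ?_
    rw [hz₀coeff, hf]
    show (if π g = 1 then conj ((θ : K → ℂ) g) else 0) * χ g = _
    split_ifs
    · rfl
    · rw [zero_mul]
  have hcard : (Nat.card K : ℂ) ≠ 0 := by
    exact_mod_cast (Nat.card_pos (α := K)).ne'
  have hθθ : ∑ g : K, conj ((θ : K → ℂ) g) * (θ : K → ℂ) g = (Nat.card K : ℂ) := by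
    have h2 := Cfsg.Agent.Lib.Helper80.classInner_irr_self θ.2
    rw [Cfsg.Agent.Lib.Helper80.classInner_def] at h2
    have := congrArg (fun t => (Nat.card K : ℂ) * t) h2
    simp only [mul_one] at this
    rw [← mul_assoc, mul_inv_cancel₀ hcard, one_mul] at this
    rw [← this]
    refine Finset.sum_congr rfl fun g _ => ?_
    rw [mul_comm]
  have hθψ : ∑ g : K, conj ((θ : K → ℂ) g) * (ψ : K → ℂ) g = 0 := by
    have h2 := Cfsg.Agent.Lib.Helper80.classInner_irr_ne ψ.2 θ.2 hne'
    rw [Cfsg.Agent.Lib.Helper80.classInner_def] at h2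
    rcases mul_eq_zero.mp h2 with h3 | h3
    · exact absurd (inv_eq_zero.mp h3) hcard
    · rw [← h3]
      refine Finset.sum_congr rfl fun g _ => ?_
      rw [mul_comm]
  unfold omega at hcong
  have e1 : ∑ g : K, (z : MonoidAlgebra ℂ K).coeff g * (θ : K → ℂ) g =
      (p : ℂ)⁻¹ * (Nat.card K : ℂ) := by
    rw [← hθθ]
    exact hsum _ hθinv
  have e2 : ∑ g : K, (z : MonoidAlgebra ℂ K).coeff g * (ψ : K → ℂ) g = 0 := by
    have := hsum _ hψinv
    rw [hθψ, mul_zero] at this
    exact this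
  rw [e1, e2, zero_div, sub_zero] at hcong
  -- `|K| / p = Q.index` is prime to `p`
  have hidxeq : (Nat.card K : ℂ) = (p : ℂ) * (Q.index : ℂ) := by
    have := Subgroup.card_mul_index Q
    rw [hQ] at this
    exact_mod_cast this.symm
  rw [hidxeq, ← mul_assoc, inv_mul_cancel₀ hp0, one_mul] at hcong
  have hdeg : MemLocalRing M ((θ : K → ℂ) 1) := by
    rw [Cfsg.Agent.Lib.Helper80.char_one_eq_charDegree hθc]
    exact memLocalRing_natCast hMp.ne_top _
  have hdeg0 : (θ : K → ℂ) 1 ≠ 0 := by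
    rw [Cfsg.Agent.Lib.Helper80.char_one_eq_charDegree hθc]
    exact_mod_cast (Cfsg.Agent.Lib.Helper80.charDegree_pos_of_isIrr θ.2).ne'
  have hfinal := memLocalIdeal_mul_right hcong hdeg
  rw [div_mul_cancel₀ _ hdeg0] at hfinal
  exact hidx ((memLocalIdeal_natCast_iff hM _).mp hfinal)

/-- **MODULE (UNIQ)**, exact form of #2557. -/
theorem UNIQ {G : Type u} [Group G] [Fintype G] (p : ℕ) [Fact p.Prime] (M : Ideal AlgInt)
    (hM : IsPModular p M) [hMp : M.IsPrime] (P : Sylow p G) (hP : Nat.card P = p)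
    (θ ψ : IrrCharacter ↥(Subgroup.centralizer ((P : Subgroup G) : Set G)))
    (hθP : ∀ x : ↥(Subgroup.centralizer ((P : Subgroup G) : Set G)),
      (x : G) ∈ (P : Subgroup G) →
        (θ : ↥(Subgroup.centralizer ((P : Subgroup G) : Set G)) → ℂ) x =
        (θ : ↥(Subgroup.centralizer ((P : Subgroup G) : Set G)) → ℂ) 1)
    (hψP : ∀ x : ↥(Subgroup.centralizer ((P : Subgroup G) : Set G)),
      (x : G) ∈ (P : Subgroup G) →
        (ψ : ↥(Subgroup.centralizer ((P : Subgroup G) : Set G)) → ℂ) x =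
        (ψ : ↥(Subgroup.centralizer ((P : Subgroup G) : Set G)) → ℂ) 1)
    (h : ψ ∈ blockOf M (θ : ↥(Subgroup.centralizer ((P : Subgroup G) : Set G)) → ℂ)) :
    ψ = θ := by
  classical
  have : Fintype ↥(Subgroup.centralizer ((P : Subgroup G) : Set G)) := Fintype.ofFinite _
  have hPC : (P : Subgroup G) ≤ Subgroup.centralizer ((P : Subgroup G) : Set G) := by
    have hcyc : IsCyclic (P : Subgroup G) := isCyclic_of_prime_card hP
    intro u hu
    rw [Subgroup.mem_centralizer_iff]
    intro v hv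
    have := IsCyclic.commGroup.mul_comm (⟨v, hv⟩ : (P : Subgroup G)) ⟨u, hu⟩
    exact congrArg Subtype.val this
  refine eq_of_sameBlock_of_central_ker hM
    ((P : Subgroup G).subgroupOf (Subgroup.centralizer ((P : Subgroup G) : Set G))) ?_ ?_ ?_ θ ψ
    (fun q hq => hθP q (Subgroup.mem_subgroupOf.mp hq))
    (fun q hq => hψP q (Subgroup.mem_subgroupOf.mp hq)) h
  · intro q hq
    rw [Subgroup.mem_center_iff]
    intro c
    apply Subtype.ext
    have h1 := (Subgroup.mem_centralizer_iff.mp c.2) (q : G) (Subgroup.mem_subgroupOf.mp hq)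
    show (c : G) * (q : G) = (q : G) * (c : G)
    exact h1.symm
  · rw [Nat.card_congr (Subgroup.subgroupOfEquivOfLe hPC).toEquiv]
    exact hP
  · intro hdvd
    have h1 : ((P : Subgroup G).subgroupOf
        (Subgroup.centralizer ((P : Subgroup G) : Set G))).index =
        (P : Subgroup G).relIndex (Subgroup.centralizer ((P : Subgroup G) : Set G)) := rfl
    rw [h1] at hdvd
    exact P.not_dvd_index (hdvd.trans (Subgroup.relIndex_dvd_index_of_le hPC))

end Cfsg.Agent.Lib.Helper80.DefOneGen
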