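import Mathlib.GroupTheory.SchurZassenhaus
import Mathlib.GroupTheory.SpecificGroups.Cyclic
import Mathlib.Tactic
import Cfsg.Prelude.Def_Solvable

/-!
# A group of order `p * d`, `d < p`, with a self-centralizing normal subgroup of order `p`
is a Frobenius group with kernel of order `p` (helper80)
-/

set_option autoImplicit false

namespace Cfsg.Agent.Lib.Helper80

open Cfsg

universe u

section frobPrime

variable {G : Type u} [Group G]

/-- In a subgroup of prime order, an element commuting with a nonidentity element commutes with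
every element. -/
theorem commute_of_commute_ne_one {p : ℕ} (hp : p.Prime) (P : Subgroup G) (hP : Nat.card P = p)
    {u : G} (huP : u ∈ P) (hu1 : u ≠ 1) {x : G} (hxu : Commute x u) :
    ∀ y ∈ P, x * y = y * x := by
  intro y hy
  have : Fact p.Prime := ⟨hp⟩
  have hne : (⟨u, huP⟩ : P) ≠ 1 := by
    intro h
    exact hu1 (congrArg Subtype.val h)
  have hmem : (⟨y, hy⟩ : P) ∈ Subgroup.zpowers (⟨u, huP⟩ : P) := mem_zpowers_of_prime_card hP hne
  obtain ⟨k, hk⟩ := Subgroup.mem_zpowers_iff.1 hmem
  have hk' : u ^ k = y := by
    have := congrArg Subtype.val hk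
    simpa using this
  rw [← hk']
  exact (hxu.zpow_right k).eq

variable [Finite G]

theorem frobenius_of_selfcentralizing {p d : ℕ} (hp : p.Prime) (hd : 1 < d) (hdp : d < p)
    (hcard : Nat.card G = p * d) (P : Subgroup G) [hPn : P.Normal] (hP : Nat.card P = p)
    (hC : ∀ c : G, (∀ y ∈ P, c * y = y * c) → c ∈ P) :
    ∃ H : Subgroup G, IsFrobeniusComplement H ∧ Nat.card ↥(frobeniusKernel H) = p := by
  classical
  have hidx : P.index = d := by
    have h1 := P.card_mul_index
    rw [hP, hcard] at h1
    exact Nat.eq_of_mul_eq_mul_left hp.pos h1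
  have hcop : Nat.Coprime (Nat.card P) P.index := by
    rw [hP, hidx]
    exact Nat.coprime_of_lt_prime (by omega) hdp hp
  obtain ⟨H, hH⟩ := Subgroup.exists_right_complement'_of_coprime hcop
  have hHcard : Nat.card H = d := by
    have h1 := hH.card_mul_card
    rw [hP, hcard] at h1
    exact Nat.eq_of_mul_eq_mul_left hp.pos h1
  have hdisj : ∀ z : G, z ∈ P → z ∈ H → z = 1 := by
    intro z hzP hzH
    have := hH.disjoint
    rw [Subgroup.disjoint_def] at this
    exact this hzP hzH
  -- every element factors as u * h
  have hfact : ∀ g : G, ∃ u ∈ P, ∃ h ∈ H, g = u * h := by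
    intro g
    obtain ⟨⟨a, b⟩, hab, -⟩ := (Subgroup.isComplement'_def.1 hH).existsUnique g
    exact ⟨a.1, a.2, b.1, b.2, hab.symm⟩
  -- an element of H commuting with a nonidentity element of P is trivial
  have hfix : ∀ h ∈ H, ∀ u ∈ P, u ≠ 1 → Commute h u → h = 1 := by
    intro h hhH u huP hu1 hcomm
    have h1 := commute_of_commute_ne_one hp P hP huP hu1 hcomm
    exact hdisj h (hC h h1) hhH
  refine ⟨H, ⟨?_, ?_, ?_⟩, ?_⟩
  · -- H ≠ ⊥
    intro h
    rw [h, Subgroup.card_bot] at hHcard
    omega
  · -- H ≠ ⊤
    intro h
    rw [h, Subgroup.card_top, hcard] at hHcard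
    have : 1 < p := hp.one_lt
    nlinarith
  · -- Frobenius condition
    intro g hg
    rw [Subgroup.eq_bot_iff_forall]
    intro x hx
    rw [Subgroup.mem_inf] at hx
    obtain ⟨hxH, hxg⟩ := hx
    rw [Subgroup.mem_pointwise_smul_iff_inv_smul_mem, ← map_inv, MulAut.smul_def,
      MulAut.conj_apply, inv_inv] at hxg
    -- hxg : g⁻¹ * x * g ∈ H
    obtain ⟨u, huP, h, hhH, rfl⟩ := hfact g
    have hu1 : u ≠ 1 := by
      rintro rfl
      apply hg
      simpa using hhH
    -- h'' = h * (g⁻¹ x g) * h⁻¹ = u⁻¹ x u
    have h2 : u⁻¹ * x * u ∈ H := by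
      have := H.mul_mem (H.mul_mem hhH hxg) (H.inv_mem hhH)
      convert this using 1
      group
    -- x * (u⁻¹ x u)⁻¹ ∈ P ⊓ H
    have h3 : x * (u⁻¹ * x * u)⁻¹ ∈ H := H.mul_mem hxH (H.inv_mem h2)
    have h4 : x * (u⁻¹ * x * u)⁻¹ ∈ P := by
      have h5 : x * u⁻¹ * x⁻¹ ∈ P := hPn.conj_mem u⁻¹ (P.inv_mem huP) x
      have := P.mul_mem h5 huP
      convert this using 1
      group
    have h6 := hdisj _ h4 h3
    have hcomm : Commute x u := by
      have h7 : x = u⁻¹ * x * u := by
        have := mul_inv_eq_one.1 h6
        exact this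
      show x * u = u * x
      calc x * u = u * (u⁻¹ * x * u) := by group
        _ = u * x := by rw [← h7]
    exact hfix x hxH u huP hu1 hcomm
  · -- the kernel is P
    have hker : frobeniusKernel H = (P : Set G) := by
      ext x
      constructor
      · rintro (rfl | hx)
        · exact P.one_mem
        · by_contra hxP
          obtain ⟨u, huP, h, hhH, rfl⟩ := hfact x
          have hh1 : h ≠ 1 := by
            rintro rfl
            apply hxP
            simpa using huP
          -- the map v ↦ v h v⁻¹ h⁻¹ on P is injective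
          let f : P → P := fun v => ⟨(v : G) * (h * (v : G)⁻¹ * h⁻¹),
            P.mul_mem v.2 (hPn.conj_mem _ (P.inv_mem v.2) h)⟩
          have hinj : Function.Injective f := by
            intro v w hvw
            have h1 : (v : G) * (h * (v : G)⁻¹ * h⁻¹) = (w : G) * (h * (w : G)⁻¹ * h⁻¹) :=
              congrArg Subtype.val hvw
            have hcomm : Commute h ((w : G)⁻¹ * (v : G)) := by
              show h * ((w : G)⁻¹ * (v : G)) = (w : G)⁻¹ * (v : G) * h
              have h2 : (v : G) * h * (v : G)⁻¹ = (w : G) * h * (w : G)⁻¹ := by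
                have := congrArg (fun t => t * h) h1
                simpa [mul_assoc] using this
              calc h * ((w : G)⁻¹ * (v : G))
                  = (w : G)⁻¹ * ((w : G) * h * (w : G)⁻¹) * (v : G) := by group
                _ = (w : G)⁻¹ * ((v : G) * h * (v : G)⁻¹) * (v : G) := by rw [h2]
                _ = (w : G)⁻¹ * (v : G) * h := by group
            by_contra hne
            have hz1 : (w : G)⁻¹ * (v : G) ≠ 1 := by
              intro h0
              apply hne
              apply Subtype.ext
              have := inv_mul_eq_one.1 h0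
              exact this.symm
            exact hh1 (hfix h hhH _ (P.mul_mem (P.inv_mem w.2) v.2) hz1 hcomm)
          have hsurj : Function.Surjective f := Finite.injective_iff_surjective.1 hinj
          obtain ⟨v, hv⟩ := hsurj ⟨u, huP⟩
          have hv' : (v : G) * (h * (v : G)⁻¹ * h⁻¹) = u := congrArg Subtype.val hv
          apply hx (v : G)
          rw [Subgroup.mem_pointwise_smul_iff_inv_smul_mem, ← map_inv, MulAut.smul_def,
            MulAut.conj_apply, inv_inv]
          rw [← hv']
          convert hhH using 1
          group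
      · intro hxP
        by_cases hx1 : x = 1
        · exact Or.inl hx1
        · right
          intro g hxg
          rw [Subgroup.mem_pointwise_smul_iff_inv_smul_mem, ← map_inv, MulAut.smul_def,
            MulAut.conj_apply, inv_inv] at hxg
          have h1 : g⁻¹ * x * g ∈ P := by
            have := hPn.conj_mem x hxP g⁻¹
            simpa using this
          have h2 := hdisj _ h1 hxg
          apply hx1
          have : x = g * (g⁻¹ * x * g) * g⁻¹ := by group
          rw [this, h2]; simp
    rw [hker]
    exact hP

end frobPrime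

end Cfsg.Agent.Lib.Helper80
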