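/-
helper80: project IP26 (helper58, S4463), module IP26-[MAIN] (hedge), `_of` form.

Isaacs 12.26 by strong induction on `b = b(G)`, with the statements of the modules [MONO], [SOLV], [FIN]
(for all groups of the universe) as hypotheses.
-/
import Mathlib
import Cfsg.Agent.Lib.Helper58.IP26.Defs
import Cfsg.Agent.Lib.Helper80.ItoMichler

set_option autoImplicit false

namespace Cfsg.Agent.Lib.Helper80.IP26Main

open Cfsg Cfsg.Agent.Lib.Helper58.IP26
open scoped commutatorElement

universe u

/-- the largest irreducible character degree of a finite group exists, as soon as the degrees are bounded -/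
theorem exists_isMaxDeg {H : Type u} [Group H] [Finite H] (b : ℕ)
    (hle : ∀ ψ : IrrCharacter H, charDegree (ψ : H → ℂ) ≤ b) :
    ∃ b' : ℕ, IsMaxDeg H b' ∧ b' ≤ b := by
  classical
  let _ : Fintype H := Fintype.ofFinite H
  set S : Set ℕ := {d : ℕ | ∃ χ : IrrCharacter H, charDegree (χ : H → ℂ) = d} with hS
  have hne : S.Nonempty :=
    ⟨_, ⟨⟨_, Helper78.isIrrCharacter_one (G := H)⟩, rfl⟩⟩
  have hbdd : BddAbove S := ⟨b, by rintro d ⟨χ, rfl⟩; exact hle χ⟩
  refine ⟨sSup S, ⟨Nat.sSup_mem hne hbdd, fun x hx => le_csSup hbdd hx⟩, ?_⟩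
  obtain ⟨χ, hχ⟩ := Nat.sSup_mem hne hbdd
  rw [← hχ]
  exact hle χ

/-- an abelian subgroup of a subgroup, pushed to the group -/
theorem hasAbelian_of_subgroup {G : Type u} [Group G] [Finite G] {b b' : ℕ} (hb'b : b' < b)
    (H : Subgroup G) (hH : H.index ≤ b ^ 2) (hA : HasAbelian H b') : HasAbelian G b := by
  obtain ⟨A, hAab, hAidx⟩ := hA
  refine ⟨A.map H.subtype, ?_, ?_⟩
  · rintro x ⟨a, ha, rfl⟩ y ⟨c, hc, rfl⟩
    have := hAab a ha c hc
    rw [← map_mul, ← map_mul, this]
  · have h1 : (A.map H.subtype).index = A.index * H.index := by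
      rw [Subgroup.index_map_subtype]
    rw [h1]
    -- (b'!)² · b² ≤ (b!)²
    have h2 : Nat.factorial b' * b ≤ Nat.factorial b := by
      obtain ⟨k, rfl⟩ : ∃ k, b = k + 1 := ⟨b - 1, by omega⟩
      rw [Nat.factorial_succ, mul_comm]
      exact Nat.mul_le_mul_left _ (Nat.factorial_le (by omega))
    calc A.index * H.index ≤ Nat.factorial b' ^ 2 * b ^ 2 := Nat.mul_le_mul hAidx hH
      _ = (Nat.factorial b' * b) ^ 2 := by ring
      _ ≤ Nat.factorial b ^ 2 := Nat.pow_le_pow_left h2 2

/-- IP26-[MAIN] in `_of` form: Isaacs 12.26 from the statements of [MONO], [SOLV] and [FIN]. -/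
theorem main_of
    (hMONO : ∀ (G : Type u) [Group G] [Finite G] (b : ℕ), IsMaxDeg G b →
      ∀ (H : Subgroup G) (ψ : IrrCharacter H), charDegree (ψ : H → ℂ) ≤ b)
    (hSOLV : ∀ (G : Type u) [Group G] [Finite G] (b : ℕ), IsMaxDeg G b → 2 ≤ b → CE G b →
      ⁅commutator G, commutator G⁆ = commutator G)
    (hFIN : ∀ (G : Type u) [Group G] [Finite G] (b : ℕ), IsMaxDeg G b → 2 ≤ b → CE G b →
      ⁅commutator G, commutator G⁆ = commutator G →
      (∀ (H : Subgroup G) (b' : ℕ), b' < b → IsMaxDeg H b' → HasAbelian H b') → HasAbelian G b)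
    (b : ℕ) : ∀ (G : Type u) [Group G] [Finite G], IsMaxDeg G b → HasAbelian G b := by
  induction b using Nat.strong_induction_on with
  | _ b IH =>
    intro G _ _ hb
    classical
    let _ : Fintype G := Fintype.ofFinite G
    -- b ≥ 1
    have hb1 : 1 ≤ b := by
      obtain ⟨χ, hχ⟩ := hb.exists
      rw [← hχ]
      exact Helper78.IsIrrCharacter.charDegree_pos χ.2
    rcases Nat.lt_or_ge b 2 with hlt | h2
    · -- b = 1: G is abelian
      have hb' : b = 1 := by omega
      have hcomm : ∀ x y : G, x * y = y * x := by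
        apply Helper80.commutative_of_forall_charDegree_eq_one
        intro χ
        have h1 := hb.le χ
        have h2 := Helper78.IsIrrCharacter.charDegree_pos χ.2
        omega
      refine ⟨⊤, fun x _ y _ => hcomm x y, ?_⟩
      rw [Subgroup.index_top]
      exact Nat.one_le_iff_ne_zero.mpr (pow_ne_zero _ (Nat.factorial_ne_zero b))
    · by_cases hCE : CE G b
      · exact hFIN G b hb h2 hCE (hSOLV G b hb h2 hCE)
          (fun H b' hlt hb' => IH b' hlt H hb')
      · -- some subgroup of index ≤ b² has no character of degree b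
        unfold CE at hCE
        push Not at hCE
        obtain ⟨H, hHidx, hHno⟩ := hCE
        obtain ⟨b', hb', hb'le⟩ := exists_isMaxDeg (H := H) b (fun ψ => hMONO G b hb H ψ)
        have hb'lt : b' < b := by
          refine lt_of_le_of_ne hb'le ?_
          rintro rfl
          obtain ⟨ψ, hψ⟩ := hb'.exists
          exact hHno ψ hψ
        exact hasAbelian_of_subgroup hb'lt H hHidx (IH b' hb'lt H hb')

end Cfsg.Agent.Lib.Helper80.IP26Main
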