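import Mathlib
import Cfsg.Prelude.Def_Blocks
import Cfsg.Agent.Lib.Helper81.IrrTwist
import Cfsg.Agent.Lib.Helper81.ResIrr
import Cfsg.Agent.Lib.Helper81.SchurClassSum
import Cfsg.Agent.Lib.Helper3.CharIrr

set_option autoImplicit false

namespace Cfsg.Agent.Lib.Helper80

open Cfsg

universe u

section LinGroup

variable {Γ : Type u} [Group Γ] (N : Subgroup Γ) [hN : N.Normal] {d : ℕ}
  (ρ : Representation ℂ N (Fin d → ℂ))

/-- the determinant as a homomorphism on units of the endomorphism ring -/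
noncomputable abbrev detU (d : ℕ) : (Module.End ℂ (Fin d → ℂ))ˣ →* ℂˣ :=
  Units.map (LinearMap.det : Module.End ℂ (Fin d → ℂ) →* ℂ)

/-- The group of pairs `(g, P)` with `P ρ(n) P⁻¹ = ρ(g n g⁻¹)` and `det(P)^M = 1`. -/
def linGroup (M : ℕ) : Subgroup (Γ × (Module.End ℂ (Fin d → ℂ))ˣ) where
  carrier := {x | (∀ n : N, (x.2 : Module.End ℂ (Fin d → ℂ)) * ρ n =
      ρ (MulAut.conjNormal x.1 n) * (x.2 : Module.End ℂ (Fin d → ℂ))) ∧ (detU d x.2) ^ M = 1}
  one_mem' := by
    refine ⟨fun n => ?_, ?_⟩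
    · simp
    · simp
  mul_mem' := by
    rintro x y ⟨hx1, hx2⟩ ⟨hy1, hy2⟩
    refine ⟨fun n => ?_, ?_⟩
    · show ((x.2 * y.2 : (Module.End ℂ (Fin d → ℂ))ˣ) : Module.End ℂ (Fin d → ℂ)) * ρ n =
        ρ (MulAut.conjNormal (x.1 * y.1) n) * ((x.2 * y.2 : (Module.End ℂ (Fin d → ℂ))ˣ) : Module.End ℂ (Fin d → ℂ))
      rw [Units.val_mul, mul_assoc, hy1 n, ← mul_assoc, hx1, mul_assoc, map_mul, MulAut.mul_apply]
    · show (detU d (x.2 * y.2)) ^ M = 1
      rw [map_mul, mul_pow, hx2, hy2, one_mul]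
  inv_mem' := by
    rintro x ⟨hx1, hx2⟩
    refine ⟨fun n => ?_, ?_⟩
    · show ((x.2⁻¹ : (Module.End ℂ (Fin d → ℂ))ˣ) : Module.End ℂ (Fin d → ℂ)) * ρ n =
        ρ (MulAut.conjNormal (x.1⁻¹) n) * ((x.2⁻¹ : (Module.End ℂ (Fin d → ℂ))ˣ) : Module.End ℂ (Fin d → ℂ))
      have h := hx1 (MulAut.conjNormal (x.1⁻¹) n)
      have h2 : MulAut.conjNormal x.1 (MulAut.conjNormal (x.1⁻¹) n) = n := by
        rw [← MulAut.mul_apply, ← map_mul, mul_inv_cancel, map_one, MulAut.one_apply]
      rw [h2] at h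
      -- x.2 * ρ n' = ρ n * x.2
      calc ((x.2⁻¹ : (Module.End ℂ (Fin d → ℂ))ˣ) : Module.End ℂ (Fin d → ℂ)) * ρ n
          = ((x.2⁻¹ : (Module.End ℂ (Fin d → ℂ))ˣ) : Module.End ℂ (Fin d → ℂ)) * (ρ n * (x.2 : Module.End ℂ (Fin d → ℂ))) *
              ((x.2⁻¹ : (Module.End ℂ (Fin d → ℂ))ˣ) : Module.End ℂ (Fin d → ℂ)) := by
            rw [mul_assoc, mul_assoc, Units.mul_inv, mul_one]
        _ = _ := by
            rw [← h, ← mul_assoc, Units.inv_mul, one_mul]
    · show (detU d (x.2⁻¹)) ^ M = 1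
      rw [map_inv, inv_pow, hx2, inv_one]

end LinGroup

section LinData

variable {Γ : Type u} [Group Γ] (N : Subgroup Γ) [hN : N.Normal] {d : ℕ}
  (ρ : Representation ℂ N (Fin d → ℂ)) (M : ℕ)

theorem mem_linGroup (x : Γ × (Module.End ℂ (Fin d → ℂ))ˣ) :
    x ∈ linGroup N ρ M ↔ (∀ n : N, (x.2 : Module.End ℂ (Fin d → ℂ)) * ρ n =
      ρ (MulAut.conjNormal x.1 n) * (x.2 : Module.End ℂ (Fin d → ℂ))) ∧ (detU d x.2) ^ M = 1 :=
  Iff.rfl

/-- projection of the linearizing group onto `Γ` -/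
def linProj : linGroup N ρ M →* Γ := (MonoidHom.fst _ _).comp (linGroup N ρ M).subtype

theorem linProj_apply (x : linGroup N ρ M) : linProj N ρ M x = (x : Γ × (Module.End ℂ (Fin d → ℂ))ˣ).1 := rfl

/-- the tautological representation of the linearizing group -/
def linRep : Representation ℂ (linGroup N ρ M) (Fin d → ℂ) :=
  ((Units.coeHom (Module.End ℂ (Fin d → ℂ))).comp (MonoidHom.snd _ _)).comp (linGroup N ρ M).subtype

theorem linRep_apply (x : linGroup N ρ M) :
    linRep N ρ M x = ((x : Γ × (Module.End ℂ (Fin d → ℂ))ˣ).2 : Module.End ℂ (Fin d → ℂ)) := rfl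

/-- the intertwining relation -/
theorem linRep_mul_rho (x : linGroup N ρ M) (n : N) :
    linRep N ρ M x * ρ n = ρ (MulAut.conjNormal (linProj N ρ M x) n) * linRep N ρ M x :=
  x.2.1 n

/-- the embedding of `N` -/
def linEmb (hM : ∀ n : N, n ^ M = 1) : N →* linGroup N ρ M where
  toFun n := ⟨((n : Γ), ρ.toHomUnits n), by
    refine ⟨fun m => ?_, ?_⟩
    · show ((ρ.toHomUnits n : (Module.End ℂ (Fin d → ℂ))ˣ) : Module.End ℂ (Fin d → ℂ)) * ρ m =
        ρ (MulAut.conjNormal (n : Γ) m) * ((ρ.toHomUnits n : (Module.End ℂ (Fin d → ℂ))ˣ) : Module.End ℂ (Fin d → ℂ))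
      rw [MonoidHom.coe_toHomUnits, MulAut.conjNormal_val, ← map_mul, ← map_mul]
      congr 1
      simp [MulAut.conj_apply]
    · show (detU d (ρ.toHomUnits n)) ^ M = 1
      rw [← map_pow, ← map_pow, hM n, map_one, map_one]⟩
  map_one' := by
    apply Subtype.ext
    show (((1 : N) : Γ), ρ.toHomUnits 1) = 1
    rw [map_one]; rfl
  map_mul' a b := by
    apply Subtype.ext
    show (((a * b : N) : Γ), ρ.toHomUnits (a * b)) = ((a : Γ), ρ.toHomUnits a) * ((b : Γ), ρ.toHomUnits b)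
    rw [map_mul]; rfl

theorem linProj_linEmb (hM : ∀ n : N, n ^ M = 1) (n : N) :
    linProj N ρ M (linEmb N ρ M hM n) = (n : Γ) := rfl

theorem linRep_linEmb (hM : ∀ n : N, n ^ M = 1) (n : N) :
    linRep N ρ M (linEmb N ρ M hM n) = ρ n := by
  rw [linRep_apply]
  show ((ρ.toHomUnits n : (Module.End ℂ (Fin d → ℂ))ˣ) : Module.End ℂ (Fin d → ℂ)) = ρ n
  rw [MonoidHom.coe_toHomUnits]

theorem linEmb_injective (hM : ∀ n : N, n ^ M = 1) : Function.Injective (linEmb N ρ M hM) := by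
  intro a b hab
  have := congrArg (linProj N ρ M) hab
  rw [linProj_linEmb, linProj_linEmb] at this
  exact Subtype.ext this

theorem conj_linEmb (hM : ∀ n : N, n ^ M = 1) (x : linGroup N ρ M) (n : N) :
    x * linEmb N ρ M hM n * x⁻¹ = linEmb N ρ M hM (MulAut.conjNormal (linProj N ρ M x) n) := by
  apply Subtype.ext
  apply Prod.ext
  · show (x : Γ × (Module.End ℂ (Fin d → ℂ))ˣ).1 * (n : Γ) * (x : Γ × (Module.End ℂ (Fin d → ℂ))ˣ).1⁻¹ = _
    rw [← MulAut.conjNormal_apply]; rfl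
  · show (x : Γ × (Module.End ℂ (Fin d → ℂ))ˣ).2 * ρ.toHomUnits n *
      (x : Γ × (Module.End ℂ (Fin d → ℂ))ˣ).2⁻¹ = ρ.toHomUnits (MulAut.conjNormal (linProj N ρ M x) n)
    rw [mul_inv_eq_iff_eq_mul]
    apply Units.ext
    rw [Units.val_mul, Units.val_mul, MonoidHom.coe_toHomUnits, MonoidHom.coe_toHomUnits]
    exact x.2.1 n

/-- the image of `N` is normal in the linearizing group -/
theorem linEmb_range_normal (hM : ∀ n : N, n ^ M = 1) : (linEmb N ρ M hM).range.Normal := by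
  constructor
  rintro _ ⟨n, rfl⟩ x
  exact ⟨_, (conj_linEmb N ρ M hM x n).symm⟩

variable [hirr : ρ.IsIrreducible]

/-- elements of the kernel of the projection act as scalars -/
theorem exists_scalar_of_mem_ker (x : linGroup N ρ M) (hx : linProj N ρ M x = 1) :
    ∃ c : ℂ, linRep N ρ M x = c • LinearMap.id := by
  apply Helper81.schur_scalar ρ
  intro n
  have h := linRep_mul_rho N ρ M x n
  rw [hx, map_one, MulAut.one_apply] at h
  exact h

/-- the kernel of the projection is central -/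
theorem ker_linProj_le_center : (linProj N ρ M).ker ≤ Subgroup.center (linGroup N ρ M) := by
  intro x hx
  rw [MonoidHom.mem_ker] at hx
  obtain ⟨c, hc⟩ := exists_scalar_of_mem_ker N ρ M x hx
  rw [Subgroup.mem_center_iff]
  intro y
  apply Subtype.ext
  apply Prod.ext
  · show (y : Γ × (Module.End ℂ (Fin d → ℂ))ˣ).1 * (x : Γ × (Module.End ℂ (Fin d → ℂ))ˣ).1 =
      (x : Γ × (Module.End ℂ (Fin d → ℂ))ˣ).1 * (y : Γ × (Module.End ℂ (Fin d → ℂ))ˣ).1
    have : (x : Γ × (Module.End ℂ (Fin d → ℂ))ˣ).1 = 1 := hx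
    rw [this, mul_one, one_mul]
  · show (y : Γ × (Module.End ℂ (Fin d → ℂ))ˣ).2 * (x : Γ × (Module.End ℂ (Fin d → ℂ))ˣ).2 =
      (x : Γ × (Module.End ℂ (Fin d → ℂ))ˣ).2 * (y : Γ × (Module.End ℂ (Fin d → ℂ))ˣ).2
    apply Units.ext
    rw [Units.val_mul, Units.val_mul]
    have hx2 : ((x : Γ × (Module.End ℂ (Fin d → ℂ))ˣ).2 : Module.End ℂ (Fin d → ℂ)) = c • LinearMap.id := hc
    rw [hx2]
    ext v i
    simp

/-- the conjugate representation `n ↦ ρ (g n g⁻¹)` -/
def conjRep (g : Γ) : Representation ℂ N (Fin d → ℂ) :=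
  ρ.comp (MulAut.conjNormal g : N ≃* N).toMonoidHom

omit hirr in
theorem conjRep_apply (g : Γ) (n : N) : conjRep N ρ g n = ρ (MulAut.conjNormal g n) := rfl

instance conjRep_isIrreducible (g : Γ) : (conjRep N ρ g).IsIrreducible :=
  Helper81.isIrreducible_of_semilinearEquiv ρ (conjRep N ρ g) (LinearEquiv.refl ℂ (Fin d → ℂ))
    (MulAut.conjNormal g : N ≃* N) (MulAut.conjNormal g : N ≃* N).surjective (fun _ _ => rfl)

/-- the projection is onto, if the character of `ρ` is `Γ`-invariant -/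
theorem linProj_surjective [Fintype N]
    (hinv : ∀ (g : Γ) (n : N), ρ.character (MulAut.conjNormal g n) = ρ.character n) :
    Function.Surjective (linProj N ρ M) := by
  intro g
  have hchar : (conjRep N ρ g).character = ρ.character := by
    funext n
    exact hinv g n
  obtain ⟨e⟩ := Helper3.nonempty_equiv_of_character_eq (conjRep N ρ g) ρ hchar
  -- `e : ρ.Equiv (conjRep g)`
  have hd : 0 < Module.finrank ℂ (Fin d → ℂ) := Helper81.finrank_pos_of_irreducible ρ
  have hd' : d ≠ 0 := by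
    rw [Module.finrank_fin_fun] at hd
    exact hd.ne'
  set P : (Module.End ℂ (Fin d → ℂ))ˣ := LinearMap.GeneralLinearGroup.ofLinearEquiv e.toLinearEquiv
    with hP
  -- choose a scalar
  have hdet : (LinearMap.det (P : Module.End ℂ (Fin d → ℂ)) : ℂ) ≠ 0 := by
    have := (detU d P).ne_zero
    exact this
  obtain ⟨c, hc⟩ := IsAlgClosed.exists_pow_nat_eq
    ((LinearMap.det (P : Module.End ℂ (Fin d → ℂ)) : ℂ)⁻¹) (Nat.pos_of_ne_zero hd')
  have hc0 : c ≠ 0 := by
    intro h0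
    rw [h0, zero_pow hd'] at hc
    exact (inv_ne_zero hdet) hc.symm
  let cu : ℂˣ := Units.mk0 c hc0
  let sc : (Module.End ℂ (Fin d → ℂ))ˣ :=
    Units.map (algebraMap ℂ (Module.End ℂ (Fin d → ℂ)) : ℂ →* Module.End ℂ (Fin d → ℂ)) cu
  refine ⟨⟨(g, sc * P), ?_, ?_⟩, rfl⟩
  · intro n
    show ((sc * P : (Module.End ℂ (Fin d → ℂ))ˣ) : Module.End ℂ (Fin d → ℂ)) * ρ n =
      ρ (MulAut.conjNormal g n) * ((sc * P : (Module.End ℂ (Fin d → ℂ))ˣ) : Module.End ℂ (Fin d → ℂ))
    have h1 := e.isIntertwining' n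
    have hPe : (P : Module.End ℂ (Fin d → ℂ)) = e.toLinearMap := rfl
    have hsc : (sc : Module.End ℂ (Fin d → ℂ)) = algebraMap ℂ (Module.End ℂ (Fin d → ℂ)) c := rfl
    rw [Units.val_mul, hsc, hPe, mul_assoc]
    have h2 : e.toLinearMap * ρ n = ρ (MulAut.conjNormal g n) * e.toLinearMap := h1
    rw [h2, ← mul_assoc, ← mul_assoc, Algebra.commutes]
  · show (detU d (sc * P)) ^ M = 1
    have h3 : detU d (sc * P) = 1 := by
      apply Units.ext
      show LinearMap.det ((sc * P : (Module.End ℂ (Fin d → ℂ))ˣ) : Module.End ℂ (Fin d → ℂ)) = 1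
      have hsc : (sc : Module.End ℂ (Fin d → ℂ)) = c • (1 : Module.End ℂ (Fin d → ℂ)) := by
        show algebraMap ℂ (Module.End ℂ (Fin d → ℂ)) c = _
        rw [Algebra.algebraMap_eq_smul_one]
      rw [Units.val_mul, hsc, smul_mul_assoc, one_mul, LinearMap.det_smul, Module.finrank_fin_fun, hc,
        inv_mul_cancel₀ hdet]
    rw [h3, one_pow]

/-- the scalar by which an element of the kernel acts has `(d M)`-th power one -/
theorem scalar_pow_of_mem_ker (x : linGroup N ρ M) (c : ℂ)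
    (hc : linRep N ρ M x = c • LinearMap.id) : c ^ (d * M) = 1 := by
  have h2 := x.2.2
  have h3 : LinearMap.det (linRep N ρ M x) ^ M = 1 := by
    have := congrArg (fun u : ℂˣ => (u : ℂ)) h2
    rw [linRep_apply]
    simpa using this
  rw [hc, LinearMap.det_smul, LinearMap.det_id, mul_one, Module.finrank_fin_fun, ← pow_mul] at h3
  exact h3

/-- the linearizing group is finite -/
theorem finite_linGroup [Finite Γ] (hM0 : M ≠ 0) : Finite (linGroup N ρ M) := by
  have hd : 0 < Module.finrank ℂ (Fin d → ℂ) := Helper81.finrank_pos_of_irreducible ρ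
  have hd' : d ≠ 0 := by
    rw [Module.finrank_fin_fun] at hd
    exact hd.ne'
  have : NeZero (d * M) := ⟨Nat.mul_ne_zero hd' hM0⟩
  rw [finite_iff_subgroup_quotient (linProj N ρ M).ker]
  constructor
  · -- the kernel injects into the roots of unity
    have hex : ∀ x : (linProj N ρ M).ker, ∃ c : ℂˣ, linRep N ρ M x.1 = (c : ℂ) • LinearMap.id ∧
        c ∈ rootsOfUnity (d * M) ℂ := by
      intro x
      obtain ⟨c, hc⟩ := exists_scalar_of_mem_ker N ρ M x.1 (MonoidHom.mem_ker.mp x.2)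
      have hpow := scalar_pow_of_mem_ker N ρ M x.1 c hc
      have hc0 : c ≠ 0 := by
        intro h0
        rw [h0, zero_pow (NeZero.ne _)] at hpow
        exact zero_ne_one hpow
      refine ⟨Units.mk0 c hc0, hc, ?_⟩
      rw [mem_rootsOfUnity]
      apply Units.ext
      simpa using hpow
    choose f hf using hex
    let F : (linProj N ρ M).ker → rootsOfUnity (d * M) ℂ := fun x => ⟨f x, (hf x).2⟩
    apply Finite.of_injective F
    intro x y hxy
    have h1 : f x = f y := congrArg Subtype.val hxy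
    apply Subtype.ext
    apply Subtype.ext
    apply Prod.ext
    · have hx := MonoidHom.mem_ker.mp x.2
      have hy := MonoidHom.mem_ker.mp y.2
      show linProj N ρ M x.1 = linProj N ρ M y.1
      rw [hx, hy]
    · apply Units.ext
      show linRep N ρ M x.1 = linRep N ρ M y.1
      rw [(hf x).1, (hf y).1, h1]
  · exact Finite.of_injective _ (QuotientGroup.kerLift_injective (linProj N ρ M))

/-- the character of the tautological representation -/
noncomputable def linChar : linGroup N ρ M → ℂ := (linRep N ρ M).character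

omit hirr in
theorem linChar_linEmb (hM : ∀ n : N, n ^ M = 1) (n : N) :
    linChar N ρ M (linEmb N ρ M hM n) = ρ.character n := by
  unfold linChar Representation.character
  rw [linRep_linEmb]

omit hirr in
theorem isCharacter_linChar : IsCharacter (linGroup N ρ M) (linChar N ρ M) :=
  ⟨d, linRep N ρ M, rfl⟩

theorem isIrrCharacter_linChar [Finite N] (hM : ∀ n : N, n ^ M = 1) :
    IsIrrCharacter (linGroup N ρ M) (linChar N ρ M) := by
  apply Helper81.isIrrCharacter_of_comp_isIrrCharacter (isCharacter_linChar N ρ M) (linEmb N ρ M hM)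
  refine ⟨d, ρ, hirr, ?_⟩
  funext n
  exact (linChar_linEmb N ρ M hM n).symm

end LinData

end Cfsg.Agent.Lib.Helper80
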