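import Mathlib
import Cfsg.Agent.Lib.Helper80.Linearize
import Cfsg.Agent.Lib.Helper80.CentralOver
import Cfsg.Agent.Lib.Helper80.Gallagher
import Cfsg.Agent.Lib.Helper77.CenterIrr

set_option autoImplicit false

namespace Cfsg.Agent.Lib.Helper80

open Cfsg
open scoped commutatorElement

universe u

section Tools

/-- deflation of an irreducible character along a surjective homomorphism -/
theorem exists_deflate_of_surjective {A B : Type*} [Group A] [Group B] [Finite A] (f : A →* B)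
    (hf : Function.Surjective f) {ψ : A → ℂ} (hψ : IsIrrCharacter A ψ)
    (h : ∀ k : A, f k = 1 → ψ k = ψ 1) :
    ∃ χ : B → ℂ, IsIrrCharacter B χ ∧ ∀ a, χ (f a) = ψ a := by
  obtain ⟨χ', hχ', hχ'eq⟩ := Helper77.isIrrCharacter_deflate f.ker hψ
    (fun n hn => h n (MonoidHom.mem_ker.mp hn))
  let e := QuotientGroup.quotientKerEquivOfSurjective f hf
  refine ⟨χ' ∘ e.symm, Helper81.isIrrCharacter_comp_mulEquiv hχ' e.symm, ?_⟩
  intro a
  have h1 : e.symm (f a) = (a : A ⧸ f.ker) := by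
    rw [MulEquiv.symm_apply_eq]
    rfl
  show χ' (e.symm (f a)) = ψ a
  rw [h1, hχ'eq]

/-- Gallagher in kernel form: if `χ_N` is irreducible and `β ∈ Irr(G)` has `N` in its kernel then
`β χ` is irreducible. -/
theorem gallagher_irr_of_ker {G : Type u} [Group G] [Fintype G] (N : Subgroup G) [hN : N.Normal]
    [Fintype N] {χ : G → ℂ} (hχ : IsIrrCharacter G χ) (hχN : IsIrrCharacter N (fun n : N => χ n))
    {β : G → ℂ} (hβ : IsIrrCharacter G β) (hker : ∀ n ∈ N, β n = β 1) :
    IsIrrCharacter G (β * χ) := by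
  have h1 := gallagher_irr N hχ hχN (Helper77.deflate N ⟨β, hβ⟩ hker)
  have h2 : infl N (Helper77.deflate N ⟨β, hβ⟩ hker) = β := by
    funext g
    show ((Helper77.inflate N (Helper77.deflate N ⟨β, hβ⟩ hker) : IrrCharacter G) : G → ℂ) g = β g
    rw [Helper77.inflate_apply, Helper77.deflate_mk]
  rw [h2] at h1
  exact h1

end Tools

section LinTransfer

variable {Γ : Type u} [Group Γ] [Finite Γ] (N : Subgroup Γ) [hN : N.Normal] {d : ℕ}
  (ρ : Representation ℂ N (Fin d → ℂ)) [hirr : ρ.IsIrreducible]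

local notation "EE" => (linGroup N ρ (Nat.card N))
local notation "pp" => linProj N ρ (Nat.card N)
local notation "ii" => linEmb N ρ (Nat.card N) (fun _ => pow_card_eq_one')

omit [Finite Γ] hirr in
theorem linProj_linEmb' (n : N) : pp (ii n) = (n : Γ) := rfl

omit [Finite Γ] hirr in
/-- elements over `N` decompose as (kernel element) * (embedded element) -/
theorem exists_decomp_of_linProj_mem (x : EE) (hx : pp x ∈ N) :
    ∃ z ∈ (pp).ker, ∃ n : N, x = z * ii n := by
  refine ⟨x * (ii ⟨pp x, hx⟩)⁻¹, ?_, ⟨pp x, hx⟩, ?_⟩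
  · rw [MonoidHom.mem_ker, map_mul, map_inv, linProj_linEmb']
    exact mul_inv_cancel _
  · rw [inv_mul_cancel_right]

omit [Finite Γ] hirr in
theorem eq_one_of_mem_ker_of_mem_range (x : EE) (hx : x ∈ (pp).ker) (hx' : x ∈ (ii).range) :
    x = 1 := by
  obtain ⟨n, rfl⟩ := hx'
  rw [MonoidHom.mem_ker, linProj_linEmb'] at hx
  have : n = 1 := Subtype.ext hx
  rw [this, map_one]

/-- the scalar character of the central kernel -/
theorem exists_scalar_hom [Finite N] :
    ∃ lam0 : (pp).ker →* ℂˣ, ∀ (z : (pp).ker) (x : EE),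
      linChar N ρ (Nat.card N) ((z : EE) * x) = ((lam0 z : ℂˣ) : ℂ) * linChar N ρ (Nat.card N) x := by
  have hθ := isIrrCharacter_linChar N ρ (Nat.card N) (fun _ => pow_card_eq_one')
  let θI : IrrCharacter EE := ⟨linChar N ρ (Nat.card N), hθ⟩
  have hK : (pp).ker ≤ Helper77.irrCenter θI := by
    intro g hg
    rw [Helper77.mem_irrCenter_iff_commutator]
    intro h
    have h1 := Subgroup.mem_center_iff.mp (ker_linProj_le_center N ρ (Nat.card N) hg) h
    have : ⁅g, h⁆ = 1 := by
      rw [commutatorElement_eq_one_iff_mul_comm]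
      exact h1.symm
    rw [this]; exact Subgroup.one_mem _
  refine ⟨((Helper77.irrCenterScalar θI).toHomUnits).comp (Subgroup.inclusion hK), ?_⟩
  intro z x
  have := Helper77.irr_center_mul θI (Subgroup.inclusion hK z) x
  exact this

set_option maxHeartbeats 1600000 in
/-- **Going up over an invariant character** (Isaacs 13.31), representation form. -/
theorem exists_invariant_over_rep
    (hinv : ∀ (g : Γ) (n : N), ρ.character (MulAut.conjNormal g n) = ρ.character n)
    (G : Subgroup Γ) [hG : G.Normal] (hNG : N ≤ G)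
    (hcop : (G.index).Coprime (N.relIndex G))
    (hsolv : (∃ k, derivedSeries Γ k ≤ G) ∨ (∃ k, derivedSeries G k ≤ N.subgroupOf G)) :
    ∃ χ : G → ℂ, IsIrrCharacter G χ ∧
      (∃ c : ℂ, c ≠ 0 ∧ ∀ n : N, χ ⟨n, hNG n.2⟩ = c * ρ.character n) ∧
      ∀ (x : Γ) (g : G), χ ⟨x * g * x⁻¹, hG.conj_mem g g.2 x⟩ = χ g := by
  classical
  let _ : Fintype N := Fintype.ofFinite N
  have hfin : Finite EE := finite_linGroup N ρ (Nat.card N) Nat.card_pos.ne'
  let _ : Fintype EE := Fintype.ofFinite EE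
  have hsurj : Function.Surjective pp := linProj_surjective N ρ (Nat.card N) hinv
  have hN₀n : (ii).range.Normal := linEmb_range_normal N ρ (Nat.card N) _
  have hθ : IsIrrCharacter EE (linChar N ρ (Nat.card N)) :=
    isIrrCharacter_linChar N ρ (Nat.card N) (fun _ => pow_card_eq_one')
  have hθcf : IsClassFunction EE (linChar N ρ (Nat.card N)) :=
    Helper78.IsCharacter.isClassFunction (Helper78.IsIrrCharacter.isCharacter hθ)
  obtain ⟨lam0, hlam0⟩ := exists_scalar_hom N ρ
  -- subgroups of `EE`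
  have hGhatn : (G.comap pp).Normal := Subgroup.Normal.comap hG pp
  have hN₀G : (ii).range ≤ G.comap pp := by
    rintro _ ⟨n, rfl⟩
    rw [Subgroup.mem_comap, linProj_linEmb']
    exact hNG n.2
  have hKG : (pp).ker ≤ G.comap pp := by
    intro z hz
    rw [Subgroup.mem_comap, MonoidHom.mem_ker.mp hz]
    exact G.one_mem
  have hKc := ker_linProj_le_center N ρ (Nat.card N)
  -- the quotient
  let mk : EE →* EE ⧸ (ii).range := QuotientGroup.mk' (ii).range
  have hmk : Function.Surjective mk := QuotientGroup.mk'_surjective _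
  have hker : mk.ker = (ii).range := QuotientGroup.ker_mk' _
  have hHn : ((G.comap pp).map mk).Normal := Subgroup.Normal.map hGhatn mk hmk
  have hZc : (pp).ker.map mk ≤ Subgroup.center (EE ⧸ (ii).range) := by
    rintro _ ⟨z, hz, rfl⟩
    rw [Subgroup.mem_center_iff]
    intro y
    obtain ⟨e, rfl⟩ := hmk y
    rw [← map_mul, ← map_mul, Subgroup.mem_center_iff.mp (hKc hz) e]
  have hZH : (pp).ker.map mk ≤ (G.comap pp).map mk := Subgroup.map_mono hKG
  have hindex : ((G.comap pp).map mk).index = G.index := by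
    rw [Subgroup.index_map_eq _ hmk (by rw [hker]; exact hN₀G),
      Subgroup.index_comap_of_surjective G hsurj]
  have hsup : (pp).ker ⊔ (ii).range = N.comap pp := by
    apply le_antisymm
    · apply sup_le
      · intro z hz
        rw [Subgroup.mem_comap, MonoidHom.mem_ker.mp hz]
        exact N.one_mem
      · rintro _ ⟨n, rfl⟩
        rw [Subgroup.mem_comap, linProj_linEmb']
        exact n.2
    · intro x hx
      obtain ⟨z, hz, n, rfl⟩ := exists_decomp_of_linProj_mem N ρ x hx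
      exact Subgroup.mul_mem _ (Subgroup.mem_sup_left hz) (Subgroup.mem_sup_right ⟨n, rfl⟩)
  have hrel : ((pp).ker.map mk).relIndex ((G.comap pp).map mk) = N.relIndex G := by
    rw [Subgroup.relIndex_map_map, hker, hsup, sup_eq_left.mpr hN₀G, Subgroup.relIndex_comap,
      Subgroup.map_comap_eq_self_of_surjective hsurj]
  have hcop' : (((G.comap pp).map mk).index).Coprime
      (((pp).ker.map mk).relIndex ((G.comap pp).map mk)) := by
    rw [hindex, hrel]; exact hcop
  -- solvability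
  have hsolv' : (∃ k, derivedSeries (EE ⧸ (ii).range) k ≤ (G.comap pp).map mk) ∨
      (∃ k, derivedSeries ((G.comap pp).map mk) k ≤
        ((pp).ker.map mk).subgroupOf ((G.comap pp).map mk)) := by
    rcases hsolv with ⟨k, hk⟩ | ⟨k, hk⟩
    · left
      refine ⟨k, ?_⟩
      rw [← map_derivedSeries_eq hmk k]
      apply Subgroup.map_mono
      rw [← Subgroup.map_le_iff_le_comap]
      exact le_trans (map_derivedSeries_le_derivedSeries pp k) hk
    · right
      refine ⟨k, ?_⟩
      rw [← map_derivedSeries_eq (MonoidHom.subgroupMap_surjective mk (G.comap pp)) k]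
      rintro _ ⟨x, hx, rfl⟩
      have h1 : (pp).subgroupComap G x ∈ derivedSeries G k :=
        map_derivedSeries_le_derivedSeries ((pp).subgroupComap G) k ⟨x, hx, rfl⟩
      have h2 := hk h1
      rw [Subgroup.mem_subgroupOf] at h2 ⊢
      have h3 : pp (x : EE) ∈ N := h2
      obtain ⟨z, hz, n, hxz⟩ := exists_decomp_of_linProj_mem N ρ (x : EE) h3
      refine ⟨z, hz, ?_⟩
      show mk z = mk (x : EE)
      rw [hxz, map_mul]
      have : mk (ii n) = 1 := by
        rw [← MonoidHom.mem_ker, hker]; exact ⟨n, rfl⟩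
      rw [this, mul_one]
  -- the linear character of the central subgroup
  have hkerle : (mk.subgroupMap (pp).ker).ker ≤ (lam0⁻¹).ker := by
    intro z hz
    rw [MonoidHom.mem_ker] at hz
    have h1 : mk (z : EE) = 1 := congrArg Subtype.val hz
    have h2 : (z : EE) ∈ (ii).range := by
      rw [← hker]; exact h1
    have h3 : (z : EE) = 1 := eq_one_of_mem_ker_of_mem_range N ρ (z : EE) z.2 h2
    have h4 : z = 1 := Subtype.ext h3
    rw [h4]; exact Subgroup.one_mem _
  let lamS : (pp).ker.map mk →* ℂˣ :=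
    (mk.subgroupMap (pp).ker).liftOfSurjective (MonoidHom.subgroupMap_surjective mk (pp).ker)
      ⟨lam0⁻¹, hkerle⟩
  have hlamS : ∀ z : (pp).ker, lamS (mk.subgroupMap (pp).ker z) = (lam0 z)⁻¹ := by
    intro z
    exact MonoidHom.liftOfRightInverse_comp_apply _ _ _ ⟨lam0⁻¹, hkerle⟩ z
  obtain ⟨βS, hβirr, hβZ, hβinv⟩ :=
    exists_invariant_over_central ((G.comap pp).map mk) ((pp).ker.map mk) hZc hZH hcop' hsolv' lamS
  -- pull back to `Ĝ`
  have hfH : Function.Surjective (mk.subgroupMap (G.comap pp)) :=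
    MonoidHom.subgroupMap_surjective _ _
  obtain ⟨β, hβdef⟩ : ∃ β : (G.comap pp) → ℂ, β = βS ∘ (mk.subgroupMap (G.comap pp)) := ⟨_, rfl⟩
  have hβ : IsIrrCharacter (G.comap pp) β := by
    rw [hβdef]
    exact Helper81.isIrrCharacter_comp_surjective hβirr _ hfH
  have hβapp : ∀ x : G.comap pp, β x = βS (mk.subgroupMap (G.comap pp) x) := by
    intro x; rw [hβdef]; rfl
  have hmk_emb : ∀ n : N, mk (ii n) = 1 := by
    intro n
    rw [← MonoidHom.mem_ker, hker]; exact ⟨n, rfl⟩
  have hfH_one : ∀ x : G.comap pp, (x : EE) ∈ (ii).range → mk.subgroupMap (G.comap pp) x = 1 := by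
    intro x hx
    apply Subtype.ext
    show mk (x : EE) = 1
    rw [← MonoidHom.mem_ker, hker]; exact hx
  -- restriction of the extension
  obtain ⟨θG, hθGdef⟩ : ∃ θG : (G.comap pp) → ℂ,
      θG = fun x : (G.comap pp) => linChar N ρ (Nat.card N) (x : EE) := ⟨_, rfl⟩
  have hθGapp : ∀ x : G.comap pp, θG x = linChar N ρ (Nat.card N) (x : EE) := by
    intro x; rw [hθGdef]
  have hθGchar : IsCharacter (G.comap pp) θG := by
    rw [hθGdef]
    exact Helper81.isCharacter_comp (Helper78.IsIrrCharacter.isCharacter hθ) (G.comap pp).subtype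
  have hmemN : ∀ x : (ii).range.subgroupOf (G.comap pp), pp ((x : G.comap pp) : EE) ∈ N := by
    rintro ⟨x, hx⟩
    obtain ⟨n, hn⟩ := Subgroup.mem_subgroupOf.mp hx
    show pp (x : EE) ∈ N
    rw [← hn, linProj_linEmb']; exact n.2
  let φ : (ii).range.subgroupOf (G.comap pp) →* N :=
    { toFun := fun x => ⟨pp ((x : G.comap pp) : EE), hmemN x⟩
      map_one' := by apply Subtype.ext; simp
      map_mul' := by intro a b; apply Subtype.ext; simp }
  have hφsurj : Function.Surjective φ := by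
    intro n
    refine ⟨⟨⟨ii n, hN₀G ⟨n, rfl⟩⟩, Subgroup.mem_subgroupOf.mpr ⟨n, rfl⟩⟩, ?_⟩
    apply Subtype.ext
    rfl
  have hθφ : ∀ x : (ii).range.subgroupOf (G.comap pp), θG x = ρ.character (φ x) := by
    rintro ⟨x, hx⟩
    obtain ⟨n, hn⟩ := Subgroup.mem_subgroupOf.mp hx
    rw [hθGapp]
    show linChar N ρ (Nat.card N) (x : EE) = ρ.character ⟨pp (x : EE), _⟩
    have h1 : (⟨pp (x : EE), hmemN ⟨x, hx⟩⟩ : N) = n := by
      apply Subtype.ext
      show pp (x : EE) = n
      rw [← hn]; rfl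
    rw [h1, ← hn, linChar_linEmb]
  have hχN : IsIrrCharacter ((ii).range.subgroupOf (G.comap pp))
      (fun n : (ii).range.subgroupOf (G.comap pp) => θG n) := by
    have h1 : (fun n : (ii).range.subgroupOf (G.comap pp) => θG n) = ρ.character ∘ φ := funext hθφ
    rw [h1]
    exact Helper81.isIrrCharacter_comp_surjective ⟨d, ρ, hirr, rfl⟩ φ hφsurj
  have hθG : IsIrrCharacter (G.comap pp) θG :=
    Helper81.isIrrCharacter_of_comp_isIrrCharacter hθGchar
      ((ii).range.subgroupOf (G.comap pp)).subtype hχN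
  have hβker : ∀ n ∈ (ii).range.subgroupOf (G.comap pp), β n = β 1 := by
    intro n hn
    rw [hβapp, hβapp, hfH_one n (Subgroup.mem_subgroupOf.mp hn), map_one]
  have hψ : IsIrrCharacter (G.comap pp) (β * θG) :=
    gallagher_irr_of_ker ((ii).range.subgroupOf (G.comap pp)) hθG hχN hβ hβker
  -- deflate
  have hpG : Function.Surjective ((pp).subgroupComap G) :=
    MonoidHom.subgroupComap_surjective_of_surjective pp G hsurj
  have hψker : ∀ k : G.comap pp, (pp).subgroupComap G k = 1 → (β * θG) k = (β * θG) 1 := by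
    intro k hk
    have hkK : (k : EE) ∈ (pp).ker := by
      rw [MonoidHom.mem_ker]
      exact congrArg Subtype.val hk
    have h1 : θG k = ((lam0 ⟨(k : EE), hkK⟩ : ℂˣ) : ℂ) * θG 1 := by
      rw [hθGapp, hθGapp]
      have := hlam0 ⟨(k : EE), hkK⟩ 1
      rw [mul_one] at this
      exact this
    have h2 : β k = ((lam0 ⟨(k : EE), hkK⟩ : ℂˣ) : ℂ)⁻¹ * β 1 := by
      rw [hβapp, hβapp, map_one]
      have h3 := hβZ (mk.subgroupMap (pp).ker ⟨(k : EE), hkK⟩) 1
      rw [mul_one, hlamS] at h3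
      rw [Units.val_inv_eq_inv_val] at h3
      rw [← h3]
      congr 1
    rw [Pi.mul_apply, Pi.mul_apply, h1, h2]
    have hne : ((lam0 ⟨(k : EE), hkK⟩ : ℂˣ) : ℂ) ≠ 0 := Units.ne_zero _
    field_simp
  obtain ⟨χ, hχirr, hχeq⟩ := exists_deflate_of_surjective ((pp).subgroupComap G) hpG hψ hψker
  refine ⟨χ, hχirr, ⟨βS 1, Helper78.IsIrrCharacter.apply_one_ne_zero hβirr, ?_⟩, ?_⟩
  · intro n
    have h1 : (⟨(n : Γ), hNG n.2⟩ : G) = (pp).subgroupComap G ⟨ii n, hN₀G ⟨n, rfl⟩⟩ := rfl
    rw [h1, hχeq, Pi.mul_apply, hβapp, hfH_one _ ⟨n, rfl⟩, hθGapp]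
    show βS 1 * linChar N ρ (Nat.card N) (ii n) = _
    rw [linChar_linEmb]
  · intro x g
    obtain ⟨e, rfl⟩ := hsurj x
    obtain ⟨y, rfl⟩ := hpG g
    have h1 : (⟨pp e * ((pp).subgroupComap G y : G) * (pp e)⁻¹,
        hG.conj_mem _ ((pp).subgroupComap G y).2 (pp e)⟩ : G) =
        (pp).subgroupComap G ⟨e * y * e⁻¹, hGhatn.conj_mem y y.2 e⟩ := by
      apply Subtype.ext
      show pp e * pp (y : EE) * (pp e)⁻¹ = pp (e * y * e⁻¹)
      rw [map_mul, map_mul, map_inv]
    rw [h1, hχeq, hχeq, Pi.mul_apply, Pi.mul_apply, hθGapp, hθGapp]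
    show β _ * linChar N ρ (Nat.card N) (e * (y : EE) * e⁻¹) = _
    rw [hθcf, hβapp, hβapp]
    congr 1
    rw [← hβinv (mk e) (mk.subgroupMap (G.comap pp) y)]
    congr 1

end LinTransfer

section Final

theorem exists_derivedSeries_le_of_isSolvable_quotient {K : Type*} [Group K] (Z : Subgroup K)
    [Z.Normal] (h : Group.IsSolvable (K ⧸ Z)) : ∃ k, derivedSeries K k ≤ Z := by
  obtain ⟨k, hk⟩ := (Group.isSolvable_def (K ⧸ Z)).mp h
  refine ⟨k, ?_⟩
  have h1 := map_derivedSeries_eq (f := QuotientGroup.mk' Z) (QuotientGroup.mk'_surjective Z) k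
  rw [hk, Subgroup.map_eq_bot_iff, QuotientGroup.ker_mk'] at h1
  exact h1

/-- **Isaacs 13.31**: `N ≤ G` normal in `Γ`, `(|Γ : G|, |G : N|) = 1`, `Γ / G` or `G / N` solvable.
Then every `Γ`-invariant `θ ∈ Irr(N)` lies under a `Γ`-invariant irreducible character of `G`. -/
theorem exists_invariant_irr_over {Γ : Type u} [Group Γ] [Fintype Γ] (G N : Subgroup Γ)
    [hG : G.Normal] [hN : N.Normal] [Fintype G] [Fintype N] (hNG : N ≤ G)
    (hcop : (G.index).Coprime (N.relIndex G))
    (hsolv : Group.IsSolvable (Γ ⧸ G) ∨ Group.IsSolvable (G ⧸ N.subgroupOf G))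
    (θ : IrrCharacter N)
    (hinv : ∀ (x : Γ) (n : N), (θ : N → ℂ) ⟨x * n * x⁻¹, hN.conj_mem n n.2 x⟩ = (θ : N → ℂ) n) :
    ∃ χ : IrrCharacter G, classInner (fun n : N => (χ : G → ℂ) ⟨n, hNG n.2⟩) (θ : N → ℂ) ≠ 0 ∧
      ∀ (x : Γ) (g : G), (χ : G → ℂ) ⟨x * g * x⁻¹, hG.conj_mem g g.2 x⟩ = (χ : G → ℂ) g := by
  classical
  obtain ⟨d, ρ, hirr, hρ⟩ := θ.2
  have hinv' : ∀ (g : Γ) (n : N), ρ.character (MulAut.conjNormal g n) = ρ.character n := by
    intro g n
    rw [hρ]
    have h1 : MulAut.conjNormal g n = ⟨g * n * g⁻¹, hN.conj_mem n n.2 g⟩ :=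
      Subtype.ext (MulAut.conjNormal_apply g n)
    rw [h1]
    exact hinv g n
  have hsolv' : (∃ k, derivedSeries Γ k ≤ G) ∨ (∃ k, derivedSeries G k ≤ N.subgroupOf G) := by
    rcases hsolv with h | h
    · exact Or.inl (exists_derivedSeries_le_of_isSolvable_quotient G h)
    · exact Or.inr (exists_derivedSeries_le_of_isSolvable_quotient (N.subgroupOf G) h)
  obtain ⟨χ, hχ, ⟨c, hc0, hc⟩, hχinv⟩ := exists_invariant_over_rep N ρ hinv' G hNG hcop hsolv'
  refine ⟨⟨χ, hχ⟩, ?_, hχinv⟩
  have h1 : (fun n : N => χ ⟨n, hNG n.2⟩) = fun n : N => c * (θ : N → ℂ) n := by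
    funext n
    rw [hc n, hρ]
  show classInner (fun n : N => χ ⟨n, hNG n.2⟩) (θ : N → ℂ) ≠ 0
  rw [h1]
  have h2 : classInner (fun n : N => c * (θ : N → ℂ) n) (θ : N → ℂ) =
      c * classInner (θ : N → ℂ) (θ : N → ℂ) := by
    unfold classInner
    rw [Finset.mul_sum, Finset.mul_sum, Finset.mul_sum]
    apply Finset.sum_congr rfl
    intro n _
    ring
  rw [h2, Helper78.classInner_irr_self θ.2, mul_one]
  exact hc0

end Final

end Cfsg.Agent.Lib.Helper80
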