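import Mathlib

/-!
Project LS (S5286, helper88's sheet), module LS-[FGW]: pure `FreeGroup` word lemmas.
-/

set_option autoImplicit false

namespace Cfsg.Agent.Lib.Helper80.LS

universe u

variable {α : Type u} [DecidableEq α]

theorem toWord_mk_singleton (a : α × Bool) : (FreeGroup.mk [a]).toWord = [a] := by
  rw [FreeGroup.toWord_mk]; rfl

theorem toWord_mk_singleton_mul (a : α × Bool) (w : FreeGroup α) :
    (FreeGroup.mk [a] * w).toWord = a :: w.toWord ∨
      w.toWord = (a.1, !a.2) :: (FreeGroup.mk [a] * w).toWord := by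
  have h1 : (FreeGroup.mk [a] * w).toWord = FreeGroup.reduce (a :: w.toWord) := by
    rw [FreeGroup.toWord_mul, toWord_mk_singleton]; rfl
  have h2 : FreeGroup.reduce w.toWord = w.toWord := FreeGroup.isReduced_toWord.reduce_eq
  rw [h1, FreeGroup.reduce.cons, h2]
  rcases hw : w.toWord with _ | ⟨hd, tl⟩
  · left; rfl
  · dsimp only
    by_cases hc : a.1 = hd.1 ∧ a.2 = !hd.2
    · right
      rw [if_pos hc]
      obtain ⟨hc1, hc2⟩ := hc
      have : hd = (a.1, !a.2) := by
        apply Prod.ext
        · exact hc1.symm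
        · simp [hc2]
      rw [this]
    · left
      rw [if_neg hc]

theorem norm_mk_singleton_mul_iff (a : α × Bool) (w : FreeGroup α) :
    FreeGroup.norm (FreeGroup.mk [a] * w) = FreeGroup.norm w + 1 ↔
      (FreeGroup.mk [a] * w).toWord = a :: w.toWord := by
  constructor
  · intro h
    rcases toWord_mk_singleton_mul a w with h1 | h1
    · exact h1
    · exfalso
      have h2 : FreeGroup.norm w = FreeGroup.norm (FreeGroup.mk [a] * w) + 1 := by
        unfold FreeGroup.norm
        conv_lhs => rw [h1]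
        simp
      omega
  · intro h
    unfold FreeGroup.norm
    rw [h]
    simp

theorem norm_inv_mul_of_head_ne (u v : FreeGroup α) (a b : α × Bool)
    (hu : u.toWord.head? = some a) (hv : v.toWord.head? = some b) (hab : a ≠ b) :
    FreeGroup.norm (u⁻¹ * v) = FreeGroup.norm u + FreeGroup.norm v := by
  obtain ⟨u', hu'⟩ : ∃ u', u.toWord = a :: u' := by
    rcases h : u.toWord with _ | ⟨x, u'⟩
    · rw [h] at hu; simp at hu
    · rw [h] at hu; simp at hu; exact ⟨u', by rw [hu]⟩
  obtain ⟨v', hv'⟩ : ∃ v', v.toWord = b :: v' := by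
    rcases h : v.toWord with _ | ⟨x, v'⟩
    · rw [h] at hv; simp at hv
    · rw [h] at hv; simp at hv; exact ⟨v', by rw [hv]⟩
  have hinv : FreeGroup.invRev u.toWord = FreeGroup.invRev u' ++ [(a.1, !a.2)] := by
    rw [hu']; simp [FreeGroup.invRev]
  have hr1 : FreeGroup.IsReduced (FreeGroup.invRev u' ++ [(a.1, !a.2)]) := by
    rw [← hinv, ← FreeGroup.toWord_inv]; exact FreeGroup.isReduced_toWord
  have hr2 : FreeGroup.IsReduced ([(a.1, !a.2)] ++ b :: v') := by
    have hv2 : FreeGroup.IsReduced (b :: v') := by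
      rw [← hv']; exact FreeGroup.isReduced_toWord
    show FreeGroup.IsReduced ((a.1, !a.2) :: b :: v')
    rw [FreeGroup.isReduced_cons_cons]
    refine ⟨?_, hv2⟩
    intro h1
    dsimp only at h1 ⊢
    by_contra h2
    apply hab
    apply Prod.ext h1
    cases ha : a.2 <;> cases hb : b.2 <;> simp_all
  have hr : FreeGroup.IsReduced (FreeGroup.invRev u' ++ [(a.1, !a.2)] ++ b :: v') :=
    FreeGroup.IsReduced.append_overlap hr1 hr2 (by simp)
  unfold FreeGroup.norm
  rw [FreeGroup.toWord_mul, FreeGroup.toWord_inv, hinv, hv', hr.reduce_eq, hu']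
  simp [FreeGroup.invRev]
  omega

theorem norm_mul_mk_singleton_of_getLast (u : FreeGroup α) (b : α × Bool)
    (hu : u.toWord.getLast? = some (b.1, !b.2)) :
    FreeGroup.norm (u * FreeGroup.mk [b]) + 1 = FreeGroup.norm u := by
  obtain ⟨u', hu'⟩ : ∃ u', u.toWord = u' ++ [(b.1, !b.2)] := by
    rcases List.eq_nil_or_concat' u.toWord with h | ⟨L, x, h⟩
    · rw [h] at hu; simp at hu
    · rw [h] at hu
      simp at hu
      exact ⟨L, by rw [h, hu]⟩
  have hred : FreeGroup.IsReduced u' := by
    have : FreeGroup.IsReduced (u' ++ [(b.1, !b.2)]) := by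
      rw [← hu']; exact FreeGroup.isReduced_toWord
    exact this.infix ⟨[], [(b.1, !b.2)], by simp⟩
  have hmk : u * FreeGroup.mk [b] = FreeGroup.mk u' := by
    have h1 : u = FreeGroup.mk (u' ++ [(b.1, !b.2)]) := by
      rw [← hu']; exact FreeGroup.mk_toWord.symm
    rw [h1, ← FreeGroup.mul_mk]
    apply Quot.sound
    have : u' ++ [(b.1, !b.2)] ++ [b] = u' ++ (b.1, !b.2) :: (b.1, b.2) :: [] := by simp
    rw [this]
    have h2 := @FreeGroup.Red.Step.not_rev α u' [] b.1 b.2
    simpa using h2
  unfold FreeGroup.norm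
  rw [hmk, FreeGroup.toWord_mk, hred.reduce_eq, hu']
  simp

omit [DecidableEq α] in
theorem isReduced_map_equiv {β : Type u} (σ : α ≃ β) {L : List (α × Bool)}
    (h : FreeGroup.IsReduced L) :
    FreeGroup.IsReduced (L.map (fun p => (σ p.1, p.2))) := by
  unfold FreeGroup.IsReduced at h ⊢
  rw [List.isChain_map]
  refine h.imp ?_
  intro x y hxy hσ
  exact hxy (σ.injective hσ)

theorem toWord_map_equiv {β : Type u} [DecidableEq β] (σ : α ≃ β) (w : FreeGroup α) :
    (FreeGroup.freeGroupCongr σ w).toWord = w.toWord.map (fun p => (σ p.1, p.2)) := by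
  have h1 : FreeGroup.freeGroupCongr σ w
      = FreeGroup.mk (w.toWord.map (fun p => (σ p.1, p.2))) := by
    conv_lhs => rw [← FreeGroup.mk_toWord (x := w)]
    rfl
  rw [h1, FreeGroup.toWord_mk]
  exact (isReduced_map_equiv σ FreeGroup.isReduced_toWord).reduce_eq

end Cfsg.Agent.Lib.Helper80.LS
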