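import Mathlib
import Cfsg.Agent.Lib.Helper88.LSDefs
import Cfsg.Agent.Lib.Helper80.LSFGW

/-!
Project LS (S5286, helper88's sheet), module LS-[ACT]: the action of `K` on `FreeGroup Y` letterwise.
-/

set_option autoImplicit false

namespace Cfsg.Agent.Lib.Helper80.LS

open Cfsg.Agent.Lib.Helper88.LS SemidirectProduct

universe u

variable {S₀ K I : Type u} [Group S₀] [Group K]
variable (lam : S₀ →* K) {A : I → Subgroup S₀} (e : ∀ i, A i →* S₀)

theorem act_eq_congr (k : K) (w : FreeGroup (Y lam e)) :
    act lam e k w = FreeGroup.freeGroupCongr (MulAction.toPerm k : Equiv.Perm (Y lam e)) w := rfl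

theorem toWord_act [DecidableEq (Y lam e)] (k : K) (w : FreeGroup (Y lam e)) :
    (act lam e k w).toWord = w.toWord.map (fun p => (k • p.1, p.2)) := by
  rw [act_eq_congr, toWord_map_equiv]
  rfl

theorem norm_act [DecidableEq (Y lam e)] (k : K) (w : FreeGroup (Y lam e)) :
    FreeGroup.norm (act lam e k w) = FreeGroup.norm w := by
  unfold FreeGroup.norm
  rw [toWord_act, List.length_map]

theorem act_mk (k : K) (L : List (Y lam e × Bool)) :
    act lam e k (FreeGroup.mk L) = FreeGroup.mk (L.map (fun p => (k • p.1, p.2))) := by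
  rw [act_eq_congr]
  rfl

end Cfsg.Agent.Lib.Helper80.LS
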