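import Mathlib
import Cfsg.Agent.Lib.Helper88.LSDefs
import Cfsg.Agent.Lib.Helper80.LSFGW
import Cfsg.Agent.Lib.Helper80.LSACT
import Cfsg.Agent.Lib.Helper88.LSStep

/-!
Project LS (S5286, helper88's sheet), module LS-[NF-GOOD]: every element of the Leary--Stancu group has
a normal form (`Good`).
-/

set_option autoImplicit false

namespace Cfsg.Agent.Lib.Helper80.LS

open Cfsg.Agent.Lib.Helper88.LS SemidirectProduct

universe u

variable {S₀ K I : Type u} [Group S₀] [Group K]
variable (lam : S₀ →* K) {A : I → Subgroup S₀} (e : ∀ i, A i →* S₀) (tau : I → K)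

theorem good_inr_mul [DecidableEq (Y lam e)] (s₀ : S₀) (g : M lam e) (hg : Good lam e tau g) :
    Good lam e tau ((inr (lam s₀) : M lam e) * g) := by
  cases hg with
  | base s =>
    rw [← map_mul, ← map_mul]
    exact Good.base _
  | step s i ε g' hg' hn =>
    have h1 : (inr (lam s₀) : M lam e) * (E lam e tau s i ε * g') = E lam e tau (s₀ * s) i ε * g' := by
      rw [← mul_assoc, inr_mul_E]
    rw [h1]
    refine Good.step _ _ _ _ hg' ?_
    rw [← h1, SemidirectProduct.mul_left, SemidirectProduct.left_inr, one_mul,
      SemidirectProduct.right_inr]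
    rw [norm_act]
    exact hn

theorem left_eq_of_good_step [DecidableEq (Y lam e)] (s : S₀) (i : I) (ε : Bool) (g' : M lam e)
    (hn : FreeGroup.norm (E lam e tau s i ε * g').left = FreeGroup.norm g'.left + 1) :
    (E lam e tau s i ε * g').left.toWord =
      letE lam e tau s i ε :: (act lam e (E lam e tau s i ε).right g'.left).toWord := by
  have h0 : (E lam e tau s i ε * g').left =
      FreeGroup.mk [letE lam e tau s i ε] * act lam e (E lam e tau s i ε).right g'.left := by
    rw [SemidirectProduct.mul_left, E_left]
  rw [h0] at hn ⊢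
  rw [← norm_mk_singleton_mul_iff]
  rw [hn, norm_act]

theorem good_E_one_mul [DecidableEq (Y lam e)] (hlam : Function.Injective lam)
    (hc : ∀ i (a : A i), tau i * lam a = lam (e i a) * tau i) (j : I) (δ : Bool) (g : M lam e)
    (hg : Good lam e tau g) : Good lam e tau (E lam e tau 1 j δ * g) := by
  by_cases hn : FreeGroup.norm (E lam e tau 1 j δ * g).left = FreeGroup.norm g.left + 1
  · exact Good.step _ _ _ _ hg hn
  · have h0 : (E lam e tau 1 j δ * g).left =
        FreeGroup.mk [letE lam e tau 1 j δ] * act lam e (E lam e tau 1 j δ).right g.left := by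
      rw [SemidirectProduct.mul_left, E_left]
    rcases toWord_mk_singleton_mul (letE lam e tau 1 j δ)
      (act lam e (E lam e tau 1 j δ).right g.left) with h1 | h1
    · exfalso
      apply hn
      rw [h0, (norm_mk_singleton_mul_iff _ _).mpr h1, norm_act]
    · -- the head of `act k g.left` is the inverse letter
      cases hg with
      | base s =>
        exfalso
        rw [SemidirectProduct.left_inr, map_one] at h1
        simp at h1
      | step s i ε g' hg' hn' =>
        have h2 := left_eq_of_good_step lam e tau s i ε g' hn'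
        rw [toWord_act, h2] at h1
        simp only [List.map_cons, List.cons.injEq, Prod.mk.injEq] at h1
        obtain ⟨⟨h11, h12⟩, -⟩ := h1
        obtain ⟨s', hs'⟩ := pinch lam e tau hlam hc j δ s i ε h11 h12
        rw [← mul_assoc, hs']
        exact good_inr_mul lam e tau s' g' hg'

theorem good_of_mem [DecidableEq (Y lam e)] (hlam : Function.Injective lam)
    (hc : ∀ i (a : A i), tau i * lam a = lam (e i a) * tau i) (g : M lam e)
    (hg : g ∈ Gsub lam e tau) : Good lam e tau g := by
  have hT1 : ∀ i, T lam e tau i = E lam e tau 1 i true := by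
    intro i; simp [E]
  have hT2 : ∀ i, (T lam e tau i)⁻¹ = E lam e tau 1 i false := by
    intro i; simp [E]
  unfold Gsub at hg
  induction hg using Subgroup.closure_induction_left with
  | one =>
    have : (1 : M lam e) = inr (lam 1) := by simp
    rw [this]; exact Good.base 1
  | mul_left x hx y hy ih =>
    rcases hx with ⟨s, rfl⟩ | ⟨i, rfl⟩
    · exact good_inr_mul lam e tau s y ih
    · rw [hT1]; exact good_E_one_mul lam e tau hlam hc i true y ih
  | inv_mul_cancel x hx y hy ih =>
    rcases hx with ⟨s, rfl⟩ | ⟨i, rfl⟩
    · have : ((inr (lam s) : M lam e))⁻¹ = inr (lam s⁻¹) := by simp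
      dsimp only
      rw [this]
      exact good_inr_mul lam e tau s⁻¹ y ih
    · rw [hT2]; exact good_E_one_mul lam e tau hlam hc i false y ih

end Cfsg.Agent.Lib.Helper80.LS
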