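import Mathlib
import Cfsg.Agent.Lib.Helper88.LSDefs
import Cfsg.Agent.Lib.Helper80.LSNFGood

/-!
Project LS (S5286, helper88's sheet), module LS-[NF-A]: `lemmaA` (peeling off the first elementary step)
and `stab` (the stabilizer of the base vertex is `lam S₀`).
-/

set_option autoImplicit false

namespace Cfsg.Agent.Lib.Helper80.LS

open Cfsg.Agent.Lib.Helper88.LS SemidirectProduct

universe u

variable {S₀ K I : Type u} [Group S₀] [Group K]
variable (lam : S₀ →* K) {A : I → Subgroup S₀} (e : ∀ i, A i →* S₀) (tau : I → K)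

theorem lemmaA [DecidableEq (Y lam e)] (hlam : Function.Injective lam)
    (hc : ∀ i (a : A i), tau i * lam a = lam (e i a) * tau i) (g : M lam e)
    (hg : g ∈ Gsub lam e tau) (hne : g.left ≠ 1) :
    ∃ (s : S₀) (i : I) (ε : Bool) (g' : M lam e), g' ∈ Gsub lam e tau ∧
      g = E lam e tau s i ε * g' ∧ g.left.toWord.head? = some (letE lam e tau s i ε) ∧
      FreeGroup.norm g'.left + 1 = FreeGroup.norm g.left := by
  have hgood := good_of_mem lam e tau hlam hc g hg
  cases hgood with
  | base s =>
    exfalso; apply hne; simp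
  | step s i ε g' hg' hn =>
    refine ⟨s, i, ε, g', ?_, rfl, ?_, hn.symm⟩
    · have h1 : g' = (E lam e tau s i ε)⁻¹ * (E lam e tau s i ε * g') := by group
      rw [h1]
      exact (Gsub lam e tau).mul_mem ((Gsub lam e tau).inv_mem (E_mem lam e tau s i ε)) hg
    · rw [left_eq_of_good_step lam e tau s i ε g' hn]
      rfl

theorem stab (hlam : Function.Injective lam)
    (hc : ∀ i (a : A i), tau i * lam a = lam (e i a) * tau i) (g : M lam e)
    (hg : g ∈ Gsub lam e tau) (h1 : g.left = 1) : ∃ s : S₀, g = inr (lam s) := by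
  classical
  have hgood := good_of_mem lam e tau hlam hc g hg
  cases hgood with
  | base s => exact ⟨s, rfl⟩
  | step s i ε g' hg' hn =>
    exfalso
    rw [h1] at hn
    simp at hn

end Cfsg.Agent.Lib.Helper80.LS
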