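import Mathlib
import Cfsg.Agent.Lib.Helper88.LSDefs
import Cfsg.Agent.Lib.Helper88.LSStep
import Cfsg.Agent.Lib.Helper80.LSNFA

/-!
Project LS (S5286, helper88's sheet), module LS-[FIN] (hypothesis form, `descent` as hypothesis): every finite subgroup of the Leary--Stancu group is
conjugate into `lam S₀`.
-/

set_option autoImplicit false

namespace Cfsg.Agent.Lib.Helper80.LS

open Cfsg.Agent.Lib.Helper88.LS SemidirectProduct

universe u

variable {S₀ K I : Type u} [Group S₀] [Group K]
variable (lam : S₀ →* K) {A : I → Subgroup S₀} (e : ∀ i, A i →* S₀) (tau : I → K)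

/-- The left component of a conjugate `E⁻¹ * h * E` in the semidirect product. -/
theorem conj_left (x h : M lam e) :
    (x⁻¹ * h * x).left =
      act lam e x.right⁻¹ (x.left⁻¹ * h.left * act lam e h.right x.left) := by
  simp only [SemidirectProduct.mul_left, SemidirectProduct.inv_left, SemidirectProduct.mul_right,
    SemidirectProduct.inv_right, map_mul, map_inv, MulAut.mul_apply]

theorem fin_conj_aux [DecidableEq (Y lam e)] (hlam : Function.Injective lam)
    (hc : ∀ i (a : A i), tau i * lam a = lam (e i a) * tau i)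
    (hdesc : ∀ (H : Subgroup (M lam e)) [Finite H], (∃ h ∈ H, h.left ≠ 1) →
      ∃ h₁ ∈ H, ∃ a : Y lam e × Bool, h₁.left.toWord.head? = some a ∧ ∀ h ∈ H,
        FreeGroup.norm ((FreeGroup.mk [a])⁻¹ * h.left * act lam e h.right (FreeGroup.mk [a]))
          < FreeGroup.norm h₁.left) :
    ∀ (n : ℕ) (H : Subgroup (M lam e)), Finite H → H ≤ Gsub lam e tau →
      (∀ h ∈ H, FreeGroup.norm h.left ≤ n) →
      ∃ g ∈ Gsub lam e tau, ∀ h ∈ H, ∃ s : S₀, g * h * g⁻¹ = inr (lam s) := by
  intro n
  induction n with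
  | zero =>
    intro H _ hHG hn
    refine ⟨1, (Gsub lam e tau).one_mem, ?_⟩
    intro h hh
    have h0 : h.left = 1 := by
      have := hn h hh
      exact FreeGroup.norm_eq_zero.mp (Nat.le_zero.mp this)
    obtain ⟨s, hs⟩ := stab lam e tau hlam hc h (hHG hh) h0
    exact ⟨s, by simpa using hs⟩
  | succ n ih =>
    intro H hfin hHG hn
    by_cases hall : ∀ h ∈ H, h.left = 1
    · refine ⟨1, (Gsub lam e tau).one_mem, ?_⟩
      intro h hh
      obtain ⟨s, hs⟩ := stab lam e tau hlam hc h (hHG hh) (hall h hh)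
      exact ⟨s, by simpa using hs⟩
    · push Not at hall
      obtain ⟨h₁, hh₁, a, ha, hlt⟩ := hdesc H hall
      have hne1 : h₁.left ≠ 1 := by
        intro h1
        rw [h1] at ha
        simp at ha
      obtain ⟨s, i, ε, g', -, -, hhead, -⟩ := lemmaA lam e tau hlam hc h₁ (hHG hh₁) hne1
      have haE : a = letE lam e tau s i ε := by
        rw [ha] at hhead
        exact Option.some.inj hhead
      set E0 : M lam e := E lam e tau s i ε with hE0
      have hE0mem : E0 ∈ Gsub lam e tau := E_mem lam e tau s i ε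
      have hE0left : E0.left = FreeGroup.mk [a] := by
        rw [haE]; exact E_left lam e tau s i ε
      -- the conjugated subgroup
      let H2 : Subgroup (M lam e) := H.map (MulAut.conj E0⁻¹).toMonoidHom
      have hH2mem : ∀ x, x ∈ H2 ↔ ∃ h ∈ H, x = E0⁻¹ * h * E0 := by
        intro x
        constructor
        · rintro ⟨h, hh, rfl⟩
          exact ⟨h, hh, by simp⟩
        · rintro ⟨h, hh, rfl⟩
          exact ⟨h, hh, by simp⟩
      have hfin2 : Finite H2 := by
        have : Finite (H : Set (M lam e)) := hfin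
        exact (Set.Finite.image _ (Set.toFinite (H : Set (M lam e)))).to_subtype
      have hH2G : H2 ≤ Gsub lam e tau := by
        intro x hx
        obtain ⟨h, hh, rfl⟩ := (hH2mem x).mp hx
        exact (Gsub lam e tau).mul_mem
          ((Gsub lam e tau).mul_mem ((Gsub lam e tau).inv_mem hE0mem) (hHG hh)) hE0mem
      have hn2 : ∀ x ∈ H2, FreeGroup.norm x.left ≤ n := by
        intro x hx
        obtain ⟨h, hh, rfl⟩ := (hH2mem x).mp hx
        rw [conj_left, norm_act, hE0left]
        have h1 := hlt h hh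
        have h2 := hn h₁ hh₁
        omega
      obtain ⟨g2, hg2, hg2c⟩ := ih H2 hfin2 hH2G hn2
      refine ⟨g2 * E0⁻¹, (Gsub lam e tau).mul_mem hg2 ((Gsub lam e tau).inv_mem hE0mem), ?_⟩
      intro h hh
      obtain ⟨s', hs'⟩ := hg2c (E0⁻¹ * h * E0) ((hH2mem _).mpr ⟨h, hh, rfl⟩)
      refine ⟨s', ?_⟩
      rw [← hs']
      group

theorem fin_conj_of (hlam : Function.Injective lam)
    (hc : ∀ i (a : A i), tau i * lam a = lam (e i a) * tau i)
    (hdesc : ∀ [DecidableEq (Y lam e)] (H : Subgroup (M lam e)) [Finite H], (∃ h ∈ H, h.left ≠ 1) →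
      ∃ h₁ ∈ H, ∃ a : Y lam e × Bool, h₁.left.toWord.head? = some a ∧ ∀ h ∈ H,
        FreeGroup.norm ((FreeGroup.mk [a])⁻¹ * h.left * act lam e h.right (FreeGroup.mk [a]))
          < FreeGroup.norm h₁.left)
    (H : Subgroup (Gsub lam e tau)) [Finite H] :
    ∃ g : Gsub lam e tau, ∀ h ∈ H, g * h * g⁻¹ ∈ (iota lam e tau).range := by
  classical
  let H' : Subgroup (M lam e) := H.map (Gsub lam e tau).subtype
  have hfin : Finite H' := by
    have : Finite (H : Set (Gsub lam e tau)) := ‹Finite H›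
    exact (Set.Finite.image _ (Set.toFinite (H : Set (Gsub lam e tau)))).to_subtype
  have hH'G : H' ≤ Gsub lam e tau := by
    rintro x ⟨h, -, rfl⟩
    exact h.2
  have hbdd : ∃ n : ℕ, ∀ h ∈ H', FreeGroup.norm h.left ≤ n := by
    have hfs : ((fun h : M lam e => FreeGroup.norm h.left) '' (H' : Set (M lam e))).Finite :=
      Set.Finite.image _ (Set.toFinite (H' : Set (M lam e)))
    obtain ⟨n, hn⟩ := hfs.bddAbove
    exact ⟨n, fun h hh => hn ⟨h, hh, rfl⟩⟩
  obtain ⟨n, hn⟩ := hbdd
  obtain ⟨g, hg, hgc⟩ := fin_conj_aux lam e tau hlam hc (fun H _ => hdesc H) n H' hfin hH'G hn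
  refine ⟨⟨g, hg⟩, ?_⟩
  intro h hh
  obtain ⟨s, hs⟩ := hgc (h : M lam e) ⟨h, hh, rfl⟩
  refine ⟨s, ?_⟩
  apply Subtype.ext
  show (inr (lam s) : M lam e) = _
  rw [← hs]
  rfl

end Cfsg.Agent.Lib.Helper80.LS
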