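import Mathlib
import Cfsg.Agent.Lib.Helper88.LSDefs
import Cfsg.Agent.Lib.Helper80.LSFin
import Cfsg.Agent.Lib.Helper26.LSDESC

/-!
Project LS (S5286, helper88's sheet), module LS-[FIN]: every finite subgroup of the Leary--Stancu group is
conjugate into `lam S₀` (exact sheet statement; uses LS-[DESC]).
-/

set_option autoImplicit false

namespace Cfsg.Agent.Lib.Helper80.LS

open Cfsg.Agent.Lib.Helper88.LS SemidirectProduct

universe u

variable {S₀ K I : Type u} [Group S₀] [Group K]
variable (lam : S₀ →* K) {A : I → Subgroup S₀} (e : ∀ i, A i →* S₀) (tau : I → K)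

theorem fin_conj (hlam : Function.Injective lam)
    (hc : ∀ i (a : A i), tau i * lam a = lam (e i a) * tau i)
    (H : Subgroup (Gsub lam e tau)) [Finite H] :
    ∃ g : Gsub lam e tau, ∀ h ∈ H, g * h * g⁻¹ ∈ (iota lam e tau).range :=
  fin_conj_of lam e tau hlam hc (fun H _ hne => Cfsg.Agent.Lib.Helper26.LS.descent lam e H hne) H

end Cfsg.Agent.Lib.Helper80.LS
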