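/-
helper80: ASCHOE-[T-TENSOR34], part A (any field): the coordinate kit for a tensor structure
`polar Q (P (x ∘ e)) (P (y ∘ e)) = c * (G₁ ⊗ G₂)(x, y)`: values on pure tensors, the blocks
`P (u ⊗ F^(n₂))`, and the direction "f₂ plus ⇒ Q plus".
-/
import Mathlib
import Cfsg.Prelude.Def_GeometricClasses
import Cfsg.Agent.Lib.Helper99.AschDefs
import Cfsg.Agent.Lib.Helper55.Oe.Defs
import Cfsg.Agent.Lib.Helper94.TensorBasic

set_option autoImplicit false
set_option linter.unusedSimpArgs false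
set_option linter.unusedVariables false
set_option linter.unusedSectionVars false

namespace Cfsg.Agent.Lib.Helper80.OeT34

open Cfsg Cfsg.Geo
open Cfsg.Agent.Lib.Helper94
open scoped MatrixGroups Matrix Kronecker
open Module

variable {n : ℕ} {F : Type*} [Field F]
variable {Q : (Fin n → F) → F} {n₁ n₂ : ℕ} {e : Fin n ≃ Fin n₁ × Fin n₂} {P : GL (Fin n) F}
  {f₁ : (Fin n₁ → F) → (Fin n₁ → F) → F} {f₂ : (Fin n₂ → F) → (Fin n₂ → F) → F} {c : F}

/-- the hypothesis extracted from `IsTensorFormStructure` -/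
def TensHyp (Q : (Fin n → F) → F) (e : Fin n ≃ Fin n₁ × Fin n₂) (P : GL (Fin n) F)
    (f₁ : (Fin n₁ → F) → (Fin n₁ → F) → F) (f₂ : (Fin n₂ → F) → (Fin n₂ → F) → F) (c : F) : Prop :=
  ∀ x y : Fin n₁ × Fin n₂ → F,
    QuadraticMap.polar Q ((P : Matrix (Fin n) (Fin n) F) *ᵥ (x ∘ e))
        ((P : Matrix (Fin n) (Fin n) F) *ᵥ (y ∘ e)) =
      c * formOfGram id (gramMatrix f₁ ⊗ₖ gramMatrix f₂) x y

/-- the key formula on pure tensors -/
lemma polar_pure (h₁ : IsBilinearForm f₁) (h₂ : IsBilinearForm f₂) (hc : TensHyp Q e P f₁ f₂ c)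
    (u u' : Fin n₁ → F) (w w' : Fin n₂ → F) :
    QuadraticMap.polar Q (tensPhi e P (pureT u w)) (tensPhi e P (pureT u' w')) =
      c * (f₁ u u' * f₂ w w') := by
  rw [tensPhi_apply, tensPhi_apply, hc, formOfGram_kronecker_pureT id (fun _ _ => rfl),
    formOfGram_gramMatrix h₁, formOfGram_gramMatrix h₂]

lemma polar_self_eq (hQ : IsNondegenerateQuadraticForm Q) (v : Fin n → F) :
    QuadraticMap.polar Q v v = 2 * Q v := by
  have h1 : v + v = (2 : F) • v := (two_smul F v).symm
  rw [QuadraticMap.polar, h1, hQ.smul]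
  ring

/-- the block map `w ↦ P (u ⊗ w)` -/
noncomputable def blockMap (e : Fin n ≃ Fin n₁ × Fin n₂) (P : GL (Fin n) F) (u : Fin n₁ → F) :
    (Fin n₂ → F) →ₗ[F] (Fin n → F) :=
  (tensPhi e P).toLinearMap ∘ₗ pureLeft u

lemma blockMap_apply (u : Fin n₁ → F) (w : Fin n₂ → F) :
    blockMap e P u w = tensPhi e P (pureT u w) := rfl

lemma polar_blockMap (h₁ : IsBilinearForm f₁) (h₂ : IsBilinearForm f₂) (hc : TensHyp Q e P f₁ f₂ c)
    (u u' : Fin n₁ → F) (w w' : Fin n₂ → F) :
    QuadraticMap.polar Q (blockMap e P u w) (blockMap e P u' w') = c * (f₁ u u' * f₂ w w') :=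
  polar_pure h₁ h₂ hc u u' w w'

lemma two_mul_Q_blockMap (hQ : IsNondegenerateQuadraticForm Q)
    (h₁ : IsBilinearForm f₁) (h₂ : IsBilinearForm f₂) (hc : TensHyp Q e P f₁ f₂ c)
    (u : Fin n₁ → F) (w : Fin n₂ → F) :
    2 * Q (blockMap e P u w) = c * (f₁ u u * f₂ w w) := by
  rw [← polar_self_eq hQ, polar_blockMap h₁ h₂ hc]

lemma blockMap_injective {u : Fin n₁ → F} (hu : u ≠ 0) : Function.Injective (blockMap e P u) := by
  intro w w' h
  have h' : pureT u w = pureT u w' := (tensPhi e P).injective h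
  obtain ⟨a, ha⟩ := exists_ne_zero_of_ne_zero hu
  ext b
  have := congrFun h' (a, b)
  rw [pureT_apply, pureT_apply] at this
  exact mul_left_cancel₀ ha this

lemma finrank_range_blockMap {u : Fin n₁ → F} (hu : u ≠ 0) :
    finrank F (LinearMap.range (blockMap e P u)) = n₂ := by
  rw [LinearMap.finrank_range_of_inj (blockMap_injective hu), Module.finrank_fin_fun]

lemma card_eq (e : Fin n ≃ Fin n₁ × Fin n₂) : n = n₁ * n₂ := by
  have := Fintype.card_congr e
  simpa using this

/-- every coordinate vector is a sum of pure tensors -/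
lemma eq_sum_pure (y : Fin n₁ × Fin n₂ → F) :
    y = ∑ a : Fin n₁, pureT (Pi.single a 1) (fun b => y (a, b)) := by
  ext ⟨a', b⟩
  rw [Finset.sum_apply]
  simp only [pureT_apply, Pi.single_apply]
  rw [Finset.sum_eq_single a']
  · simp
  · intro a _ ha
    rw [if_neg (Ne.symm ha), zero_mul]
  · intro h
    exact absurd (Finset.mem_univ _) h

/-- if the `u i` span, the blocks span -/
lemma iSup_blocks_eq_top {t : ℕ} (u : Fin t → (Fin n₁ → F))
    (hspan : ∀ x : Fin n₁ → F, ∃ r : Fin t → F, x = ∑ i, r i • u i) :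
    (⨆ i, LinearMap.range (blockMap e P (u i))) = ⊤ := by
  rw [eq_top_iff]
  intro x _
  set S := ⨆ i, LinearMap.range (blockMap e P (u i)) with hS
  have ha : ∀ i w, tensPhi e P (pureT (u i) w) ∈ S := fun i w =>
    Submodule.mem_iSup_of_mem i ⟨w, rfl⟩
  have hb : ∀ u' w, tensPhi e P (pureT u' w) ∈ S := by
    intro u' w
    obtain ⟨r, hr⟩ := hspan u'
    have h1 : pureT u' w = ∑ i, r i • pureT (u i) w := by
      rw [← pureRight_apply, hr, map_sum]
      apply Finset.sum_congr rfl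
      intro i _
      rw [map_smul, pureRight_apply]
    rw [h1, map_sum]
    apply Submodule.sum_mem
    intro i _
    rw [map_smul]
    exact Submodule.smul_mem _ _ (ha i w)
  have hc : ∀ y, tensPhi e P y ∈ S := by
    intro y
    rw [eq_sum_pure y, map_sum]
    apply Submodule.sum_mem
    intro a _
    exact hb _ _
  have := hc ((tensPhi e P).symm x)
  rwa [LinearEquiv.apply_symm_apply] at this

/-- the polar form as a linear functional -/
noncomputable def polarL (hQ : IsNondegenerateQuadraticForm Q) (x : Fin n → F) : (Fin n → F) →ₗ[F] F where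
  toFun v := QuadraticMap.polar Q x v
  map_add' := hQ.polar_bilinear.add_right x
  map_smul' c v := hQ.polar_bilinear.smul_right c x v

/-- pairwise orthogonal non-degenerate subspaces are independent -/
lemma iSupIndep_of_orth (hQ : IsNondegenerateQuadraticForm Q) {t : ℕ}
    (D : Fin t → Submodule F (Fin n → F))
    (hnd : ∀ i, IsNondegenerateOn (QuadraticMap.polar Q) (D i))
    (horth : ∀ i j, i ≠ j → AreOrthogonalFor (QuadraticMap.polar Q) (D i) (D j)) :
    iSupIndep D := by
  intro i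
  rw [Submodule.disjoint_def]
  intro v hv1 hv2
  by_contra hv0
  obtain ⟨⟨x, hx, hxv⟩, _⟩ := hnd i v hv1 hv0
  apply hxv
  have hle : (⨆ j, ⨆ (_ : j ≠ i), D j) ≤ LinearMap.ker (polarL hQ x) := by
    apply iSup_le
    intro j
    apply iSup_le
    intro hj z hz
    rw [LinearMap.mem_ker]
    exact horth i j (Ne.symm hj) x hx z hz
  have h1 := hle hv2
  rw [LinearMap.mem_ker] at h1
  exact h1

/-- the family of blocks attached to an orthogonal spanning family `u` of `f₁` is a non-degenerate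
`n₂`-decomposition -/
lemma blocks_decomp (hQ : IsNondegenerateQuadraticForm Q)
    (h₁ : IsBilinearForm f₁) (h₂ : IsBilinearForm f₂) (hs₂ : ∀ v w, f₂ v w = f₂ w v)
    (hnd₂ : IsNondegenerateForm f₂) (hc0 : c ≠ 0) (hc : TensHyp Q e P f₁ f₂ c)
    {t : ℕ} (ht : 2 ≤ t) (hn₂ : 0 < n₂) (u : Fin t → (Fin n₁ → F))
    (horth : ∀ i j, i ≠ j → f₁ (u i) (u j) = 0) (hdiag : ∀ i, f₁ (u i) (u i) ≠ 0)
    (hspan : ∀ x : Fin n₁ → F, ∃ r : Fin t → F, x = ∑ i, r i • u i) :
    IsNondegenerateMDecomposition (QuadraticMap.polar Q) n₂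
      (fun i => LinearMap.range (blockMap e P (u i))) := by
  have f0 : f₁ 0 0 = 0 := by
    have := h₁.smul_left 0 0 0
    simpa using this
  have hu : ∀ i, u i ≠ 0 := by
    intro i h0
    apply hdiag i
    rw [h0, f0]
  have hnd : ∀ i, IsNondegenerateOn (QuadraticMap.polar Q) (LinearMap.range (blockMap e P (u i))) := by
    intro i w hw hw0
    obtain ⟨v, rfl⟩ := hw
    have hv0 : v ≠ 0 := by
      rintro rfl
      exact hw0 (map_zero _)
    obtain ⟨⟨x, hx⟩, _⟩ := hnd₂ v hv0
    have hne : c * (f₁ (u i) (u i) * f₂ x v) ≠ 0 := mul_ne_zero hc0 (mul_ne_zero (hdiag i) hx)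
    refine ⟨⟨blockMap e P (u i) x, ⟨x, rfl⟩, ?_⟩, ⟨blockMap e P (u i) x, ⟨x, rfl⟩, ?_⟩⟩
    · rw [polar_blockMap h₁ h₂ hc]
      exact hne
    · rw [polar_blockMap h₁ h₂ hc, hs₂]
      exact hne
  have horth' : ∀ i j, i ≠ j → AreOrthogonalFor (QuadraticMap.polar Q)
      (LinearMap.range (blockMap e P (u i))) (LinearMap.range (blockMap e P (u j))) := by
    intro i j hij a ha b hb
    obtain ⟨v, rfl⟩ := ha
    obtain ⟨w, rfl⟩ := hb
    rw [polar_blockMap h₁ h₂ hc, horth i j hij, zero_mul, mul_zero]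
  refine ⟨⟨ht, hn₂, fun i => finrank_range_blockMap (hu i), iSupIndep_of_orth hQ _ hnd horth',
    iSup_blocks_eq_top u hspan⟩, hnd, horth'⟩

/-- transfer of plus type from a block to `f₂` -/
lemma plus_of_block (hQ : IsNondegenerateQuadraticForm Q) (h2 : (2 : F) ≠ 0)
    (h₁ : IsBilinearForm f₁) (h₂ : IsBilinearForm f₂) (hc0 : c ≠ 0) (hc : TensHyp Q e P f₁ f₂ c)
    (u : Fin n₁ → F) (hu : f₁ u u ≠ 0)
    (hp : IsPlusTypeOn Q (LinearMap.range (blockMap e P u))) :
    IsPlusTypeOn (fun v : Fin n₂ → F => f₂ v v) ⊤ := by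
  have f0 : f₁ 0 0 = 0 := by
    have := h₁.smul_left 0 0 0
    simpa using this
  have hu0 : u ≠ 0 := by
    rintro rfl
    exact hu f0
  obtain ⟨U, hUle, hUts, hUdim⟩ := hp
  refine ⟨U.comap (blockMap e P u), le_top, ?_, ?_⟩
  · intro v hv
    have hv' : blockMap e P u v ∈ U := hv
    have h0 := hUts _ hv'
    have h3 := two_mul_Q_blockMap hQ h₁ h₂ hc u v
    rw [h0, mul_zero] at h3
    rcases mul_eq_zero.1 h3.symm with h | h
    · exact absurd h hc0
    · rcases mul_eq_zero.1 h with h | h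
      · exact absurd h hu
      · exact h
  · have hmap : (U.comap (blockMap e P u)).map (blockMap e P u) = U :=
      Submodule.map_comap_eq_of_le hUle
    have hfr : finrank F ((U.comap (blockMap e P u)).map (blockMap e P u)) =
        finrank F (U.comap (blockMap e P u)) :=
      (Submodule.equivMapOfInjective _ (blockMap_injective hu0) _).finrank_eq.symm
    rw [hmap] at hfr
    rw [← hfr, hUdim, finrank_range_blockMap hu0, finrank_top, Module.finrank_fin_fun]

/-- the embedding `(Fin n₁ → L₂) → F^n` -/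
noncomputable def tsMap (e : Fin n ≃ Fin n₁ × Fin n₂) (P : GL (Fin n) F)
    (L : Submodule F (Fin n₂ → F)) : (Fin n₁ → L) →ₗ[F] (Fin n → F) :=
  (tensPhi e P).toLinearMap ∘ₗ
    { toFun := fun g p => (g p.1 : Fin n₂ → F) p.2
      map_add' := fun g g' => by ext p; simp
      map_smul' := fun c g => by ext p; simp }

lemma tsMap_apply (L : Submodule F (Fin n₂ → F)) (g : Fin n₁ → L) :
    tsMap e P L g = tensPhi e P (fun p => (g p.1 : Fin n₂ → F) p.2) := rfl

lemma tsMap_injective (L : Submodule F (Fin n₂ → F)) : Function.Injective (tsMap e P L) := by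
  intro g g' h
  have h' := (tensPhi e P).injective h
  ext a b
  exact congrFun h' (a, b)

/-- the Kronecker form in block form -/
lemma formOfGram_kron_eq (h₂ : IsBilinearForm f₂) (G₁ : Matrix (Fin n₁) (Fin n₁) F)
    (x y : Fin n₁ × Fin n₂ → F) :
    formOfGram id (G₁ ⊗ₖ gramMatrix f₂) x y =
      ∑ a, ∑ b, G₁ a b * f₂ (fun k => x (a, k)) (fun k => y (b, k)) := by
  have h : ∀ a b, f₂ (fun k => x (a, k)) (fun k => y (b, k)) =
      ∑ k, ∑ l, x (a, k) * gramMatrix f₂ k l * y (b, l) := by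
    intro a b
    rw [← formOfGram_gramMatrix h₂]
    rfl
  simp only [formOfGram, Fintype.sum_prod_type, Matrix.kroneckerMap_apply, h, id, Finset.mul_sum]
  apply Finset.sum_congr rfl
  intro a _
  rw [Finset.sum_comm]
  apply Finset.sum_congr rfl
  intro b _
  apply Finset.sum_congr rfl
  intro k _
  apply Finset.sum_congr rfl
  intro l _
  ring

/-- (⇐): a totally singular half-dimensional subspace for `f₂` gives one for `Q`. -/
lemma plus_of_plus_right (hQ : IsNondegenerateQuadraticForm Q) (h2 : (2 : F) ≠ 0)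
    (h₂ : IsBilinearForm f₂) (hs₂ : ∀ v w, f₂ v w = f₂ w v) (hc : TensHyp Q e P f₁ f₂ c)
    (hp : IsPlusTypeOn (fun v : Fin n₂ → F => f₂ v v) ⊤) : IsPlusTypeOn Q ⊤ := by
  obtain ⟨L, -, hLts, hLdim⟩ := hp
  -- `f₂` vanishes on `L × L`
  have hL : ∀ v ∈ L, ∀ w ∈ L, f₂ v w = 0 := by
    intro v hv w hw
    have h1 : f₂ (v + w) (v + w) = 0 := hLts _ (L.add_mem hv hw)
    have h3 : f₂ v v = 0 := hLts _ hv
    have h4 : f₂ w w = 0 := hLts _ hw
    rw [h₂.add_left, h₂.add_right, h₂.add_right, h3, h4, hs₂ w v] at h1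
    have h5 : 2 * f₂ v w = 0 := by linear_combination h1
    rcases mul_eq_zero.1 h5 with h | h
    · exact absurd h h2
    · exact h
  refine ⟨LinearMap.range (tsMap e P L), le_top, ?_, ?_⟩
  · rintro _ ⟨g, rfl⟩
    have h3 : 2 * Q (tsMap e P L g) = 0 := by
      rw [← polar_self_eq hQ, tsMap_apply, tensPhi_apply, hc, formOfGram_kron_eq h₂]
      rw [Finset.sum_eq_zero, mul_zero]
      intro a _
      apply Finset.sum_eq_zero
      intro b _
      have : f₂ (fun k => (g a : Fin n₂ → F) k) (fun k => (g b : Fin n₂ → F) k) = 0 :=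
        hL _ (g a).2 _ (g b).2
      rw [this, mul_zero]
    rcases mul_eq_zero.1 h3 with h | h
    · exact absurd h h2
    · exact h
  · rw [LinearMap.finrank_range_of_inj (tsMap_injective L), Module.finrank_pi_fintype, finrank_top,
      Module.finrank_fin_fun]
    rw [finrank_top, Module.finrank_fin_fun] at hLdim
    simp only [Finset.sum_const, Finset.card_univ, Fintype.card_fin, smul_eq_mul]
    rw [card_eq e]
    calc 2 * (n₁ * finrank F ↥L) = n₁ * (2 * finrank F ↥L) := by ring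
      _ = n₁ * n₂ := by rw [hLdim]

end Cfsg.Agent.Lib.Helper80.OeT34
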