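/-
helper80: ASCHOE-[T-TENSOR34] (hedge; the sheet-name theorem is provided by Lib/Helper20/OeTTensor34.lean, this file
keeps the same result as `isPlusTypeOn_top_tensorSym_iff_aux` in my namespace plus the reusable kit).  `Q` on `F^n` with polar form `c · f₁ ⊗ f₂` (`f₁` symmetric on `F^(n₁)`,
`n₁` odd, `f₂` symmetric on `F^(n₂)`, `n₂` even, `q` odd): `Q` is of plus type iff `f₂` is.
(⇐) `P (F^(n₁) ⊗ L₂)`; (⇒) orthogonal basis `u_i` of `f₁`, blocks `P (u_i ⊗ F^(n₂)) ≅ (F^(n₂), c a_i f₂ / 2)`,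
pairwise isometric since `a f₂ ≅ b f₂` in even dimension (S2623), then helper42 [T-ODD].
-/
import Mathlib
import Cfsg.Prelude.Def_GeometricClasses
import Cfsg.Agent.Lib.Helper99.AschDefs
import Cfsg.Agent.Lib.Helper55.Oe.Defs
import Cfsg.Agent.Lib.Helper94.TensorBasic
import Cfsg.Agent.Lib.Helper42.OeTOdd
import Cfsg.Agent.S2623
import Cfsg.Agent.Lib.Helper80.OeTTensor34A

set_option autoImplicit false
set_option linter.unusedSimpArgs false
set_option linter.unusedVariables false
set_option linter.unusedSectionVars false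

namespace Cfsg.Agent.Lib.Helper80.OeT34

open Cfsg Cfsg.Geo
open Cfsg.Agent.Lib.Helper94
open scoped MatrixGroups Matrix Kronecker
open Module

variable {n : ℕ} {F : Type*} [Field F]
variable {Q : (Fin n → F) → F} {n₁ n₂ : ℕ} {e : Fin n ≃ Fin n₁ × Fin n₂} {P : GL (Fin n) F}
  {f₁ : (Fin n₁ → F) → (Fin n₁ → F) → F} {f₂ : (Fin n₂ → F) → (Fin n₂ → F) → F} {c : F}

/-- an orthogonal spanning family for a non-degenerate symmetric form, `2 ≠ 0` -/
lemma exists_orth_family (h2 : (2 : F) ≠ 0) (h₁ : IsSymmetricForm f₁) :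
    ∃ u : Fin n₁ → (Fin n₁ → F), (∀ i j, i ≠ j → f₁ (u i) (u j) = 0) ∧ (∀ i, f₁ (u i) (u i) ≠ 0) ∧
      ∀ x : Fin n₁ → F, ∃ r : Fin n₁ → F, x = ∑ i, r i • u i := by
  classical
  let B : LinearMap.BilinForm F (Fin n₁ → F) :=
    LinearMap.mk₂ F f₁ h₁.bilinear.add_left h₁.bilinear.smul_left h₁.bilinear.add_right
      h₁.bilinear.smul_right
  have hB : ∀ x y, B x y = f₁ x y := fun _ _ => rfl
  letI : Invertible (2 : F) := invertibleOfNonzero h2
  have hsymm : LinearMap.IsSymm B := LinearMap.isSymm_def.2 (fun x y => h₁.symm x y)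
  obtain ⟨v, hv⟩ := LinearMap.BilinForm.exists_orthogonal_basis (B := B) hsymm
  have hfr : finrank F (Fin n₁ → F) = n₁ := Module.finrank_fin_fun F
  let v' : Basis (Fin n₁) F (Fin n₁ → F) := v.reindex (finCongr hfr)
  have horth : ∀ i j, i ≠ j → f₁ (v' i) (v' j) = 0 := by
    intro i j hij
    have hne : (finCongr hfr).symm i ≠ (finCongr hfr).symm j :=
      fun h => hij ((finCongr hfr).symm.injective h)
    have h3 : B (v ((finCongr hfr).symm i)) (v ((finCongr hfr).symm j)) = 0 := hv hne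
    rw [hB] at h3
    simpa [v'] using h3
  have hspan : ∀ x, ∃ r : Fin n₁ → F, x = ∑ i, r i • v' i :=
    fun x => ⟨fun i => v'.repr x i, (v'.sum_repr x).symm⟩
  refine ⟨v', horth, ?_, hspan⟩
  intro i hi
  have hne := v'.ne_zero i
  obtain ⟨⟨x, hx⟩, _⟩ := h₁.nondegenerate (v' i) hne
  apply hx
  obtain ⟨r, hr⟩ := hspan x
  rw [hr, ← hB, map_sum, LinearMap.sum_apply]
  apply Finset.sum_eq_zero
  intro j _
  rw [map_smul, LinearMap.smul_apply, hB]
  by_cases hji : j = i
  · subst hji
    rw [hi, smul_zero]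
  · rw [horth j i hji, smul_zero]

/-- in even dimension over a finite field of odd order all non-zero multiples of a non-degenerate
symmetric form are isometric (S2623) -/
lemma scaling_isometry [Fintype F] (h2 : (2 : F) ≠ 0) (h₂ : IsSymmetricForm f₂) (hn₂ : Even n₂)
    (a b : F) (ha : a ≠ 0) (hb : b ≠ 0) :
    ∃ g : (Fin n₂ → F) ≃ₗ[F] (Fin n₂ → F), ∀ v, b * f₂ (g v) (g v) = a * f₂ v v := by
  classical
  let B : LinearMap.BilinForm F (Fin n₂ → F) :=
    LinearMap.mk₂ F f₂ h₂.bilinear.add_left h₂.bilinear.smul_left h₂.bilinear.add_right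
      h₂.bilinear.smul_right
  have hB : ∀ x y, B x y = f₂ x y := fun _ _ => rfl
  let Qa : F → QuadraticForm F (Fin n₂ → F) := fun a => LinearMap.BilinMap.toQuadraticMap (a • B)
  have hQa : ∀ a v, Qa a v = a * f₂ v v := by
    intro a v
    simp only [Qa, LinearMap.BilinMap.toQuadraticMap_apply, LinearMap.smul_apply, hB, smul_eq_mul]
  have hpol : ∀ a x y, QuadraticMap.polar (Qa a) x y = 2 * a * f₂ x y := by
    intro a x y
    simp only [Qa]
    rw [LinearMap.BilinMap.polar_toQuadraticMap]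
    simp only [LinearMap.smul_apply, hB, smul_eq_mul]
    rw [h₂.symm y x]
    ring
  have hnd : ∀ a, a ≠ 0 → (QuadraticMap.polarBilin (Qa a)).Nondegenerate := by
    intro a ha
    have h2a : 2 * a ≠ 0 := mul_ne_zero h2 ha
    constructor
    · intro x hx
      by_contra hx0
      obtain ⟨_, ⟨y, hy⟩⟩ := h₂.nondegenerate x hx0
      apply hy
      have := hx y
      rw [QuadraticMap.polarBilin_apply_apply, hpol] at this
      rcases mul_eq_zero.1 this with h | h
      · exact absurd h h2a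
      · exact h
    · intro y hy
      by_contra hy0
      obtain ⟨⟨x, hx⟩, _⟩ := h₂.nondegenerate y hy0
      apply hx
      have := hy x
      rw [QuadraticMap.polarBilin_apply_apply, hpol] at this
      rcases mul_eq_zero.1 this with h | h
      · exact absurd h h2a
      · exact h
  have hM : ∀ a, Matrix.of (fun i j : Fin n₂ =>
      QuadraticMap.polar (⇑(Qa a)) (Pi.single i 1) (Pi.single j 1)) = (2 * a) • gramMatrix f₂ := by
    intro a
    ext i j
    simp only [Matrix.of_apply, Matrix.smul_apply, gramMatrix, smul_eq_mul]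
    exact hpol a _ _
  have hsq : IsSquare ((Matrix.of (fun i j : Fin n₂ =>
      QuadraticMap.polar (⇑(Qa a)) (Pi.single i 1) (Pi.single j 1))).det *
      (Matrix.of (fun i j : Fin n₂ =>
      QuadraticMap.polar (⇑(Qa b)) (Pi.single i 1) (Pi.single j 1))).det) := by
    rw [hM, hM, Matrix.det_smul, Matrix.det_smul, Fintype.card_fin]
    obtain ⟨k, hk⟩ := hn₂
    refine ⟨(2 * a) ^ k * (2 * b) ^ k * (gramMatrix f₂).det, ?_⟩
    have e1 : (2 * a) ^ n₂ = (2 * a) ^ k * (2 * a) ^ k := by rw [← pow_add, ← hk]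
    have e2 : (2 * b) ^ n₂ = (2 * b) ^ k * (2 * b) ^ k := by rw [← pow_add, ← hk]
    rw [e1, e2]
    ring
  obtain ⟨g, hg⟩ := (Cfsg.Agent.S2623.result h2 (Qa a) (Qa b) (hnd a ha) (hnd b hb)).2 hsq
  exact ⟨g, fun v => by rw [← hQa, ← hQa]; exact hg v⟩

/-- ASCHOE-[T-TENSOR34], with the constant extracted. -/
theorem isPlusTypeOn_top_tensorSym_iff_aux [Fintype F] (hQ : IsNondegenerateQuadraticForm Q)
    (h2 : (2 : F) ≠ 0) (h1 : Odd n₁) (h2e : Even n₂)
    (h₁ : IsSymmetricForm f₁) (h₂ : IsSymmetricForm f₂) (hc0 : c ≠ 0) (hc : TensHyp Q e P f₁ f₂ c) :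
    IsPlusTypeOn Q ⊤ ↔ IsPlusTypeOn (fun v : Fin n₂ → F => f₂ v v) ⊤ := by
  constructor
  · intro hp
    obtain ⟨u, horth, hdiag, hspan⟩ := exists_orth_family h2 h₁
    have f0 : f₁ 0 0 = 0 := by
      have := h₁.bilinear.smul_left 0 0 0
      simpa using this
    have hu : ∀ i, u i ≠ 0 := by
      intro i h0
      apply hdiag i
      rw [h0, f0]
    rcases Nat.eq_zero_or_pos n₂ with hn₂ | hn₂
    · subst hn₂
      refine ⟨⊥, bot_le, ?_, ?_⟩
      · intro w hw
        have hw0 : w = 0 := Subsingleton.elim _ _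
        have := h₂.bilinear.smul_left 0 0 0
        rw [hw0]
        simpa using this
      · rw [finrank_bot, finrank_top, Module.finrank_fin_fun]
    have hn₁ : 1 ≤ n₁ := h1.pos
    rcases Nat.lt_or_ge n₁ 2 with h | h
    · have h1' : n₁ = 1 := by omega
      subst h1'
      have htop : LinearMap.range (blockMap e P (u 0)) = ⊤ := by
        apply Submodule.eq_top_of_finrank_eq
        rw [finrank_range_blockMap (hu 0), Module.finrank_fin_fun, card_eq e, one_mul]
      exact plus_of_block hQ h2 h₁.bilinear h₂.bilinear hc0 hc (u 0) (hdiag 0)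
        (by rw [htop]; exact hp)
    · have hdec := blocks_decomp hQ h₁.bilinear h₂.bilinear h₂.symm h₂.nondegenerate hc0 hc h hn₂ u
        horth hdiag hspan
      have hiso : ∀ i j, AreIsometricFor Q (LinearMap.range (blockMap e P (u i)))
          (LinearMap.range (blockMap e P (u j))) := by
        intro i j
        obtain ⟨g, hg⟩ := scaling_isometry h2 h₂ h2e (f₁ (u i) (u i)) (f₁ (u j) (u j))
          (hdiag i) (hdiag j)
        let Ei := LinearEquiv.ofInjective (blockMap e P (u i)) (blockMap_injective (hu i))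
        let Ej := LinearEquiv.ofInjective (blockMap e P (u j)) (blockMap_injective (hu j))
        refine ⟨Ei.symm ≪≫ₗ g ≪≫ₗ Ej, fun w => ?_⟩
        obtain ⟨v, hv⟩ : ∃ v, Ei v = w := ⟨Ei.symm w, Ei.apply_symm_apply w⟩
        subst hv
        have e1 : ((Ei.symm ≪≫ₗ g ≪≫ₗ Ej) (Ei v) : Fin n → F) = blockMap e P (u j) (g v) := by
          simp only [LinearEquiv.trans_apply, LinearEquiv.symm_apply_apply]
          rfl
        have e2 : ((Ei v : LinearMap.range (blockMap e P (u i))) : Fin n → F) = blockMap e P (u i) v := rfl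
        rw [e1, e2]
        have h3 := two_mul_Q_blockMap hQ h₁.bilinear h₂.bilinear hc (u j) (g v)
        have h4 := two_mul_Q_blockMap hQ h₁.bilinear h₂.bilinear hc (u i) v
        rw [hg v, ← h4] at h3
        exact mul_left_cancel₀ h2 h3
      have hD : IsOrthogonalMDecomposition Q n₂ (fun i => LinearMap.range (blockMap e P (u i))) :=
        ⟨hdec, hiso⟩
      have i0 : Fin n₁ := ⟨0, by omega⟩
      have := Cfsg.Agent.Lib.Helper55.Oe.isPlusTypeOn_block_of_odd hQ n₂ _ hD h1 h2e hp i0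
      exact plus_of_block hQ h2 h₁.bilinear h₂.bilinear hc0 hc (u i0) (hdiag i0) this
  · exact plus_of_plus_right hQ h2 h₂.bilinear h₂.symm hc

end Cfsg.Agent.Lib.Helper80.OeT34
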