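import Mathlib
import Cfsg.Agent.Lib.Helper80.ItoMichler
import Cfsg.Agent.Lib.Helper75.BGChar
import Cfsg.Agent.Lib.Helper81.GlaubermanBij
import Cfsg.Agent.Lib.Helper81.GlaubermanSign
import Cfsg.Agent.Lib.Helper15.PermChar
import Cfsg.Agent.Lib.Helper3.BrAbelian
import Cfsg.Agent.Lib.Helper79.Schur
import Cfsg.Agent.Lib.Helper76.SylowNorm
import Cfsg.Agent.S0148

/-!
# Kernels of irreducible characters of `p'`-degree (helper80)

* `exists_irr_not_dvd_of_character`: a character of degree prime to `p` has an irreducible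
  constituent of degree prime to `p`.
* `mem_commutator_of_forall_pprime`: an element of a Sylow `p`-subgroup `P` in the kernel of all
  irreducible characters of `p'`-degree lies in `P'`.
* `exists_pprime_ne_of_centralizes`: a nontrivial `p'`-element centralizing a Sylow `p`-subgroup
  is not in the kernel of some irreducible character of `p'`-degree.
* `le_ker_of_fpf`: a normal subgroup `N` with `C_N(P) = 1` lies in the kernel of every irreducible
  character of `p'`-degree (Glauberman correspondence, via helper81).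
* `le_ker_of_le_sup_commutator`: a normal subgroup inside `K P'` (`K ≤ ker χ`) lies in `ker χ`
  if `χ|_P` has a linear constituent.
-/

set_option autoImplicit false

namespace Cfsg.Agent.Lib.Helper80

open Cfsg
open scoped ComplexConjugate commutatorElement

universe u

section PPrime

variable {G : Type u} [Group G] [Fintype G]

/-- a character of degree prime to `p` has an irreducible constituent of degree prime to `p` -/
theorem exists_irr_not_dvd_of_character (p : ℕ) {Ψ : G → ℂ} (hΨ : IsCharacter G Ψ)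
    (hdeg : ¬ p ∣ charDegree Ψ) :
    ∃ χ : IrrCharacter G, ¬ p ∣ charDegree (χ : G → ℂ) ∧ classInner Ψ (χ : G → ℂ) ≠ 0 := by
  classical
  by_contra hcon
  push Not at hcon
  obtain ⟨m, hm⟩ := (Helper78.isCharacter_iff_exists_nat_combination Ψ).mp hΨ
  apply hdeg
  have h1 : Ψ 1 = ∑ ψ : IrrCharacter G, (m ψ : ℂ) * (ψ : G → ℂ) 1 := by
    rw [hm]
    simp [Finset.sum_apply]
  have h2 : (charDegree Ψ : ℂ) = ((∑ ψ : IrrCharacter G, m ψ * charDegree (ψ : G → ℂ) : ℕ) : ℂ) := by
    rw [← Helper78.IsCharacter.apply_one_eq_charDegree hΨ, h1]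
    push_cast
    apply Finset.sum_congr rfl
    intro ψ _
    rw [Helper78.IsCharacter.apply_one_eq_charDegree (Helper78.IsIrrCharacter.isCharacter ψ.2)]
  have h3 : charDegree Ψ = ∑ ψ : IrrCharacter G, m ψ * charDegree (ψ : G → ℂ) := by
    exact_mod_cast h2
  rw [h3]
  apply Finset.dvd_sum
  intro ψ _
  by_cases hmψ : m ψ = 0
  · rw [hmψ, zero_mul]
    exact dvd_zero p
  · have h4 : classInner Ψ (ψ : G → ℂ) ≠ 0 := by
      rw [hm, Helper78.classInner_nat_combination (fun φ => (m φ : ℂ)) ψ]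
      exact_mod_cast hmψ
    by_contra h5
    have h6 : ¬ p ∣ charDegree (ψ : G → ℂ) := fun h => h5 (Dvd.dvd.mul_left h _)
    exact h4 (hcon ψ h6)

/-- an element of a Sylow `p`-subgroup lying in the kernel of every irreducible character of
degree prime to `p` lies in the derived subgroup of the Sylow subgroup -/
theorem mem_commutator_of_forall_pprime (p : ℕ) [Fact p.Prime] (P : Sylow p G) (x : G)
    (hx : x ∈ (P : Subgroup G))
    (h : ∀ χ : IrrCharacter G, ¬ p ∣ charDegree (χ : G → ℂ) → (χ : G → ℂ) x = (χ : G → ℂ) 1) :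
    x ∈ ⁅(P : Subgroup G), (P : Subgroup G)⁆ := by
  classical
  by_contra hx'
  let PP : Subgroup G := (P : Subgroup G)
  let _ : Fintype PP := Fintype.ofFinite PP
  have hx2 : (⟨x, hx⟩ : PP) ∉ commutator PP := by
    intro h1
    apply hx'
    rw [← Subgroup.map_subtype_commutator]
    exact ⟨⟨x, hx⟩, h1, rfl⟩
  have hc : (Abelianization.of (⟨x, hx⟩ : PP) : Abelianization PP) ≠ 1 := by
    intro h1
    apply hx2
    rw [← Abelianization.ker_of PP]
    exact MonoidHom.mem_ker.mpr h1
  have hcomm : ∀ a b : Abelianization PP, a * b = b * a := fun a b => mul_comm a b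
  obtain ⟨φ, hφ⟩ := Helper3.exists_hom_apply_ne_one hcomm hc
  let lam : PP →* ℂˣ := φ.comp Abelianization.of
  have hlamx : lam ⟨x, hx⟩ ≠ 1 := hφ
  let lamF : PP → ℂ := fun y => ((lam y : ℂˣ) : ℂ)
  have hlamirr : IsIrrCharacter PP lamF := Helper77.isIrrCharacter_of_monoidHom lam
  have hΨ : IsCharacter G (indFun PP lamF) :=
    Cfsg.Agent.S0148.result PP lamF (Helper78.IsIrrCharacter.isCharacter hlamirr)
  have hΨ1 : indFun PP lamF 1 = (PP.index : ℂ) := by
    rw [Helper75.indFun_one]
    show (PP.index : ℂ) * ((lam 1 : ℂˣ) : ℂ) = _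
    rw [map_one, Units.val_one, mul_one]
  have hdeg : charDegree (indFun PP lamF) = PP.index := by
    have := Helper78.IsCharacter.apply_one_eq_charDegree hΨ
    rw [hΨ1] at this
    exact_mod_cast this.symm
  have hnd : ¬ p ∣ charDegree (indFun PP lamF) := by
    rw [hdeg]
    exact P.not_dvd_index
  obtain ⟨χ, hχd, hχ⟩ := exists_irr_not_dvd_of_character p hΨ hnd
  rw [Helper75.frobenius_reciprocity PP lamF
    (Helper78.IsCharacter.isClassFunction (Helper78.IsIrrCharacter.isCharacter χ.2))] at hχ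
  have hχ' : classInner (fun y : PP => (χ : G → ℂ) y) lamF ≠ 0 := by
    rw [← Helper78.classInner_conj_symm]
    intro h0
    apply hχ
    have := congrArg conj h0
    simpa using this
  have hker := Helper75.constituent_ker
    (Helper75.isCharacter_res PP (Helper78.IsIrrCharacter.isCharacter χ.2)) ⟨lamF, hlamirr⟩ hχ'
    ⟨x, hx⟩ (h χ hχd)
  apply hlamx
  apply Units.ext
  have h1 : lamF ⟨x, hx⟩ = lamF 1 := hker
  show ((lam ⟨x, hx⟩ : ℂˣ) : ℂ) = ((1 : ℂˣ) : ℂ)
  rw [Units.val_one]
  have h2 : lamF 1 = 1 := by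
    show ((lam 1 : ℂˣ) : ℂ) = 1
    rw [map_one, Units.val_one]
  rw [← h2]
  exact h1

/-- if the class size of `c` is prime to `p` and `p ∣ χ(1)` then `χ(c) ≡ χ(1)` modulo `p` -/
theorem exists_integral_sub_of_not_dvd_index (p : ℕ) [hp : Fact p.Prime] (χ : IrrCharacter G) (c : G)
    (hk : ¬ p ∣ (Subgroup.centralizer ({c} : Set G)).index)
    (hχ : p ∣ charDegree (χ : G → ℂ)) :
    ∃ r : ℂ, IsIntegral ℤ r ∧ (χ : G → ℂ) c = (χ : G → ℂ) 1 + (p : ℂ) * r := by
  obtain ⟨n, ρ, hirr, hρ⟩ := χ.2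
  have hω := Helper79.centralChar_isIntegral ρ c
  have hfr : Module.finrank ℂ (Fin n → ℂ) = n := by simp
  rw [hfr] at hω
  have hdeg : charDegree (χ : G → ℂ) = n := by
    rw [← hρ]
    exact Helper79.charDegree_of_rep ρ
  rw [hdeg] at hχ
  obtain ⟨n', hn'⟩ := hχ
  set k := (Subgroup.centralizer ({c} : Set G)).index with hkdef
  have hcop : Nat.Coprime k p := (Nat.Coprime.symm ((Nat.Prime.coprime_iff_not_dvd hp.out).mpr hk))
  have hbez : (k : ℤ) * Nat.gcdA k p + (p : ℤ) * Nat.gcdB k p = 1 := by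
    have := Nat.gcd_eq_gcd_ab k p
    rw [hcop.gcd_eq_one] at this
    exact_mod_cast this.symm
  have hbezC : (k : ℂ) * (Nat.gcdA k p : ℂ) + (p : ℂ) * (Nat.gcdB k p : ℂ) = 1 := by
    exact_mod_cast hbez
  have hn0 : (n : ℂ) ≠ 0 := by
    have : n ≠ 0 := by
      intro h0
      have := Helper79.irr_charDegree_pos χ
      omega
    exact_mod_cast this
  have hχc : IsIntegral ℤ (ρ.character c) := Helper79.char_isIntegral ρ c
  have h1 : (χ : G → ℂ) 1 = (n : ℂ) := by
    rw [Helper78.IsCharacter.apply_one_eq_charDegree (Helper78.IsIrrCharacter.isCharacter χ.2), hdeg]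
  refine ⟨(Nat.gcdA k p : ℂ) * ((k : ℂ) * ρ.character c / (n : ℂ)) * (n' : ℂ) +
    (Nat.gcdB k p : ℂ) * ρ.character c - (n' : ℂ), ?_, ?_⟩
  · apply IsIntegral.sub
    · apply IsIntegral.add
      · apply IsIntegral.mul
        · apply IsIntegral.mul
          · simpa using (isIntegral_algebraMap (R := ℤ) (A := ℂ) (x := Nat.gcdA k p))
          · exact hω
        · simpa using (isIntegral_algebraMap (R := ℤ) (A := ℂ) (x := (n' : ℤ)))
      · apply IsIntegral.mul
        · simpa using (isIntegral_algebraMap (R := ℤ) (A := ℂ) (x := Nat.gcdB k p))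
        · exact hχc
    · simpa using (isIntegral_algebraMap (R := ℤ) (A := ℂ) (x := (n' : ℤ)))
  · rw [h1, ← hρ]
    have hnC : (n : ℂ) = (p : ℂ) * (n' : ℂ) := by exact_mod_cast hn'
    have hn'0 : (n' : ℂ) ≠ 0 := by
      intro h0
      rw [h0, mul_zero] at hnC
      exact hn0 hnC
    have hp0 : (p : ℂ) ≠ 0 := by
      intro h0
      rw [h0, zero_mul] at hnC
      exact hn0 hnC
    rw [hnC]
    field_simp
    linear_combination (-(ρ.character c)) * hbezC

/-- a nontrivial `p'`-element centralizing a Sylow `p`-subgroup is detected by an irreducible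
character of degree prime to `p` -/
theorem exists_pprime_ne_of_centralizes (p : ℕ) [hp : Fact p.Prime] (P : Sylow p G) (c : G)
    (hc : c ∈ Subgroup.centralizer ((P : Subgroup G) : Set G)) (hcop : (orderOf c).Coprime p)
    (hc1 : c ≠ 1) :
    ∃ χ : IrrCharacter G, ¬ p ∣ charDegree (χ : G → ℂ) ∧ (χ : G → ℂ) c ≠ (χ : G → ℂ) 1 := by
  classical
  by_contra hcon
  push Not at hcon
  let PP : Subgroup G := (P : Subgroup G)
  let one : PP → ℂ := fun _ => 1
  have hΨ : IsCharacter G (indFun PP one) :=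
    Cfsg.Agent.S0148.result PP one (Helper78.IsIrrCharacter.isCharacter Helper78.isIrrCharacter_one)
  obtain ⟨m, hm⟩ := (Helper78.isCharacter_iff_exists_nat_combination _).mp hΨ
  have hΨ1 : indFun PP one 1 = (PP.index : ℂ) := by
    rw [Helper75.indFun_one]
    simp [one]
  -- the induced character vanishes at `c`
  have hΨc : indFun PP one c = 0 := by
    rw [Helper15.indFun_one_apply]
    have hempty : IsEmpty {x : G // x⁻¹ * c * x ∈ PP} := by
      constructor
      rintro ⟨x, hx⟩
      apply hc1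
      obtain ⟨j, hj⟩ := (P.isPGroup' : IsPGroup p PP) ⟨x⁻¹ * c * x, hx⟩
      have h1 : (x⁻¹ * c * x) ^ p ^ j = 1 := congrArg Subtype.val hj
      have h2 : orderOf (x⁻¹ * c * x) = orderOf c := by
        have h5 := orderOf_injective (MulAut.conj x⁻¹).toMonoidHom (MulAut.conj x⁻¹).injective c
        have h6 : (MulAut.conj x⁻¹).toMonoidHom c = x⁻¹ * c * x := by
          show x⁻¹ * c * x⁻¹⁻¹ = _
          rw [inv_inv]
        rwa [h6] at h5
      have h3 : orderOf c ∣ p ^ j := by
        rw [← h2]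
        exact orderOf_dvd_of_pow_eq_one h1
      have h4 : orderOf c = 1 :=
        Nat.eq_one_of_dvd_coprimes (Nat.Coprime.pow_right j hcop) dvd_rfl h3
      exact orderOf_eq_one_iff.mp h4
    have h0 : Nat.card {x : G // x⁻¹ * c * x ∈ PP} = 0 := Nat.card_of_isEmpty
    rw [h0, Nat.cast_zero, mul_zero]
  -- class size of `c`
  have hk : ¬ p ∣ (Subgroup.centralizer ({c} : Set G)).index := by
    intro hd
    apply P.not_dvd_index
    refine dvd_trans hd (Subgroup.index_dvd_of_le ?_)
    intro y hy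
    rw [Subgroup.mem_centralizer_iff]
    intro z hz
    rw [Set.mem_singleton_iff] at hz
    rw [hz]
    exact ((Subgroup.mem_centralizer_iff.mp hc) y hy).symm
  -- congruences
  have hcong : ∀ ψ : IrrCharacter G, ∃ r : ℂ, IsIntegral ℤ r ∧
      (ψ : G → ℂ) c = (ψ : G → ℂ) 1 + (p : ℂ) * r := by
    intro ψ
    by_cases hψ : p ∣ charDegree (ψ : G → ℂ)
    · exact exists_integral_sub_of_not_dvd_index p ψ c hk hψ
    · exact ⟨0, isIntegral_zero, by rw [hcon ψ hψ, mul_zero, add_zero]⟩
  choose r hr hrc using hcong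
  have h1 : indFun PP one c = indFun PP one 1 +
      (p : ℂ) * ∑ ψ : IrrCharacter G, (m ψ : ℂ) * r ψ := by
    conv_lhs => rw [hm]
    conv_rhs => rw [hm]
    simp only [Finset.sum_apply, Pi.smul_apply, smul_eq_mul]
    rw [Finset.mul_sum, ← Finset.sum_add_distrib]
    apply Finset.sum_congr rfl
    intro ψ _
    rw [hrc ψ]
    ring
  rw [hΨc, hΨ1] at h1
  have hR : IsIntegral ℤ (-(∑ ψ : IrrCharacter G, (m ψ : ℂ) * r ψ)) := by
    apply IsIntegral.neg
    apply IsIntegral.sum
    intro ψ _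
    apply IsIntegral.mul
    · simpa using (isIntegral_algebraMap (R := ℤ) (A := ℂ) (x := (m ψ : ℤ)))
    · exact hr ψ
  have h2 : ((PP.index : ℤ) : ℂ) = (p : ℂ) * (-(∑ ψ : IrrCharacter G, (m ψ : ℂ) * r ψ)) := by
    push_cast
    linear_combination -h1
  have h3 := Helper81.int_dvd_of_eq_mul_isIntegral hp.out.ne_zero hR h2
  apply P.not_dvd_index
  exact_mod_cast h3

end PPrime

section FPF

universe v

/-- a fixed-point-free action of a `p`-group: the only invariant irreducible character is the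
trivial one (Glauberman correspondence count) -/
theorem invariant_irr_eq_one_of_fixSub_eq_bot {K : Type u} [Group K] [Fintype K] {Q : Type v}
    [Group Q] (act : Q →* MulAut K) (p : ℕ) [hp : Fact p.Prime] (hQ : IsPGroup p Q)
    (hfix : Helper81.fixSub act = ⊥) (θ : IrrCharacter K)
    (hθ : ∀ (x : Q) (k : K), (θ : K → ℂ) (act x k) = (θ : K → ℂ) k) :
    (θ : K → ℂ) = fun _ => 1 := by
  classical
  let _ : Fintype (Helper81.fixSub act) := Fintype.ofFinite _
  have hsub : Subsingleton (Helper81.fixSub act) := by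
    rw [hfix]
    infer_instance
  have hc1 : Nat.card (Helper81.fixSub act) = 1 := by
    rw [hfix]
    exact Subgroup.card_bot
  have hmod := Helper81.card_modEq_card_fixSub act p hQ
  rw [hc1] at hmod
  have hK : ¬ p ∣ Nat.card K := by
    intro hd
    have h0 : Nat.card K ≡ 0 [MOD p] := (Nat.modEq_zero_iff_dvd).mpr hd
    have h1 : (1 : ℕ) ≡ 0 [MOD p] := hmod.symm.trans h0
    have h2 : p ∣ 1 := (Nat.modEq_zero_iff_dvd).mp h1
    exact hp.out.one_lt.ne' (Nat.dvd_one.mp h2)
  have hcard := Helper81.card_invIrr_eq_card_irr_fixSub act p hQ hK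
  rw [Helper78.card_irrCharacter] at hcard
  have hcc : Nat.card (ConjClasses (Helper81.fixSub act)) = 1 := by
    have : Subsingleton (ConjClasses (Helper81.fixSub act)) := by
      constructor
      intro a b
      obtain ⟨a, rfl⟩ := ConjClasses.mk_surjective a
      obtain ⟨b, rfl⟩ := ConjClasses.mk_surjective b
      rw [Subsingleton.elim a b]
    have hne : Nonempty (ConjClasses (Helper81.fixSub act)) := ⟨ConjClasses.mk 1⟩
    exact Nat.card_unique
  rw [hcc] at hcard
  have hss : Subsingleton (Helper81.InvIrr act) := by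
    have hfin : Finite (Helper81.InvIrr act) := inferInstance
    exact (Nat.card_eq_one_iff_unique.mp hcard).1
  have htriv : IsIrrCharacter K (fun _ => 1) := Helper78.isIrrCharacter_one
  have heq : (⟨θ, hθ⟩ : Helper81.InvIrr act) = ⟨⟨fun _ => 1, htriv⟩, fun _ _ => rfl⟩ :=
    Subsingleton.elim _ _
  have := congrArg (fun t : Helper81.InvIrr act => ((t : IrrCharacter K) : K → ℂ)) heq
  exact this

end FPF

section PPrime2

variable {G : Type u} [Group G] [Fintype G]

/-- `N ⊴ G`, `Q ≤ G` a `p`-subgroup with `C_N(Q) = 1`: the only `Q`-invariant irreducible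
character of `N` is trivial -/
theorem invariant_irr_eq_one_of_inf_centralizer (p : ℕ) [hp : Fact p.Prime] (N : Subgroup G)
    [N.Normal] (Q : Subgroup G) (hQ : IsPGroup p Q)
    (hNQ : N ⊓ Subgroup.centralizer (Q : Set G) = ⊥) (θ : IrrCharacter N)
    (hθ : ∀ (x : Q), Helper75.conjFun N (x : G) (θ : N → ℂ) = (θ : N → ℂ)) :
    (θ : N → ℂ) = fun _ => 1 := by
  classical
  let act : ↥Q →* MulAut ↥N := (MulAut.conjNormal (H := N)).comp Q.subtype
  have hfix : Helper81.fixSub act = ⊥ := by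
    rw [eq_bot_iff]
    intro k hk
    rw [Subgroup.mem_bot]
    have h1 : (k : G) ∈ N ⊓ Subgroup.centralizer (Q : Set G) := by
      refine Subgroup.mem_inf.mpr ⟨k.2, ?_⟩
      rw [Subgroup.mem_centralizer_iff]
      intro y hy
      have h2 : act ⟨y, hy⟩ k = k := hk ⟨y, hy⟩
      have h3 : ((act ⟨y, hy⟩ k : N) : G) = y * k * y⁻¹ := rfl
      rw [h2] at h3
      calc y * (k : G) = (y * (k : G) * y⁻¹) * y := by group
        _ = (k : G) * y := by rw [← h3]
    rw [hNQ, Subgroup.mem_bot] at h1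
    exact Subtype.ext h1
  apply invariant_irr_eq_one_of_fixSub_eq_bot act p hQ hfix θ
  intro x k
  have h1 := congrFun (hθ x) k
  rw [Helper75.conjFun_apply] at h1
  rw [← h1]
  rfl

/-- if the trivial character of `N ⊴ G` is a constituent of `χ|_N` then `N ≤ ker χ` -/
theorem le_ker_of_trivial_constituent (N : Subgroup G) [N.Normal] [Fintype N] (χ : IrrCharacter G)
    (h : classInner (fun n : N => (χ : G → ℂ) n) (fun _ => 1) ≠ 0) (n : G) (hn : n ∈ N) :
    (χ : G → ℂ) n = (χ : G → ℂ) 1 := by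
  classical
  have htriv : IsIrrCharacter N (fun _ => 1) := Helper78.isIrrCharacter_one
  have hcl := Helper75.clifford_finset N χ.2 htriv h
  have horb : ∀ φ ∈ Helper75.conjOrbit N (fun _ : N => (1 : ℂ)), (φ : N → ℂ) = fun _ => 1 := by
    intro φ hφ
    obtain ⟨g, hg⟩ := (Helper75.mem_conjOrbit N).mp hφ
    rw [← hg]
    rfl
  have h1 : ∀ m : N, (χ : G → ℂ) m = classInner (fun n : N => (χ : G → ℂ) n) (fun _ => 1) *
      ((Helper75.conjOrbit N (fun _ : N => (1 : ℂ))).card : ℂ) := by
    intro m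
    have h2 := congrFun hcl m
    simp only [Pi.smul_apply, Finset.sum_apply, smul_eq_mul] at h2
    rw [h2]
    congr 1
    rw [Finset.sum_congr rfl (fun φ hφ => congrFun (horb φ hφ) m)]
    simp
  have h3 := h1 ⟨n, hn⟩
  have h4 := h1 1
  show (χ : G → ℂ) ((⟨n, hn⟩ : N) : G) = _
  rw [h3, ← h4]
  rfl

/-- **`C_N(P) = 1` implies `N ≤ ker χ` for every `χ` of `p'`-degree** -/
theorem le_ker_of_fpf (p : ℕ) [hp : Fact p.Prime] (P : Sylow p G) (N : Subgroup G) [hNn : N.Normal]
    (hN : N ⊓ Subgroup.centralizer ((P : Subgroup G) : Set G) = ⊥) (χ : IrrCharacter G)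
    (hχ : ¬ p ∣ charDegree (χ : G → ℂ)) (n : G) (hn : n ∈ N) :
    (χ : G → ℂ) n = (χ : G → ℂ) 1 := by
  classical
  let _ : Fintype N := Fintype.ofFinite N
  obtain ⟨θ, hθ⟩ := Helper75.exists_constituent_res N χ.2
  have hidx : ¬ p ∣ (Helper75.inertia N (θ : N → ℂ)).index := fun hd =>
    hχ (dvd_trans hd (index_inertia_dvd_charDegree N χ.2 θ.2 hθ))
  obtain ⟨S, hS⟩ := Helper76.exists_sylow_le_of_not_dvd_index p _ hidx
  obtain ⟨g, hg⟩ := MulAction.exists_smul_eq G P S
  -- `C_N(S) = 1`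
  have hNS : N ⊓ Subgroup.centralizer ((S : Subgroup G) : Set G) = ⊥ := by
    rw [eq_bot_iff]
    intro x hx
    rw [Subgroup.mem_bot]
    obtain ⟨hxN, hxC⟩ := Subgroup.mem_inf.mp hx
    have h1 : g⁻¹ * x * g ∈ N ⊓ Subgroup.centralizer ((P : Subgroup G) : Set G) := by
      refine Subgroup.mem_inf.mpr ⟨?_, ?_⟩
      · have := hNn.conj_mem x hxN g⁻¹
        rwa [inv_inv] at this
      · rw [Subgroup.mem_centralizer_iff]
        intro y hy
        have hy' : g * y * g⁻¹ ∈ (S : Subgroup G) := by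
          rw [← hg, Sylow.coe_subgroup_smul, Subgroup.mem_pointwise_smul_iff_inv_smul_mem]
          rw [MulAut.smul_def, MulAut.conj_inv_apply]
          have : g⁻¹ * (g * y * g⁻¹) * g = y := by group
          rw [this]
          exact hy
        have h2 := (Subgroup.mem_centralizer_iff.mp hxC) _ hy'
        calc y * (g⁻¹ * x * g) = g⁻¹ * ((g * y * g⁻¹) * x) * g := by group
          _ = g⁻¹ * (x * (g * y * g⁻¹)) * g := by rw [h2]
          _ = g⁻¹ * x * g * y := by group
    rw [hN, Subgroup.mem_bot] at h1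
    have : x = g * (g⁻¹ * x * g) * g⁻¹ := by group
    rw [this, h1]
    group
  have hθ1 := invariant_irr_eq_one_of_inf_centralizer p N (S : Subgroup G) S.isPGroup' hNS θ
    (fun x => (Helper75.mem_inertia N).mp (hS x.2))
  rw [hθ1] at hθ
  exact le_ker_of_trivial_constituent N χ hθ n hn

/-- the restriction of a character of `p'`-degree to a `p`-subgroup has a linear constituent -/
theorem exists_linear_constituent (p : ℕ) [hp : Fact p.Prime] (Q : Subgroup G) [Fintype Q]
    (hQ : IsPGroup p Q) (χ : IrrCharacter G) (hχ : ¬ p ∣ charDegree (χ : G → ℂ)) :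
    ∃ lam : ↥Q →* ℂˣ,
      classInner (fun y : Q => (χ : G → ℂ) y) (fun y => ((lam y : ℂˣ) : ℂ)) ≠ 0 := by
  classical
  have hres : IsCharacter Q (fun y : Q => (χ : G → ℂ) y) :=
    Helper75.isCharacter_res Q (Helper78.IsIrrCharacter.isCharacter χ.2)
  have hdeg : charDegree (fun y : Q => (χ : G → ℂ) y) = charDegree (χ : G → ℂ) := by
    have h1 := Helper78.IsCharacter.apply_one_eq_charDegree hres
    have h2 := Helper78.IsCharacter.apply_one_eq_charDegree
      (Helper78.IsIrrCharacter.isCharacter χ.2)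
    change (χ : G → ℂ) 1 = _ at h1
    rw [h2] at h1
    exact_mod_cast h1.symm
  have hnd : ¬ p ∣ charDegree (fun y : Q => (χ : G → ℂ) y) := by
    rw [hdeg]
    exact hχ
  obtain ⟨ψ, hψd, hψ⟩ := exists_irr_not_dvd_of_character p hres hnd
  have hdvd := Helper79.irr_charDegree_dvd_card ψ
  obtain ⟨k, hk⟩ := IsPGroup.iff_card.mp hQ
  rw [hk] at hdvd
  obtain ⟨j, -, hj⟩ := (Nat.dvd_prime_pow hp.out).mp hdvd
  have hj0 : j = 0 := by
    by_contra hne
    apply hψd
    rw [hj]
    exact dvd_pow_self p hne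
  rw [hj0, pow_zero] at hj
  have hψ1 : (ψ : Q → ℂ) 1 = 1 := by
    rw [Helper78.IsCharacter.apply_one_eq_charDegree (Helper78.IsIrrCharacter.isCharacter ψ.2), hj]
    simp
  obtain ⟨lam, hlam⟩ := Helper77.exists_monoidHom_of_degree_one
    (Helper78.IsIrrCharacter.isCharacter ψ.2) hψ1
  refine ⟨lam, ?_⟩
  have : (fun y => ((lam y : ℂˣ) : ℂ)) = (ψ : Q → ℂ) := by
    funext y
    exact (hlam y).symm
  rw [this]
  exact hψ

/-- a linear constituent of `ρ|_Q` gives an eigenvector -/
theorem exists_eigenvector_of_linear_constituent {n : ℕ} (ρ : Representation ℂ G (Fin n → ℂ))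
    (Q : Subgroup G) [Fintype Q] (lam : ↥Q →* ℂˣ)
    (h : classInner (fun y : Q => ρ.character y) (fun y => ((lam y : ℂˣ) : ℂ)) ≠ 0) :
    ∃ w : Fin n → ℂ, w ≠ 0 ∧ ∀ z : Q, ρ (z : G) w = ((lam z : ℂˣ) : ℂ) • w := by
  classical
  let e : Module.End ℂ (Fin n → ℂ) := ∑ y : Q, ((lam y⁻¹ : ℂˣ) : ℂ) • ρ (y : G)
  have hlamchar : IsCharacter Q (fun y => ((lam y : ℂˣ) : ℂ)) :=
    Helper78.IsIrrCharacter.isCharacter (Helper77.isIrrCharacter_of_monoidHom lam)
  have htr : LinearMap.trace ℂ (Fin n → ℂ) e = (Nat.card Q : ℂ) *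
      classInner (fun y : Q => ρ.character y) (fun y => ((lam y : ℂˣ) : ℂ)) := by
    have hQ0 : (Nat.card Q : ℂ) ≠ 0 := by
      have : Nat.card Q ≠ 0 := Nat.card_pos.ne'
      exact_mod_cast this
    unfold classInner
    rw [← mul_assoc, mul_inv_cancel₀ hQ0, one_mul, map_sum]
    apply Finset.sum_congr rfl
    intro y _
    rw [map_smul, smul_eq_mul, mul_comm]
    congr 1
    exact (char_conj_eq_inv hlamchar y).symm
  have he : e ≠ 0 := by
    intro h0
    rw [h0, map_zero] at htr
    have hQ0 : (Nat.card Q : ℂ) ≠ 0 := by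
      have : Nat.card Q ≠ 0 := Nat.card_pos.ne'
      exact_mod_cast this
    exact (mul_ne_zero hQ0 h) htr.symm
  obtain ⟨v, hv⟩ : ∃ v, e v ≠ 0 := by
    by_contra hcon
    push Not at hcon
    apply he
    refine LinearMap.ext fun v => ?_
    rw [hcon v]
    rfl
  refine ⟨e v, hv, ?_⟩
  intro z
  have h1 : e v = ∑ y : Q, ((lam y⁻¹ : ℂˣ) : ℂ) • ρ (y : G) v := by
    simp only [e, LinearMap.sum_apply, LinearMap.smul_apply]
  rw [h1, map_sum, Finset.smul_sum]
  rw [← Equiv.sum_comp (Equiv.mulLeft z) (fun y : Q => ((lam z : ℂˣ) : ℂ) • ((lam y⁻¹ : ℂˣ) : ℂ) • ρ (y : G) v)]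
  apply Finset.sum_congr rfl
  intro y _
  rw [map_smul, Equiv.coe_mulLeft, smul_smul]
  have h2 : ((lam z : ℂˣ) : ℂ) * ((lam (z * y)⁻¹ : ℂˣ) : ℂ) = ((lam y⁻¹ : ℂˣ) : ℂ) := by
    rw [← Units.val_mul]
    congr 1
    rw [mul_inv_rev, map_mul, map_inv, map_inv, mul_comm (lam y)⁻¹, mul_inv_cancel_left]
  rw [h2]
  congr 1
  have h3 : ((z * y : Q) : G) = (z : G) * (y : G) := rfl
  rw [h3, map_mul]
  rfl

/-- **module argument**: if `χ|_Q` has a linear constituent, `K ≤ ker χ` and `L ⊴ G` lies in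
`K Q'`, then `L ≤ ker χ` -/
theorem le_ker_of_le_sup_commutator (χ : IrrCharacter G) (Q : Subgroup G) [Fintype Q]
    (lam : ↥Q →* ℂˣ)
    (hlam : classInner (fun y : Q => (χ : G → ℂ) y) (fun y => ((lam y : ℂˣ) : ℂ)) ≠ 0)
    (K : Subgroup G) (hK : ∀ k ∈ K, (χ : G → ℂ) k = (χ : G → ℂ) 1)
    (L : Subgroup G) [hL : L.Normal] (hLK : L ≤ K ⊔ ⁅Q, Q⁆) (l : G) (hl : l ∈ L) :
    (χ : G → ℂ) l = (χ : G → ℂ) 1 := by
  classical
  obtain ⟨n, ρ, hirr, hρ⟩ := χ.2
  rw [← hρ] at hlam hK ⊢
  obtain ⟨w, hw0, hw⟩ := exists_eigenvector_of_linear_constituent ρ Q lam hlam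
  -- the stabilizer of `w`
  let S : Subgroup G :=
    { carrier := {g | ρ g w = w}
      one_mem' := by
        show ρ 1 w = w
        rw [map_one]
        rfl
      mul_mem' := by
        intro a b ha hb
        show ρ (a * b) w = w
        rw [map_mul]
        show ρ a (ρ b w) = w
        rw [hb, ha]
      inv_mem' := by
        intro a ha
        show ρ a⁻¹ w = w
        have h1 : ρ a⁻¹ (ρ a w) = w := by
          rw [← Module.End.mul_apply, ← map_mul, inv_mul_cancel, map_one]
          rfl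
        rwa [ha] at h1 }
  have hKS : K ≤ S := by
    intro k hk
    show ρ k w = w
    rw [(rep_char_eq_char_one_iff ρ k).mp (hK k hk)]
    rfl
  have hQS : ⁅Q, Q⁆ ≤ S := by
    rw [Subgroup.commutator_le]
    intro a ha b hb
    show ρ ⁅a, b⁆ w = w
    have h1 : ⁅a, b⁆ = ((⁅(⟨a, ha⟩ : Q), ⟨b, hb⟩⁆ : Q) : G) := rfl
    rw [h1, hw]
    have h2 : lam ⁅(⟨a, ha⟩ : Q), ⟨b, hb⟩⁆ = 1 := by
      rw [map_commutatorElement]
      exact commutatorElement_eq_one_iff_commute.mpr (Commute.all _ _)
    rw [h2, Units.val_one, one_smul]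
  have hLS : L ≤ S := le_trans hLK (sup_le hKS hQS)
  -- the `L`-fixed vectors
  let W : Subrepresentation ρ :=
    { toSubmodule :=
        { carrier := {v | ∀ x ∈ L, ρ x v = v}
          add_mem' := by
            intro a b ha hb x hx
            rw [map_add, ha x hx, hb x hx]
          zero_mem' := by
            intro x _
            rw [map_zero]
          smul_mem' := by
            intro c v hv x hx
            rw [map_smul, hv x hx] }
      apply_mem_toSubmodule := by
        intro g v hv x hx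
        have h1 : g⁻¹ * x * g ∈ L := by
          have := hL.conj_mem x hx g⁻¹
          rwa [inv_inv] at this
        have h2 : ρ x (ρ g v) = ρ g (ρ (g⁻¹ * x * g) v) := by
          rw [← Module.End.mul_apply, ← Module.End.mul_apply, ← map_mul, ← map_mul]
          congr 2
          group
        rw [h2, hv _ h1] }
  have hwW : w ∈ W.toSubmodule := fun x hx => hLS hx
  have hWbot : W ≠ ⊥ := by
    intro h0
    have h1 : w ∈ (⊥ : Subrepresentation ρ).toSubmodule := by
      rw [← h0]
      exact hwW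
    exact hw0 ((Submodule.mem_bot ℂ).mp h1)
  have hWtop : W = ⊤ := (eq_bot_or_eq_top W).resolve_left hWbot
  have hρl : ρ l = 1 := by
    refine LinearMap.ext fun v => ?_
    have h1 : v ∈ W.toSubmodule := by
      rw [hWtop]
      exact Submodule.mem_top
    exact h1 l hl
  exact (rep_char_eq_char_one_iff ρ l).mpr hρl

end PPrime2

end Cfsg.Agent.Lib.Helper80
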