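import Mathlib

/-!
Project STEINBERG phase 3c (S2399, helper60's sheet), module P-[SCALAR]: a central element of `GL_n(L)` of
order dividing `p = char L` is trivial.
-/

set_option autoImplicit false

namespace Cfsg.Agent.Lib.Helper80.St3

universe u

theorem units_pow_char_eq_one {L : Type u} [Field L] (p : ℕ) [Fact p.Prime] [CharP L p] (c : Lˣ)
    (h : c ^ p = 1) : c = 1 := by
  have h1 : ((c : L) - 1) ^ p = 0 := by
    rw [sub_pow_char, one_pow, sub_eq_zero]
    have := congrArg Units.val h
    simpa using this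
  have h2 : (c : L) - 1 = 0 := pow_eq_zero_iff (Fact.out : p.Prime).ne_zero |>.mp h1
  apply Units.ext
  simpa [sub_eq_zero] using h2

theorem center_pow_eq_one {L : Type u} [Field L] (p : ℕ) [Fact p.Prime] [CharP L p] {n : ℕ}
    (g : GL (Fin n) L) (hg : g ∈ Subgroup.center (GL (Fin n) L)) (h : g ^ p = 1) : g = 1 := by
  rw [Matrix.GeneralLinearGroup.center_eq_range_scalar] at hg
  obtain ⟨c, rfl⟩ := hg
  rcases Nat.eq_zero_or_pos n with hn | hn
  · subst hn
    exact Subsingleton.elim _ _
  · have : Nonempty (Fin n) := ⟨⟨0, hn⟩⟩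
    have hinj : Function.Injective (Matrix.GeneralLinearGroup.scalar (Fin n) : Lˣ →* GL (Fin n) L) := by
      intro a b hab
      have h1 := congrArg (fun M : GL (Fin n) L => (M : Matrix (Fin n) (Fin n) L) ⟨0, hn⟩ ⟨0, hn⟩) hab
      simp only [Matrix.GeneralLinearGroup.coe_scalar] at h1
      apply Units.ext
      simpa using h1
    have hc : c ^ p = 1 := by
      apply hinj
      rw [map_pow, h, map_one]
    rw [units_pow_char_eq_one p c hc, map_one]

end Cfsg.Agent.Lib.Helper80.St3
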