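import Cfsg.Agent.Lib.Helper80.Codegree
import Cfsg.Agent.Lib.Helper80.CharOrth
import Cfsg.Prelude.Def_Transfer

/-!
# Irreducible characters that are nonzero on exactly two conjugacy classes (helper80)

Gagola's lemma: if `χ ∈ Irr(G)` vanishes off two conjugacy classes and `|G| > 2`, then
`N = {x | χ x ≠ 0}` is the unique minimal normal subgroup of `G`; it is an elementary abelian
`p`-group whose nonidentity elements are all conjugate in `G`, `χ` is faithful and every other
irreducible character has `N` in its kernel.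
-/

set_option autoImplicit false

namespace Cfsg.Agent.Lib.Helper80

open Cfsg
open scoped ComplexConjugate

universe u

section twoClasses

variable {G : Type u} [Group G] [Finite G]

/-- class size times centralizer order -/
theorem ncard_isConj_mul_card_centralizer (g : G) :
    Set.ncard {h : G | IsConj g h} * Nat.card (Subgroup.centralizer ({g} : Set G)) =
      Nat.card G := by
  classical
  let _ : Fintype G := Fintype.ofFinite G
  have h1 : Set.ncard {h : G | IsConj g h} = (Subgroup.centralizer ({g} : Set G)).index := by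
    rw [← Helper78.card_isConj_eq_index g, Set.ncard_eq_toFinset_card']
    congr 1
    ext x
    simp
  rw [h1, mul_comm, Subgroup.card_mul_index]

omit [Finite G] in
/-- The hypothesis "nonzero on exactly two classes", unpacked. -/
theorem twoClasses_unpack (χ : IrrCharacter G)
    (hχ : Nat.card {C : ConjClasses G // ∃ g ∈ C.carrier, (χ : G → ℂ) g ≠ 0} = 2) :
    ∃ g : G, g ≠ 1 ∧ (χ : G → ℂ) g ≠ 0 ∧
      ∀ x : G, (χ : G → ℂ) x ≠ 0 → x = 1 ∨ IsConj g x := by
  have h1 : (χ : G → ℂ) 1 ≠ 0 := char_one_ne_zero_of_isIrr χ.2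
  let c1 : {C : ConjClasses G // ∃ g ∈ C.carrier, (χ : G → ℂ) g ≠ 0} :=
    ⟨ConjClasses.mk 1, 1, ConjClasses.mem_carrier_mk, h1⟩
  obtain ⟨⟨C, g, hgC, hg⟩, hne, huniq⟩ := (Nat.card_eq_two_iff' c1).1 hχ
  have hCg : ConjClasses.mk g = C := ConjClasses.mem_carrier_iff_mk_eq.1 hgC
  refine ⟨g, ?_, hg, ?_⟩
  · rintro rfl
    apply hne
    apply Subtype.ext
    exact hCg.symm
  · intro x hx
    by_cases hx1 : x = 1
    · exact Or.inl hx1
    · right
      have h2 := huniq ⟨ConjClasses.mk x, x, ConjClasses.mem_carrier_mk, hx⟩ (by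
        intro h
        have h3 : ConjClasses.mk x = ConjClasses.mk 1 := congrArg Subtype.val h
        rw [ConjClasses.mk_eq_mk_iff_isConj, isConj_one_left] at h3
        exact hx1 h3)
      have h3 : ConjClasses.mk x = C := congrArg Subtype.val h2
      rw [← hCg, ConjClasses.mk_eq_mk_iff_isConj] at h3
      exact h3.symm

omit [Finite G] in
/-- The orthogonality relation for a character supported on `{1} ∪ cl(g)`. -/
theorem sum_supported_two_classes [Fintype G] {f : G → ℂ} (hf : ∀ g h : G, f (h * g * h⁻¹) = f g)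
    (g : G) (hg : g ≠ 1) (hsupp : ∀ x : G, f x ≠ 0 → x = 1 ∨ IsConj g x) :
    ∑ x : G, f x = f 1 + (Set.ncard {h : G | IsConj g h} : ℂ) * f g := by
  classical
  have hconj : ∀ x, IsConj g x → f x = f g := by
    intro x hx
    obtain ⟨c, hc⟩ := isConj_iff.1 hx
    rw [← hc, hf]
  rw [← Finset.sum_filter_add_sum_filter_not Finset.univ (fun x : G => x = 1)]
  congr 1
  · rw [Finset.filter_eq' Finset.univ (1 : G), if_pos (Finset.mem_univ _), Finset.sum_singleton]
  · have h2 : ∑ x ∈ Finset.univ.filter (fun x : G => ¬ x = 1), f x =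
        ∑ x ∈ Finset.univ.filter (fun x : G => IsConj g x), f x := by
      symm
      apply Finset.sum_subset
      · intro x hx
        rw [Finset.mem_filter] at hx ⊢
        refine ⟨Finset.mem_univ _, ?_⟩
        rintro rfl
        exact hg (isConj_one_left.1 hx.2)
      · intro x hx hx'
        rw [Finset.mem_filter] at hx hx'
        by_contra h0
        rcases hsupp x h0 with h | h
        · exact hx.2 h
        · exact hx' ⟨Finset.mem_univ _, h⟩
    rw [h2, Finset.sum_congr rfl (fun x hx => hconj x (Finset.mem_filter.1 hx).2),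
      Finset.sum_const, nsmul_eq_mul]
    congr 2
    rw [Set.ncard_eq_toFinset_card']
    congr 1
    ext x
    simp

/-- If `χ` is nonzero on exactly two classes and `|G| > 2`, then `χ` is not the trivial
character. -/
theorem twoClasses_ne_one (hG : 2 < Nat.card G) (χ : IrrCharacter G) (g : G) (hg : g ≠ 1)
    (hsupp : ∀ x : G, (χ : G → ℂ) x ≠ 0 → x = 1 ∨ IsConj g x) :
    (χ : G → ℂ) ≠ fun _ => (1 : ℂ) := by
  intro h
  have hall : ∀ x : G, x = 1 ∨ IsConj g x := by
    intro x
    apply hsupp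
    rw [h]; exact one_ne_zero
  have huniv : (Set.univ : Set G) = insert 1 {h : G | IsConj g h} := by
    ext x
    simp only [Set.mem_univ, Set.mem_insert_iff, Set.mem_ofPred_eq, true_iff]
    exact hall x
  have hnot : (1 : G) ∉ {h : G | IsConj g h} := by
    intro h1
    exact hg (isConj_one_left.1 h1)
  have hcard : Nat.card G = Set.ncard {h : G | IsConj g h} + 1 := by
    rw [← Set.ncard_univ, huniv, Set.ncard_insert_of_notMem hnot (Set.toFinite _)]
  have hmul := ncard_isConj_mul_card_centralizer g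
  set c := Set.ncard {h : G | IsConj g h} with hc
  have hdvd : c ∣ c + 1 := by rw [← hcard]; exact Dvd.intro _ hmul
  have hc1 : c ∣ 1 := (Nat.dvd_add_right (dvd_refl c)).1 hdvd
  have : c = 1 := Nat.dvd_one.1 hc1
  omega

/-- Every irreducible character other than `χ` has `g` in its kernel. -/
theorem twoClasses_other_ker (hG : 2 < Nat.card G) (χ : IrrCharacter G) (g : G) (hg : g ≠ 1)
    (hχg : (χ : G → ℂ) g ≠ 0)
    (hsupp : ∀ x : G, (χ : G → ℂ) x ≠ 0 → x = 1 ∨ IsConj g x)
    (ψ : IrrCharacter G) (hψ : ψ ≠ χ) : (ψ : G → ℂ) g = (ψ : G → ℂ) 1 := by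
  classical
  let _ : Fintype G := Fintype.ofFinite G
  set c := Set.ncard {h : G | IsConj g h} with hc
  have hcpos : (c : ℂ) ≠ 0 := by
    have hmul := ncard_isConj_mul_card_centralizer g
    have : c ≠ 0 := by
      intro h0
      rw [← hc, h0, zero_mul] at hmul
      have : 0 < Nat.card G := Nat.card_pos
      omega
    exact_mod_cast this
  -- the relation for an arbitrary ψ ≠ χ
  have hrel : ∀ ψ : IrrCharacter G, ψ ≠ χ →
      (ψ : G → ℂ) 1 * conj ((χ : G → ℂ) 1) + (c : ℂ) * ((ψ : G → ℂ) g * conj ((χ : G → ℂ) g)) = 0 := by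
    intro ψ hψ
    have h0 : classInner (ψ : G → ℂ) (χ : G → ℂ) = 0 :=
      classInner_irr_ne ψ.2 χ.2 (fun h => hψ (Subtype.ext h))
    rw [classInner_def] at h0
    have h1 : ∑ x : G, (ψ : G → ℂ) x * conj ((χ : G → ℂ) x) = 0 := by
      rcases mul_eq_zero.1 h0 with h | h
      · exact absurd (inv_eq_zero.1 h) card_ne_zero_complex
      · exact h
    rw [sum_supported_two_classes (f := fun x => (ψ : G → ℂ) x * conj ((χ : G → ℂ) x)) ?_ g hg ?_]
      at h1
    · exact h1
    · intro a b
      show (ψ : G → ℂ) (b * a * b⁻¹) * conj ((χ : G → ℂ) (b * a * b⁻¹)) = _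
      rw [Helper78.isClassFunction_irr ψ a b, Helper78.isClassFunction_irr χ a b]
    · intro x hx
      apply hsupp
      intro h0
      apply hx
      show (ψ : G → ℂ) x * conj ((χ : G → ℂ) x) = 0
      rw [h0]; simp
  -- the trivial character
  have hne1 := twoClasses_ne_one hG χ g hg hsupp
  have htriv := hrel ⟨fun _ => (1 : ℂ), isIrrCharacter_one⟩ (by
    intro h
    exact hne1 (congrArg Subtype.val h).symm)
  simp only [one_mul] at htriv
  have h2 := hrel ψ hψ
  have h3 : conj ((χ : G → ℂ) 1) = -((c : ℂ) * conj ((χ : G → ℂ) g)) := by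
    linear_combination htriv
  rw [h3] at h2
  have h4 : (c : ℂ) * conj ((χ : G → ℂ) g) * ((ψ : G → ℂ) g - (ψ : G → ℂ) 1) = 0 := by
    linear_combination h2
  have h5 : conj ((χ : G → ℂ) g) ≠ 0 := by
    intro h
    apply hχg
    simpa using h
  rcases mul_eq_zero.1 h4 with h | h
  · exact absurd h (mul_ne_zero hcpos h5)
  · exact sub_eq_zero.1 h

/-- If every irreducible character other than `χ` has `x` in its kernel and `χ ≠ 1_G`,
then `χ x ≠ 0`. -/
theorem char_ne_zero_of_other_ker (χ : IrrCharacter G)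
    (hne1 : (χ : G → ℂ) ≠ fun _ => (1 : ℂ)) (x : G)
    (hx : ∀ ψ : IrrCharacter G, ψ ≠ χ → (ψ : G → ℂ) x = (ψ : G → ℂ) 1) :
    (χ : G → ℂ) x ≠ 0 := by
  classical
  let _ : Fintype G := Fintype.ofFinite G
  intro h0
  have hx1 : ¬ IsConj x 1 := by
    intro h
    have : x = 1 := isConj_one_left.1 h
    rw [this] at h0
    exact char_one_ne_zero_of_isIrr χ.2 h0
  have hsum := Helper78.second_orthogonality_of_not_isConj (G := G) hx1
  have hterm : ∀ ψ : IrrCharacter G, (ψ : G → ℂ) x * conj ((ψ : G → ℂ) 1) =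
      ((if ψ = χ then 0 else Complex.normSq ((ψ : G → ℂ) 1) : ℝ) : ℂ) := by
    intro ψ
    by_cases h : ψ = χ
    · rw [if_pos h, h, h0]; simp
    · rw [if_neg h, hx ψ h, Complex.mul_conj]
  rw [Finset.sum_congr rfl (fun ψ _ => hterm ψ), ← Complex.ofReal_sum] at hsum
  have hsum' : ∑ ψ : IrrCharacter G,
      (if ψ = χ then 0 else Complex.normSq ((ψ : G → ℂ) 1) : ℝ) = 0 := by
    exact_mod_cast hsum
  set t : IrrCharacter G := ⟨fun _ => (1 : ℂ), isIrrCharacter_one⟩ with ht
  have htne : t ≠ χ := by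
    intro h
    exact hne1 (congrArg Subtype.val h).symm
  have hle := Finset.single_le_sum
    (f := fun ψ : IrrCharacter G => (if ψ = χ then 0 else Complex.normSq ((ψ : G → ℂ) 1) : ℝ))
    (fun ψ _ => by
      show (0 : ℝ) ≤ if ψ = χ then 0 else Complex.normSq ((ψ : G → ℂ) 1)
      split_ifs
      · exact le_refl _
      · exact Complex.normSq_nonneg _) (Finset.mem_univ t)
  simp only [if_neg htne] at hle
  rw [hsum'] at hle
  have : Complex.normSq ((t : G → ℂ) 1) = 1 := by
    show Complex.normSq (1 : ℂ) = 1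
    simp
  rw [this] at hle
  linarith

/-- The subgroup of elements lying in the kernel of every irreducible character other than
`χ`. -/
noncomputable def otherKer (χ : IrrCharacter G) : Subgroup G :=
  ⨅ ψ : {ψ : IrrCharacter G // ψ ≠ χ},
    charKer ((ψ : IrrCharacter G) : G → ℂ) (isCharacter_of_isIrr (ψ : IrrCharacter G).2)

theorem mem_otherKer (χ : IrrCharacter G) (x : G) :
    x ∈ otherKer χ ↔ ∀ ψ : IrrCharacter G, ψ ≠ χ → (ψ : G → ℂ) x = (ψ : G → ℂ) 1 := by
  unfold otherKer
  rw [Subgroup.mem_iInf]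
  constructor
  · intro h ψ hψ
    exact h ⟨ψ, hψ⟩
  · intro h ψ
    exact h ψ.1 ψ.2

instance otherKer_normal (χ : IrrCharacter G) : (otherKer χ).Normal := by
  unfold otherKer
  exact Subgroup.normal_iInf_normal (fun ψ => charKer_normal _)

/-- For a normal subgroup `K` and `x ∉ K` there is an irreducible character with `K` in its
kernel but not `x`. -/
theorem exists_irr_ker_not_mem (K : Subgroup G) [K.Normal] (x : G) (hx : x ∉ K) :
    ∃ ψ : IrrCharacter G, (∀ k ∈ K, (ψ : G → ℂ) k = (ψ : G → ℂ) 1) ∧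
      (ψ : G → ℂ) x ≠ (ψ : G → ℂ) 1 := by
  classical
  let _ : Fintype (G ⧸ K) := Fintype.ofFinite _
  by_contra hcon
  push Not at hcon
  have h1 : IsConj (x : G ⧸ K) (1 : G ⧸ K) := by
    apply Helper78.isConj_of_forall_irr_eq
    intro ψ
    have := hcon (Helper77.inflate K ψ) (Helper77.inflate_apply_of_mem K ψ)
    simpa [Helper77.inflate_apply] using this
  have h2 : (x : G ⧸ K) = 1 := isConj_one_left.1 h1
  exact hx ((QuotientGroup.eq_one_iff x).1 h2)

/-- **Gagola's lemma**, character part. -/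
theorem twoClasses_main (hG : 2 < Nat.card G) (χ : IrrCharacter G)
    (hχ : Nat.card {C : ConjClasses G // ∃ g ∈ C.carrier, (χ : G → ℂ) g ≠ 0} = 2) :
    ∃ g : G, g ≠ 1 ∧ (∀ x : G, (χ : G → ℂ) x ≠ 0 ↔ x = 1 ∨ IsConj g x) ∧
      (∀ x : G, x ∈ otherKer χ ↔ x = 1 ∨ IsConj g x) ∧
      (∀ x : G, (χ : G → ℂ) x = (χ : G → ℂ) 1 → x = 1) := by
  classical
  let _ : Fintype G := Fintype.ofFinite G
  obtain ⟨g, hg, hχg, hsupp⟩ := twoClasses_unpack χ hχ
  have hne1 := twoClasses_ne_one hG χ g hg hsupp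
  have hker := twoClasses_other_ker hG χ g hg hχg hsupp
  have hconj : ∀ x, IsConj g x → ∀ ψ : IrrCharacter G, (ψ : G → ℂ) x = (ψ : G → ℂ) g := by
    intro x hx ψ
    exact (Helper78.IsClassFunction.eq_of_isConj (Helper78.isClassFunction_irr ψ) hx).symm
  have hmem : ∀ x : G, x ∈ otherKer χ ↔ x = 1 ∨ IsConj g x := by
    intro x
    rw [mem_otherKer]
    constructor
    · intro h
      exact hsupp x (char_ne_zero_of_other_ker χ hne1 x h)
    · rintro (rfl | h) ψ hψ
      · rfl
      · rw [hconj x h ψ, hker ψ hψ]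
  refine ⟨g, hg, ?_, hmem, ?_⟩
  · intro x
    constructor
    · exact hsupp x
    · rintro (rfl | h)
      · exact char_one_ne_zero_of_isIrr χ.2
      · rw [hconj x h χ]; exact hχg
  · intro x hx
    have hx0 : (χ : G → ℂ) x ≠ 0 := by rw [hx]; exact char_one_ne_zero_of_isIrr χ.2
    rcases hsupp x hx0 with h | h
    · exact h
    · exfalso
      have hg1 : (χ : G → ℂ) g = (χ : G → ℂ) 1 := by rw [← hconj x h χ, hx]
      apply hg
      have h1 : IsConj g 1 := by
        apply Helper78.isConj_of_forall_irr_eq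
        intro ψ
        by_cases hψ : ψ = χ
        · rw [hψ, hg1]
        · exact hker ψ hψ
      exact isConj_one_left.1 h1

/-- **Gagola's lemma**, group part: the subgroup `otherKer χ` is the unique minimal normal
subgroup, and it is elementary abelian. -/
theorem twoClasses_group (χ : IrrCharacter G) (g : G) (hg : g ≠ 1)
    (hmem : ∀ x : G, x ∈ otherKer χ ↔ x = 1 ∨ IsConj g x)
    (hfaith : ∀ x : G, (χ : G → ℂ) x = (χ : G → ℂ) 1 → x = 1) :
    otherKer χ ≠ ⊥ ∧ (∀ K : Subgroup G, K.Normal → K ≠ ⊥ → otherKer χ ≤ K) ∧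
      (∃ p : ℕ, p.Prime ∧ IsElementaryAbelian p (otherKer χ)) ∧
      (∀ x ∈ otherKer χ, ∀ y ∈ otherKer χ, x ≠ 1 → y ≠ 1 → ∃ c : G, c * x * c⁻¹ = y) := by
  classical
  set N := otherKer χ with hN
  have hgN : g ∈ N := (hmem g).2 (Or.inr (IsConj.refl g))
  have hN0 : N ≠ ⊥ := fun h => hg (by rwa [h, Subgroup.mem_bot] at hgN)
  -- minimality
  have hmin : ∀ K : Subgroup G, K.Normal → K ≠ ⊥ → N ≤ K := by
    intro K hK hK0 x hxN
    by_contra hxK
    obtain ⟨ψ, hψK, hψx⟩ := exists_irr_ker_not_mem K x hxK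
    have hψne : ψ ≠ χ := by
      rintro rfl
      apply hK0
      rw [Subgroup.eq_bot_iff_forall]
      intro k hk
      exact hfaith k (hψK k hk)
    exact hψx ((mem_otherKer χ x).1 hxN ψ hψne)
  -- conjugacy
  have hconjN : ∀ x ∈ N, ∀ y ∈ N, x ≠ 1 → y ≠ 1 → ∃ c : G, c * x * c⁻¹ = y := by
    intro x hx y hy hx1 hy1
    have h1 : IsConj g x := ((hmem x).1 hx).resolve_left hx1
    have h2 : IsConj g y := ((hmem y).1 hy).resolve_left hy1
    exact isConj_iff.1 (h1.symm.trans h2)
  refine ⟨hN0, hmin, ?_, hconjN⟩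
  -- elementary abelian
  have hNnt : Nontrivial N := (Subgroup.nontrivial_iff_ne_bot N).2 hN0
  have hcard : 1 < Nat.card N := Finite.one_lt_card
  obtain ⟨p, hp, hpd⟩ := Nat.exists_prime_and_dvd (by omega : Nat.card N ≠ 1)
  have : Fact p.Prime := ⟨hp⟩
  obtain ⟨y, hy⟩ := exists_prime_orderOf_dvd_card' p hpd
  have hy1 : (y : G) ≠ 1 := by
    intro h
    have : y = 1 := Subtype.ext h
    rw [this, orderOf_one] at hy
    exact hp.one_lt.ne hy
  have hyp : (y : G) ^ p = 1 := by
    have : y ^ p = 1 := by rw [← hy]; exact pow_orderOf_eq_one y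
    exact_mod_cast congrArg Subtype.val this
  have hexp : ∀ a ∈ N, a ^ p = 1 := by
    intro a ha
    by_cases ha1 : a = 1
    · rw [ha1, one_pow]
    · obtain ⟨c, hc⟩ := hconjN y y.2 a ha hy1 ha1
      rw [← hc, conj_pow, hyp]; simp
  have hpg : IsPGroup p N := by
    intro a
    refine ⟨1, ?_⟩
    rw [pow_one]
    apply Subtype.ext
    have := hexp a a.2
    exact_mod_cast this
  have hZnt : Nontrivial (Subgroup.center N) := hpg.center_nontrivial
  set Z : Subgroup G := (Subgroup.center N).map N.subtype with hZ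
  have hZnormal : Z.Normal := ConjAct.normal_of_characteristic_of_normal
  have hZ0 : Z ≠ ⊥ := by
    intro h
    obtain ⟨z, hz⟩ := exists_ne (1 : Subgroup.center N)
    apply hz
    have h1 : ((z : N) : G) ∈ Z := Subgroup.mem_map_of_mem _ z.2
    rw [h, Subgroup.mem_bot] at h1
    apply Subtype.ext
    apply Subtype.ext
    exact h1
  have hNZ : N ≤ Z := hmin Z hZnormal hZ0
  refine ⟨p, hp, ⟨⟨⟨?_⟩⟩, hexp⟩⟩
  intro a b
  obtain ⟨z, hz, hza⟩ := Subgroup.mem_map.1 (hNZ a.2)
  have : z = a := Subtype.ext hza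
  rw [← this]
  exact ((Subgroup.mem_center_iff.1 hz) b).symm

end twoClasses

end Cfsg.Agent.Lib.Helper80
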